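import Groth.Agent.L04.CMLoc
import Groth.Agent.L04.LC.Annihilate
import Groth.Agent.L06.ExtDim
import Mathlib.RingTheory.Regular.ProjectiveDimension
import Mathlib.RingTheory.LocalProperties.ProjectiveDimension
import Mathlib.RingTheory.Ideal.KrullsHeightTheorem
import Mathlib.Topology.Compactness.Compact

/-!
# Projective dimension over regular rings

`pd M + depth M ≤ dim` over a regular local ring, spreading out of `pd M_p ≤ n`, finiteness of the
projective dimension over a regular ring, and `ht p + ht (q/p) = ht q`.
-/

universe u

open CategoryTheory Limits RingTheory.Sequence IsLocalRing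

namespace Groth.L04

section Local

variable {R : Type u} [CommRing R] [IsRegularLocalRing R]

theorem exists_regular_generators {d : ℕ} (hd : ringKrullDim R = d) :
    ∃ rs : List R, rs.length = d ∧ IsRegular R rs ∧ Ideal.ofList rs = maximalIdeal R := by
  obtain ⟨s, hs, hs'⟩ := Submodule.FG.exists_span_finset_card_eq_spanFinrank
    (IsNoetherian.noetherian (maximalIdeal R))
  classical
  have hgen : Ideal.ofList s.toList = maximalIdeal R := by
    rw [← hs', Ideal.ofList]
    congr 1
    ext x
    simp
  have hdim : ringKrullDim R = (s.toList.length : ℕ) := by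
    rw [Finset.length_toList, hs]
    exact ((isRegularLocalRing_iff R).1 ‹_›).symm
  refine ⟨s.toList, ?_, Groth.L01.isRegular_of_ofList_eq_maximalIdeal s.toList hgen hdim, hgen⟩
  rw [hdim] at hd
  exact_mod_cast hd

theorem hasProjectiveDimensionLE_residueField {d : ℕ} (hd : ringKrullDim R = d) :
    HasProjectiveDimensionLE (ModuleCat.of R (ResidueField R)) d := by
  obtain ⟨rs, hlen, hreg, hgen⟩ := exists_regular_generators hd
  have h := ModuleCat.projectiveDimension_quotient_eq_length.{u} rs hreg
  let e : Shrink.{u} (R ⧸ Ideal.ofList rs) ≃ₗ[R] ResidueField R :=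
    (Shrink.linearEquiv R _).trans (Submodule.quotEquivOfEq _ _ hgen)
  rw [projectiveDimension_eq_of_iso e.toModuleIso, hlen] at h
  exact (projectiveDimension_le_iff _ d).1 h.le

/-- The projective dimension over a regular local ring is at most the dimension. -/
theorem hasProjectiveDimensionLE_of_regularLocal {d : ℕ} (hd : ringKrullDim R = d)
    (M : ModuleCat.{u} R) : HasProjectiveDimensionLE M d :=
  Groth.L06.ExtDim.hasProjectiveDimensionLT_of_residueField d
    (hasProjectiveDimensionLE_residueField hd) M

theorem hasProjectiveDimensionLE_of_subsingleton {A : Type u} [CommRing A] (M : Type u)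
    [AddCommGroup M] [Module A M] [Subsingleton M] (t : ℕ) :
    HasProjectiveDimensionLE (ModuleCat.of A M) t := by
  haveI := (ModuleCat.isZero_of_subsingleton (ModuleCat.of A M)).hasProjectiveDimensionLT_zero
  exact hasProjectiveDimensionLT_of_ge _ 0 _ (Nat.zero_le _)

/-- Auslander–Buchsbaum over a regular local ring, as an inequality. -/
theorem hasProjectiveDimensionLE_of_dim_le_add_depth (M : Type u) [AddCommGroup M] [Module R M]
    [Module.Finite R M] {d t : ℕ} (hd : ringKrullDim R = d)
    (ht : (d : ℕ∞) ≤ (t : ℕ∞) + LocCoh.depth R M) :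
    HasProjectiveDimensionLE (ModuleCat.of R M) t := by
  rcases subsingleton_or_nontrivial M with hM | hM
  · exact hasProjectiveDimensionLE_of_subsingleton M t
  rcases Nat.lt_or_ge t d with htd | htd
  swap
  · haveI := hasProjectiveDimensionLE_of_regularLocal hd (ModuleCat.of R M)
    exact hasProjectiveDimensionLT_of_ge _ (d + 1) _ (by omega)
  have hdep : ((d - t : ℕ) : ℕ∞) ≤ LocCoh.depth R M := by
    generalize LocCoh.depth R M = e at ht
    induction e with
    | top => exact le_top
    | coe e =>
      have h' : d ≤ t + e := by exact_mod_cast ht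
      exact_mod_cast (by omega : d - t ≤ e)
  obtain ⟨rs, hlen, hrs, hmem⟩ := exists_of_le_idealDepth
    (smul_top_ne_top_of_nontrivial (maximalIdeal.isMaximal R).ne_top) hdep
  have h1 := ModuleCat.projectiveDimension_quotient_eq_add_length_of_isWeaklyRegular
    (ModuleCat.of R M) rs hrs hmem
  have h2 := (projectiveDimension_le_iff _ d).2 (hasProjectiveDimensionLE_of_regularLocal hd
    (ModuleCat.of R ((ModuleCat.of R M : ModuleCat.{u} R) ⧸
      Ideal.ofList rs • (⊤ : Submodule R (ModuleCat.of R M : ModuleCat.{u} R)))))
  rw [h1, hlen] at h2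
  refine (projectiveDimension_le_iff _ t).1 ?_
  revert h2
  generalize projectiveDimension (ModuleCat.of R M) = P
  intro h2
  induction P with
  | bot => exact bot_le
  | coe P =>
    have h3 : P + ((d - t : ℕ) : ℕ∞) ≤ (d : ℕ∞) := by
      rw [← WithBot.coe_le_coe, WithBot.coe_add, WithBot.coe_natCast, WithBot.coe_natCast]
      exact h2
    induction P with
    | top => simp at h3
    | coe P =>
      have h4 : P + (d - t) ≤ d := by exact_mod_cast h3
      exact_mod_cast (by omega : P ≤ t)

/-- `ht p + dim R/p = dim R` in a regular local ring. -/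
theorem height_add_ringKrullDim_quotient (p : Ideal R) [p.IsPrime] :
    ringKrullDim (R ⧸ p) + (p.height : WithBot ℕ∞) = ringKrullDim R := by
  have hCM := isCohenMacaulayLocalRing_of_regular R
  haveI := hCM
  have h1 := supportDim_eq_add_idealDepth (M := R) (Ideal.IsPrime.ne_top ‹_›) hCM.supportDim_eq_depth
  rw [(isCohenMacaulayRing_iff_height.1 (isCohenMacaulayRing_of_local R)) p (Ideal.IsPrime.ne_top ‹_›),
    Module.supportDim_self_eq_ringKrullDim,
    Module.supportDim_eq_of_equiv (Submodule.quotEquivOfEq _ p (by rw [smul_eq_mul, Ideal.mul_top])),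
    Module.supportDim_quotient_eq_ringKrullDim] at h1
  exact h1.symm

end Local

section Ring

variable {R : Type u} [CommRing R]

theorem isCohenMacaulayRing_of_regularRing [IsRegularRing R] : LocCoh.IsCohenMacaulayRing R where
  isCohenMacaulayLocalRing_localization p _ :=
    haveI : IsRegularLocalRing (Localization.AtPrime p) :=
      IsRegularRing.isRegularLocalRing_localization p
    isCohenMacaulayLocalRing_of_regular (Localization.AtPrime p)

theorem idealDepth_eq_height_of_regularRing [IsRegularRing R] (p : Ideal R) [p.IsPrime] :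
    LocCoh.idealDepth p R = p.height :=
  isCohenMacaulayRing_iff_height.1 isCohenMacaulayRing_of_regularRing p (Ideal.IsPrime.ne_top ‹_›)

/-- `ht p + ht (q/p) = ht q` in a regular ring. -/
theorem height_add_height_quotient [IsRegularRing R] (p q : Ideal R) [p.IsPrime] [q.IsPrime]
    (hpq : p ≤ q) : p.height + (q.map (Ideal.Quotient.mk p)).height = q.height := by
  haveI : IsRegularLocalRing (Localization.AtPrime q) := IsRegularRing.isRegularLocalRing_localization q
  have hdisj : Disjoint (q.primeCompl : Set R) (p : Set R) :=
    Set.disjoint_left.2 fun x hx hxp => hx (hpq hxp)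
  haveI := IsLocalization.isPrime_of_isPrime_disjoint q.primeCompl (Localization.AtPrime q) p ‹_› hdisj
  have h := height_add_ringKrullDim_quotient (p.map (algebraMap R (Localization.AtPrime q)))
  rw [ringKrullDim_localization_quotient hpq, IsLocalization.height_map_of_disjoint q.primeCompl p hdisj,
    IsLocalization.AtPrime.ringKrullDim_eq_height q] at h
  rw [add_comm]
  exact_mod_cast h

variable [IsNoetherianRing R]

/-- The converse of `localized_ker_pd_le`. -/
theorem localized_pd_of_ker (p : Ideal R) [p.IsPrime] {M : Type u} [AddCommGroup M] [Module R M]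
    {k : ℕ} (g : (Fin k → R) →ₗ[R] M) (hg : Function.Surjective g) (n : ℕ)
    (h : HasProjectiveDimensionLE (ModuleCat.of (Localization.AtPrime p)
      (LocalizedModule p.primeCompl (LinearMap.ker g))) n) :
    HasProjectiveDimensionLE
      (ModuleCat.of (Localization.AtPrime p) (LocalizedModule p.primeCompl M)) (n + 1) := by
  let S := p.primeCompl
  let fS : LocalizedModule S (LinearMap.ker g) →ₗ[Localization.AtPrime p]
      LocalizedModule S (Fin k → R) := LocalizedModule.map S (LinearMap.ker g).subtype
  let gS : LocalizedModule S (Fin k → R) →ₗ[Localization.AtPrime p] LocalizedModule S M :=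
    LocalizedModule.map S g
  have hex : Function.Exact fS gS := LocalizedModule.map_exact S _ _ g.exact_subtype_ker_map
  have hfS : Function.Injective fS := LocalizedModule.map_injective S _ (LinearMap.ker g).injective_subtype
  have hgS : Function.Surjective gS := LocalizedModule.map_surjective S g hg
  have hS := Groth.L04.LC.ses_shortExact (R := Localization.AtPrime p)
    (M := LocalizedModule S (LinearMap.ker g)) fS gS hfS hgS hex
  haveI : Module.Projective (Localization.AtPrime p) (LocalizedModule S (Fin k → R)) := inferInstance
  have hproj : Projective (ModuleCat.of (Localization.AtPrime p) (LocalizedModule S (Fin k → R))) :=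
    (IsProjective.iff_projective (R := Localization.AtPrime p) _).1 ‹_›
  exact (hS.hasProjectiveDimensionLT_X₃_iff n hproj).2 h

omit [IsNoetherianRing R] in
theorem projective_localized_of_factor (q : Ideal R) [q.IsPrime] {M : Type u} [AddCommGroup M]
    [Module R M] {k : ℕ} {s : R} (hs : s ∉ q) (u : M →ₗ[R] (Fin k → R))
    (v : (Fin k → R) →ₗ[R] M) (huv : v.comp u = s • LinearMap.id) :
    Module.Projective (Localization.AtPrime q) (LocalizedModule q.primeCompl M) := by
  obtain ⟨a, ha⟩ := (IsLocalization.map_units (Localization.AtPrime q) (⟨s, hs⟩ : q.primeCompl)).exists_left_inv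
  refine Module.Projective.of_split (LocalizedModule.map q.primeCompl u)
    (a • LocalizedModule.map q.primeCompl v) ?_
  refine LinearMap.ext fun x => ?_
  induction x using LocalizedModule.induction_on with
  | h m r =>
    simp only [LinearMap.comp_apply, LinearMap.smul_apply, LinearMap.id_apply, LocalizedModule.map_mk]
    rw [show v (u m) = s • m from LinearMap.congr_fun huv m, ← LocalizedModule.smul'_mk,
      ← algebraMap_smul (Localization.AtPrime q) s, smul_smul, ha, one_smul]

/-- `pd M_p ≤ n` spreads to a basic open neighbourhood. -/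
theorem exists_forall_pd_le : ∀ (n : ℕ) (p : Ideal R) [p.IsPrime] (M : Type u) [AddCommGroup M]
    [Module R M] [Module.Finite R M], HasProjectiveDimensionLE
      (ModuleCat.of (Localization.AtPrime p) (LocalizedModule p.primeCompl M)) n →
    ∃ s, s ∉ p ∧ ∀ (q : Ideal R) [q.IsPrime], s ∉ q → HasProjectiveDimensionLE
      (ModuleCat.of (Localization.AtPrime q) (LocalizedModule q.primeCompl M)) n := by
  intro n
  induction n with
  | zero =>
    intro p _ M _ _ _ h
    haveI : Projective (ModuleCat.of (Localization.AtPrime p) (LocalizedModule p.primeCompl M)) :=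
      (projective_iff_hasProjectiveDimensionLE_zero _).2 h
    haveI : Module.Projective (Localization.AtPrime p) (LocalizedModule p.primeCompl M) :=
      (IsProjective.iff_projective (R := Localization.AtPrime p) _).2 inferInstance
    obtain ⟨k, s, hs, u, v, huv⟩ := Groth.L04.LC.exists_factor_free_atPrime p M
    refine ⟨s, hs, fun q _ hq => ?_⟩
    haveI := projective_localized_of_factor q hq u v huv
    exact (projective_iff_hasProjectiveDimensionLE_zero _).1
      ((IsProjective.iff_projective (R := Localization.AtPrime q) _).1 inferInstance)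
  | succ n ih =>
    intro p _ M _ _ _ h
    obtain ⟨k, g, hg⟩ := Module.Finite.exists_fin' R M
    haveI : Module.Finite R (LinearMap.ker g) := Module.Finite.of_fg (IsNoetherian.noetherian _)
    obtain ⟨s, hs, hs'⟩ := ih p (LinearMap.ker g) (Groth.L04.LC.localized_ker_pd_le p g hg n h)
    exact ⟨s, hs, fun q _ hq => localized_pd_of_ker q g hg n (hs' q hq)⟩

theorem isOpen_pdLE (M : Type u) [AddCommGroup M] [Module R M] [Module.Finite R M] (n : ℕ) :
    IsOpen {p : PrimeSpectrum R | HasProjectiveDimensionLE
      (ModuleCat.of (Localization.AtPrime p.asIdeal) (LocalizedModule p.asIdeal.primeCompl M)) n} := by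
  refine isOpen_iff_forall_mem_open.2 fun p hp => ?_
  obtain ⟨s, hs, hs'⟩ := exists_forall_pd_le n p.asIdeal M hp
  exact ⟨PrimeSpectrum.basicOpen s, fun q hq => hs' q.asIdeal hq, (PrimeSpectrum.basicOpen s).2, hs⟩

end Ring

/-- A finite module over a regular ring has bounded projective dimension at all primes. -/
theorem exists_pd_bound_local {R : Type u} [CommRing R] [IsRegularRing R] (M : Type u)
    [AddCommGroup M] [Module R M] [Module.Finite R M] :
    ∃ T : ℕ, ∀ p : PrimeSpectrum R, HasProjectiveDimensionLE
      (ModuleCat.of (Localization.AtPrime p.asIdeal) (LocalizedModule p.asIdeal.primeCompl M)) T := by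
  let U : ℕ → Set (PrimeSpectrum R) := fun n => {p | HasProjectiveDimensionLE
    (ModuleCat.of (Localization.AtPrime p.asIdeal) (LocalizedModule p.asIdeal.primeCompl M)) n}
  have hcov : Set.univ ⊆ ⋃ n, U n := fun p _ => by
    haveI : IsRegularLocalRing (Localization.AtPrime p.asIdeal) :=
      IsRegularRing.isRegularLocalRing_localization p.asIdeal
    obtain ⟨d, hd⟩ := Groth.L01.exists_dim_eq_nat (R := Localization.AtPrime p.asIdeal)
    exact Set.mem_iUnion.2 ⟨d, hasProjectiveDimensionLE_of_regularLocal hd _⟩
  have hmono : Monotone U := fun m n hmn p hp => by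
    change HasProjectiveDimensionLE _ m at hp
    haveI := hp
    exact hasProjectiveDimensionLT_of_ge _ (m + 1) _ (by omega)
  obtain ⟨T, hT⟩ := (isCompact_univ (X := PrimeSpectrum R)).elim_directed_cover U (isOpen_pdLE M) hcov
    hmono.directed_le
  exact ⟨T, fun p => hT (Set.mem_univ p)⟩

/-- S5165. -/
theorem exists_hasProjectiveDimensionLE_of_isRegularRing {R : Type u} [CommRing R] [IsRegularRing R]
    (M : Type u) [AddCommGroup M] [Module R M] [Module.Finite R M] :
    ∃ d : ℕ, HasProjectiveDimensionLE (ModuleCat.of R M) d := by
  obtain ⟨T, hT⟩ := exists_pd_bound_local (R := R) M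
  refine ⟨T, ((ModuleCat.of R M).hasProjectiveDimensionLE_iff_forall_primeSpectrum T).2 fun p => ?_⟩
  have h := hT p
  let e : ((ModuleCat.of R M).localizedModule p.asIdeal.primeCompl) ≅
      ModuleCat.of (Localization.AtPrime p.asIdeal) (LocalizedModule p.asIdeal.primeCompl M) :=
    (Shrink.linearEquiv (Localization.AtPrime p.asIdeal) _).toModuleIso
  exact (haveI := h; hasProjectiveDimensionLT_of_iso e.symm (T + 1))

end Groth.L04
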