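import Groth.Prelude.Def_CAlg
import Mathlib.RingTheory.Depth.Rees
import Mathlib.RingTheory.KrullDimension.Regular
import Mathlib.RingTheory.Regular.Flat
import Mathlib.RingTheory.Finiteness.Nakayama

/-!
# Depth along an ideal: regular sequences and Ext
-/

universe u v w

open CategoryTheory RingTheory.Sequence Ideal
open scoped Pointwise

namespace Groth.L04

variable {R : Type u} [CommRing R]

section Basic

variable {I : Ideal R} {M : Type v} [AddCommGroup M] [Module R M]

theorem idealDepth_eq_top (h : I • (⊤ : Submodule R M) = ⊤) : LocCoh.idealDepth I M = ⊤ :=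
  if_pos h

theorem length_le_idealDepth {rs : List R} (hrs : IsWeaklyRegular M rs) (hI : ∀ r ∈ rs, r ∈ I) :
    (rs.length : ℕ∞) ≤ LocCoh.idealDepth I M := by
  rw [LocCoh.idealDepth]
  split
  · exact le_top
  · exact le_iSup₂_of_le rs ⟨hrs, hI⟩ le_rfl

theorem exists_of_le_idealDepth (hIM : I • (⊤ : Submodule R M) ≠ ⊤) {n : ℕ}
    (h : (n : ℕ∞) ≤ LocCoh.idealDepth I M) :
    ∃ rs : List R, rs.length = n ∧ IsWeaklyRegular M rs ∧ ∀ r ∈ rs, r ∈ I := by
  rcases n with _ | n
  · exact ⟨[], rfl, IsWeaklyRegular.nil R M, by simp⟩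
  by_contra hne
  push Not at hne
  have hle : LocCoh.idealDepth I M ≤ n := by
    rw [LocCoh.idealDepth, if_neg hIM]
    refine iSup₂_le fun rs ⟨hrs, hI⟩ => ?_
    by_contra hlt
    rw [not_le, Nat.cast_lt] at hlt
    have h1 : IsWeaklyRegular M (rs.take (n + 1)) := by
      rw [← List.take_append_drop (n + 1) rs, isWeaklyRegular_append_iff] at hrs
      exact hrs.1
    obtain ⟨r, hr, hrI⟩ := hne _ (by rw [List.length_take]; omega) h1
    exact hrI (hI r (List.mem_of_mem_take hr))
  have := h.trans hle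
  rw [Nat.cast_le] at this
  omega

theorem idealDepth_congr {M' : Type w} [AddCommGroup M'] [Module R M'] (e : M ≃ₗ[R] M') :
    LocCoh.idealDepth I M = LocCoh.idealDepth I M' := by
  have h1 : I • (⊤ : Submodule R M) = ⊤ ↔ I • (⊤ : Submodule R M') = ⊤ := by
    constructor
    · intro h
      have := congrArg (Submodule.map e.toLinearMap) h
      rwa [Submodule.map_smul'', Submodule.map_top, LinearEquiv.range] at this
    · intro h
      have := congrArg (Submodule.map e.symm.toLinearMap) h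
      rwa [Submodule.map_smul'', Submodule.map_top, LinearEquiv.range] at this
  unfold LocCoh.idealDepth
  simp only [h1, e.isWeaklyRegular_congr]

theorem one_le_idealDepth_of_regular {x : R} (hx : x ∈ I) (hreg : IsSMulRegular M x) :
    (1 : ℕ∞) ≤ LocCoh.idealDepth I M := by
  have := length_le_idealDepth (rs := [x]) ((isWeaklyRegular_singleton_iff M x).2 hreg)
    (by simpa using hx)
  simpa using this

theorem isRegular_of_isWeaklyRegular (hIM : I • (⊤ : Submodule R M) ≠ ⊤) {rs : List R}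
    (hrs : IsWeaklyRegular M rs) (hI : ∀ r ∈ rs, r ∈ I) : IsRegular M rs := by
  refine ⟨hrs, fun h => hIM (top_le_iff.1 ?_)⟩
  conv_lhs => rw [h]
  exact Submodule.smul_mono_left (Ideal.span_le.2 hI)

theorem exists_smul_eq_self [Module.Finite R M] (h : I • (⊤ : Submodule R M) = ⊤) :
    ∃ a ∈ I, ∀ m : M, a • m = m := by
  obtain ⟨a, ha, hm⟩ := Submodule.exists_mem_and_smul_eq_self_of_fg_of_le_smul I ⊤
    Module.Finite.fg_top h.ge
  exact ⟨a, ha, fun m => hm m trivial⟩

theorem smul_top_ne_top_of_mem_support [Module.Finite R M] {p : PrimeSpectrum R}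
    (hp : p ∈ Module.support R M) (hI : I ≤ p.asIdeal) : I • (⊤ : Submodule R M) ≠ ⊤ := by
  intro h
  obtain ⟨a, ha, hm⟩ := exists_smul_eq_self h
  rw [Module.support_eq_zeroLocus, PrimeSpectrum.mem_zeroLocus] at hp
  refine p.isPrime.ne_top ((Ideal.eq_top_iff_one _).2 ?_)
  have h1 : 1 - a ∈ p.asIdeal := hp (Module.mem_annihilator.2 fun m => by
    rw [sub_smul, one_smul, hm, sub_self])
  simpa using add_mem h1 (hI ha)

theorem exists_mem_support_of_smul_top_ne_top [Module.Finite R M]
    (h : I • (⊤ : Submodule R M) ≠ ⊤) : ∃ p ∈ Module.support R M, I ≤ p.asIdeal := by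
  haveI : Nontrivial (M ⧸ I • (⊤ : Submodule R M)) := Submodule.Quotient.nontrivial_iff.2 h
  obtain ⟨p, hp⟩ := (Module.nonempty_support_iff (R := R)).2 (inferInstance : Nontrivial (M ⧸ I • (⊤ : Submodule R M)))
  refine ⟨p, Module.support_subset_of_surjective _ (Submodule.mkQ_surjective _) hp, ?_⟩
  rw [Module.support_eq_zeroLocus, PrimeSpectrum.mem_zeroLocus] at hp
  refine le_trans (fun a ha => Module.mem_annihilator.2 fun x => ?_) hp
  obtain ⟨m, rfl⟩ := Submodule.mkQ_surjective _ x
  rw [← map_smul, Submodule.mkQ_apply, Submodule.Quotient.mk_eq_zero]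
  exact Submodule.smul_mem_smul ha trivial

theorem length_le_supportDim [IsNoetherianRing R] [Module.Finite R M] {rs : List R}
    (hrs : IsWeaklyRegular M rs) (p : PrimeSpectrum R) (hp : p ∈ Module.support R M)
    (hI : ∀ r ∈ rs, r ∈ p.asIdeal) :
    ((rs.length : ℕ∞) : WithBot ℕ∞) ≤
      Module.supportDim (Localization.AtPrime p.asIdeal) (LocalizedModule p.asIdeal.primeCompl M) := by
  haveI := Module.mem_support_iff.1 hp
  have hreg := hrs.isRegular_of_isLocalizedModule_of_mem (Localization.AtPrime p.asIdeal) p.asIdeal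
    (LocalizedModule.mkLinearMap p.asIdeal.primeCompl M) hI
  obtain ⟨e, he⟩ := WithBot.ne_bot_iff_exists.1
    ((Module.supportDim_ne_bot_iff_nontrivial (Localization.AtPrime p.asIdeal) _).2
      (hreg.quot_ofList_smul_nontrivial ⊤))
  rw [← Module.supportDim_add_length_eq_supportDim_of_isRegular _ hreg, List.length_map, ← he]
  exact_mod_cast le_add_self

theorem idealDepth_le_supportDim [IsNoetherianRing R] [Module.Finite R M]
    (p : PrimeSpectrum R) (hp : p ∈ Module.support R M) (hI : I ≤ p.asIdeal) :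
    ((LocCoh.idealDepth I M : ℕ∞) : WithBot ℕ∞) ≤
      Module.supportDim (Localization.AtPrime p.asIdeal) (LocalizedModule p.asIdeal.primeCompl M) := by
  haveI := Module.mem_support_iff.1 hp
  obtain ⟨d, hd⟩ := WithBot.ne_bot_iff_exists.1
    ((Module.supportDim_ne_bot_iff_nontrivial (Localization.AtPrime p.asIdeal) _).2
      (inferInstance : Nontrivial (LocalizedModule p.asIdeal.primeCompl M)))
  rw [← hd, WithBot.coe_le_coe, ← ENat.forall_natCast_le_iff_le]
  intro n hn
  obtain ⟨rs, hlen, hrs, hrsI⟩ := exists_of_le_idealDepth (smul_top_ne_top_of_mem_support hp hI) hn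
  have := length_le_supportDim hrs p hp fun r hr => hI (hrsI r hr)
  rw [← hd, WithBot.coe_le_coe, hlen] at this
  exact this

theorem idealDepth_ne_top [IsNoetherianRing R] [Module.Finite R M]
    (h : I • (⊤ : Submodule R M) ≠ ⊤) : LocCoh.idealDepth I M ≠ ⊤ := by
  obtain ⟨p, hp, hI⟩ := exists_mem_support_of_smul_top_ne_top h
  intro htop
  have h1 := idealDepth_le_supportDim p hp hI
  have h2 := Module.supportDim_le_ringKrullDim (Localization.AtPrime p.asIdeal)
    (LocalizedModule p.asIdeal.primeCompl M)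
  have h3 : ringKrullDim (Localization.AtPrime p.asIdeal) < ⊤ := ringKrullDim_lt_top
  rw [htop] at h1
  exact absurd ((h1.trans h2).trans_lt h3) (lt_irrefl _)

end Basic

section ExtLemmas

open Abelian

variable {I : Ideal R} {M : Type u} [AddCommGroup M] [Module R M]

/-- Vanishing of `Ext^i(R ⧸ I, M)` below `n`. -/
def ExtVanish (I : Ideal R) (M : Type u) [AddCommGroup M] [Module R M] (n : ℕ) : Prop :=
  ∀ i < n, Subsingleton (Ext (ModuleCat.of R (R ⧸ I)) (ModuleCat.of R M) i)

theorem subsingleton_ext_of_smul_eq_self {N : ModuleCat.{u} R} {a : R}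
    (ha : a ∈ Module.annihilator R N) (hM : ∀ m : M, a • m = m) (i : ℕ) :
    Subsingleton (Ext N (ModuleCat.of R M) i) := by
  refine subsingleton_of_forall_eq 0 fun x => ?_
  have h1 : a • 𝟙 (ModuleCat.of R M) = 𝟙 (ModuleCat.of R M) := by ext m; exact hM m
  have h2 := ConcreteCategory.congr_hom
    (Ext.postcomp_smul_id_eq_zero_of_mem_annihilator (M := ModuleCat.of R M) ha i) x
  rw [h1] at h2
  exact (Ext.comp_mk₀_id x).symm.trans h2

theorem le_idealDepth_iff_extVanish [IsNoetherianRing R] [Module.Finite R M] (n : ℕ) :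
    (n : ℕ∞) ≤ LocCoh.idealDepth I M ↔ ExtVanish I M n := by
  rcases eq_or_ne (I • (⊤ : Submodule R M)) ⊤ with h | h
  · obtain ⟨a, ha, hm⟩ := exists_smul_eq_self h
    refine ⟨fun _ i _ => subsingleton_ext_of_smul_eq_self (a := a) ?_ hm i,
      fun _ => by rw [idealDepth_eq_top h]; exact le_top⟩
    rwa [Ideal.annihilator_quotient]
  · have hsupp : Module.support R (ModuleCat.of R (R ⧸ I)) = PrimeSpectrum.zeroLocus I := by
      rw [Module.support_eq_zeroLocus, Ideal.annihilator_quotient]
    constructor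
    · intro hn i hi
      obtain ⟨rs, hlen, hrs, hI⟩ := exists_of_le_idealDepth h hn
      exact ModuleCat.subsingleton_ext_of_exists_isRegular I _ hsupp.subset (ModuleCat.of R M)
        h.lt_top rs hI (isRegular_of_isWeaklyRegular h hrs hI) i (hlen ▸ hi)
    · intro hn
      obtain ⟨rs, hlen, hI, hrs⟩ := ModuleCat.exists_isRegular_of_exists_subsingleton_ext I n
        (ModuleCat.of R M) h.lt_top (ModuleCat.of R (R ⧸ I)) hsupp hn
      exact hlen ▸ length_le_idealDepth hrs.1 hI

variable {X : ModuleCat.{u} R} {S : ShortComplex (ModuleCat.{u} R)} (hS : S.ShortExact)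

include hS

theorem subsingleton_ext_mid {n : ℕ} (h1 : Subsingleton (Ext X S.X₁ n))
    (h3 : Subsingleton (Ext X S.X₃ n)) : Subsingleton (Ext X S.X₂ n) := by
  refine subsingleton_of_forall_eq 0 fun x => ?_
  obtain ⟨y, rfl⟩ := Ext.covariant_sequence_exact₂ X hS x (Subsingleton.elim _ _)
  rw [Subsingleton.elim y 0, Ext.zero_comp]

theorem subsingleton_ext_right {n : ℕ} (h2 : Subsingleton (Ext X S.X₂ n))
    (h1 : Subsingleton (Ext X S.X₁ (n + 1))) : Subsingleton (Ext X S.X₃ n) := by
  refine subsingleton_of_forall_eq 0 fun x => ?_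
  obtain ⟨y, rfl⟩ := Ext.covariant_sequence_exact₃ X hS x rfl (Subsingleton.elim _ _)
  rw [Subsingleton.elim y 0, Ext.zero_comp]

theorem ext_left_zero (x : Ext X S.X₁ 0) (hx : x.comp (Ext.mk₀ S.f) (add_zero 0) = 0) : x = 0 := by
  haveI := hS.mono_f
  exact Ext.postcomp_mk₀_injective_of_mono X S.f (hx.trans (map_zero _).symm)

theorem subsingleton_ext_left_zero (h2 : Subsingleton (Ext X S.X₂ 0)) :
    Subsingleton (Ext X S.X₁ 0) :=
  subsingleton_of_forall_eq 0 fun x => ext_left_zero hS x (Subsingleton.elim _ _)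

theorem subsingleton_ext_left {n : ℕ} (h3 : Subsingleton (Ext X S.X₃ n))
    (h2 : Subsingleton (Ext X S.X₂ (n + 1))) : Subsingleton (Ext X S.X₁ (n + 1)) := by
  refine subsingleton_of_forall_eq 0 fun x => ?_
  obtain ⟨y, rfl⟩ := Ext.covariant_sequence_exact₁ X hS x (Subsingleton.elim _ _) rfl
  rw [Subsingleton.elim y 0, Ext.zero_comp]

end ExtLemmas

section Exact

variable [IsNoetherianRing R] {I : Ideal R} {N' N N'' : Type u} [AddCommGroup N'] [Module R N']
  [Module.Finite R N'] [AddCommGroup N] [Module R N] [Module.Finite R N] [AddCommGroup N'']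
  [Module R N''] [Module.Finite R N''] {f : N' →ₗ[R] N} {g : N →ₗ[R] N''}
  (hf : Function.Injective f) (hg : Function.Surjective g) (hfg : Function.Exact f g)

include hf hg hfg

theorem shortExact_mk : (ShortComplex.moduleCatMkOfKerLERange (ModuleCat.ofHom f) (ModuleCat.ofHom g)
    (LinearMap.exact_iff.1 hfg).ge).ShortExact := by
  exact { exact := (ShortComplex.moduleCat_exact_iff_range_eq_ker _).2 (LinearMap.exact_iff.1 hfg).symm
          mono_f := (ModuleCat.mono_iff_injective _).2 hf
          epi_g := (ModuleCat.epi_iff_surjective _).2 hg }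

theorem le_idealDepth_mid {n : ℕ} (h1 : (n : ℕ∞) ≤ LocCoh.idealDepth I N')
    (h3 : (n : ℕ∞) ≤ LocCoh.idealDepth I N'') : (n : ℕ∞) ≤ LocCoh.idealDepth I N := by
  rw [le_idealDepth_iff_extVanish] at *
  exact fun i hi => subsingleton_ext_mid (shortExact_mk hf hg hfg) (h1 i hi) (h3 i hi)

theorem le_idealDepth_right {n : ℕ} (h1 : ((n + 1 : ℕ) : ℕ∞) ≤ LocCoh.idealDepth I N')
    (h2 : (n : ℕ∞) ≤ LocCoh.idealDepth I N) : (n : ℕ∞) ≤ LocCoh.idealDepth I N'' := by
  rw [le_idealDepth_iff_extVanish] at *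
  exact fun i hi => subsingleton_ext_right (shortExact_mk hf hg hfg) (h2 i hi) (h1 (i + 1) (by omega))

theorem le_idealDepth_left {n : ℕ} (h2 : ((n + 1 : ℕ) : ℕ∞) ≤ LocCoh.idealDepth I N)
    (h3 : (n : ℕ∞) ≤ LocCoh.idealDepth I N'') : ((n + 1 : ℕ) : ℕ∞) ≤ LocCoh.idealDepth I N' := by
  rw [le_idealDepth_iff_extVanish] at *
  rintro (_ | i) hi
  · exact subsingleton_ext_left_zero (shortExact_mk hf hg hfg) (h2 0 hi)
  · exact subsingleton_ext_left (shortExact_mk hf hg hfg) (h3 i (by omega)) (h2 (i + 1) hi)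

end Exact

section Quotient

open Abelian

variable [IsNoetherianRing R] {I : Ideal R} {M : Type u} [AddCommGroup M] [Module R M]
  [Module.Finite R M]

theorem le_idealDepth_quotSMulTop_iff {x : R} (hx : x ∈ I) (hreg : IsSMulRegular M x) (n : ℕ) :
    (n : ℕ∞) ≤ LocCoh.idealDepth I (QuotSMulTop x M) ↔
      ((n + 1 : ℕ) : ℕ∞) ≤ LocCoh.idealDepth I M := by
  have hS := (show IsSMulRegular (ModuleCat.of R M) x from hreg).smulShortComplex_shortExact
  rw [le_idealDepth_iff_extVanish, le_idealDepth_iff_extVanish]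
  refine ⟨fun h i hi => ?_, fun h i hi =>
    subsingleton_ext_right hS (h i (by omega)) (h (i + 1) (by omega))⟩
  have hzero : ∀ y : Ext (ModuleCat.of R (R ⧸ I)) (ModuleCat.of R M) i,
      y.comp (Ext.mk₀ (ModuleCat.smulShortComplex (ModuleCat.of R M) x).f) (add_zero i) = 0 := by
    intro y
    rw [ModuleCat.smulShortComplex_f_eq_smul_id]
    exact ConcreteCategory.congr_hom (Ext.postcomp_smul_id_eq_zero_of_mem_annihilator
      (M := ModuleCat.of R M) (N := ModuleCat.of R (R ⧸ I)) (r := x)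
      (by rwa [Ideal.annihilator_quotient]) i) y
  refine subsingleton_of_forall_eq 0 fun y => ?_
  rcases i with _ | i
  · exact ext_left_zero hS y (hzero y)
  · obtain ⟨z, rfl⟩ := Ext.covariant_sequence_exact₁ _ hS y (hzero y) rfl
    rw [@Subsingleton.elim _ (h i (by omega)) z 0]
    exact map_zero (hS.extClass.postcomp _ rfl)

theorem le_idealDepth_quotient_iff {rs : List R} (hrs : IsWeaklyRegular M rs)
    (hI : ∀ r ∈ rs, r ∈ I) (n : ℕ) :
    (n : ℕ∞) ≤ LocCoh.idealDepth I (M ⧸ Ideal.ofList rs • (⊤ : Submodule R M)) ↔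
      ((n + rs.length : ℕ) : ℕ∞) ≤ LocCoh.idealDepth I M := by
  induction rs generalizing M n with
  | nil =>
    rw [idealDepth_congr (Submodule.quotEquivOfEqBot (Ideal.ofList ([] : List R) • (⊤ : Submodule R M))
      (by simp)), List.length_nil, add_zero]
  | cons a rs ih =>
    rw [isWeaklyRegular_cons_iff] at hrs
    rw [List.forall_mem_cons] at hI
    rw [idealDepth_congr (Submodule.quotOfListConsSMulTopEquivQuotSMulTopInner M a rs),
      ih hrs.2 hI.2, le_idealDepth_quotSMulTop_iff hI.1 hrs.1, List.length_cons, add_assoc]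

theorem hom_zero_of_one_le {z : M} (h : (1 : ℕ∞) ≤ LocCoh.idealDepth I M)
    (hz : ∀ a ∈ I, a • z = 0) : z = 0 := by
  have h' : ((1 : ℕ) : ℕ∞) ≤ LocCoh.idealDepth I M := by simpa using h
  rw [le_idealDepth_iff_extVanish] at h'
  haveI := h' 0 Nat.one_pos
  haveI : Subsingleton ((R ⧸ I) →ₗ[R] M) :=
    (Ext.addEquiv₀.trans ModuleCat.homAddEquiv :
      Ext (ModuleCat.of R (R ⧸ I)) (ModuleCat.of R M) 0 ≃+ _).symm.subsingleton
  have := LinearMap.congr_fun (Subsingleton.elim (Submodule.liftQ I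
    (LinearMap.toSpanSingleton R M z) (fun a ha => by simpa using hz a ha)) 0) (Submodule.Quotient.mk 1)
  exact (one_smul R z).symm.trans this

/-- A regular sequence after which some nonzero element is killed by `I` has maximal length. -/
theorem idealDepth_eq_length {rs : List R} (hrs : IsWeaklyRegular M rs) (hI : ∀ r ∈ rs, r ∈ I)
    {z : M ⧸ Ideal.ofList rs • (⊤ : Submodule R M)} (hz0 : z ≠ 0) (hz : ∀ a ∈ I, a • z = 0) :
    LocCoh.idealDepth I M = rs.length := by
  refine le_antisymm ?_ (length_le_idealDepth hrs hI)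
  by_contra h
  rw [not_le] at h
  refine hz0 (hom_zero_of_one_le ?_ hz)
  have := (le_idealDepth_quotient_iff hrs hI 1).2
    (by rw [add_comm]; push_cast; exact Order.add_one_le_of_lt h)
  simpa using this

omit [Module.Finite R M] in
theorem exists_regular_or_killed (I : Ideal R) (M : Type u) [AddCommGroup M] [Module R M]
    [Module.Finite R M] :
    (∃ r ∈ I, IsSMulRegular M r) ∨ ∃ z : M, z ≠ 0 ∧ ∀ a ∈ I, a • z = 0 := by
  by_cases h : Subsingleton ((R ⧸ I) →ₗ[R] M)
  · left
    obtain ⟨r, hr, hreg⟩ := IsSMulRegular.subsingleton_linearMap_iff.1 h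
    rw [Ideal.annihilator_quotient] at hr
    exact ⟨r, hr, hreg⟩
  · right
    rw [not_subsingleton_iff_nontrivial] at h
    obtain ⟨φ, hφ⟩ := exists_ne (0 : (R ⧸ I) →ₗ[R] M)
    refine ⟨φ (Submodule.Quotient.mk 1), fun h0 => hφ (LinearMap.ext fun y => ?_), fun a ha => ?_⟩
    · obtain ⟨b, rfl⟩ := Submodule.mkQ_surjective I y
      rw [Submodule.mkQ_apply, show (Submodule.Quotient.mk b : R ⧸ I) = b • Submodule.Quotient.mk 1 by
        rw [← Submodule.Quotient.mk_smul, smul_eq_mul, mul_one], map_smul, h0, smul_zero]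
      rfl
    · rw [← map_smul, ← Submodule.Quotient.mk_smul, smul_eq_mul, mul_one,
        (Submodule.Quotient.mk_eq_zero I).2 ha, map_zero]

/-- Maximal regular sequences exist. -/
theorem exists_maximal_regular (hIM : I • (⊤ : Submodule R M) ≠ ⊤) {rs : List R}
    (hrs : IsWeaklyRegular M rs) (hI : ∀ r ∈ rs, r ∈ I) :
    ∃ rs' : List R, rs <+: rs' ∧ IsWeaklyRegular M rs' ∧ (∀ r ∈ rs', r ∈ I) ∧
      ∃ z : M ⧸ Ideal.ofList rs' • (⊤ : Submodule R M), z ≠ 0 ∧ ∀ a ∈ I, a • z = 0 := by
  obtain ⟨D, hD⟩ := ENat.ne_top_iff_exists.1 (idealDepth_ne_top hIM)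
  induction hk : D - rs.length generalizing rs with
  | zero =>
    rcases exists_regular_or_killed I (M ⧸ Ideal.ofList rs • (⊤ : Submodule R M)) with
      ⟨r, hr, hreg⟩ | hz
    · have := length_le_idealDepth (rs := rs ++ [r])
        ((isWeaklyRegular_append_iff M rs [r]).2 ⟨hrs, (isWeaklyRegular_singleton_iff _ r).2 hreg⟩)
        (by simp only [List.forall_mem_append, List.forall_mem_singleton]; exact ⟨hI, hr⟩)
      rw [← hD, List.length_append, List.length_singleton] at this
      have : rs.length + 1 ≤ D := by exact_mod_cast this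
      omega
    · exact ⟨rs, List.prefix_refl _, hrs, hI, hz⟩
  | succ k ih =>
    rcases exists_regular_or_killed I (M ⧸ Ideal.ofList rs • (⊤ : Submodule R M)) with
      ⟨r, hr, hreg⟩ | hz
    · obtain ⟨rs', h1, h2, h3, h4⟩ := ih
        ((isWeaklyRegular_append_iff M rs [r]).2 ⟨hrs, (isWeaklyRegular_singleton_iff _ r).2 hreg⟩)
        (by simp only [List.forall_mem_append, List.forall_mem_singleton]; exact ⟨hI, hr⟩)
        (by rw [List.length_append, List.length_singleton]; omega)
      exact ⟨rs', (List.prefix_append rs [r]).trans h1, h2, h3, h4⟩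
    · exact ⟨rs, List.prefix_refl _, hrs, hI, hz⟩

end Quotient

end Groth.L04
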