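import Groth.Agent.L04.Depth
import Mathlib.RingTheory.Ideal.KrullsHeightTheorem
import Mathlib.RingTheory.Ideal.AssociatedPrime.Localization
import Mathlib.RingTheory.Flat.FaithfullyFlat.Basic
import Mathlib.RingTheory.LocalProperties.Projective
import Mathlib.Algebra.Module.LocalizedModule.Exact
import Mathlib.LinearAlgebra.Dual.Defs

/-!
# Depth: localisation, change of rings, adding one element, kernels
-/

universe u v

open CategoryTheory RingTheory.Sequence Ideal Abelian
open scoped Pointwise TensorProduct

namespace Groth.L04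

variable {R : Type u} [CommRing R]

theorem subsingleton_ext_of_weaklyRegular {I : Ideal R} (N : ModuleCat.{u} R) {k : ℕ}
    (hN : (I ^ k) • (⊤ : Submodule R N) = ⊥) :
    ∀ (rs : List R) (M : ModuleCat.{u} R), IsWeaklyRegular M rs → (∀ r ∈ rs, r ∈ I) →
      ∀ i < rs.length, Subsingleton (Ext N M i) := by
  intro rs
  induction rs with
  | nil => simp
  | cons a rs ih =>
    intro M hM hI i hi
    rw [isWeaklyRegular_cons_iff] at hM
    rw [List.forall_mem_cons] at hI
    have hann : a ^ k ∈ Module.annihilator R N := Module.mem_annihilator.2 fun x =>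
      (Submodule.mem_bot R).1 (hN.le (Submodule.smul_mem_smul (Ideal.pow_mem_pow hI.1 k) trivial))
    rcases i with _ | i
    · haveI : Subsingleton (N →ₗ[R] M) := subsingleton_of_forall_eq 0 fun φ => LinearMap.ext fun x =>
        (hM.1.pow k).right_eq_zero_of_smul (show a ^ k • φ x = 0 by
          rw [← map_smul, Module.mem_annihilator.1 hann x, map_zero])
      exact (Ext.addEquiv₀.trans ModuleCat.homAddEquiv).subsingleton
    · have hS := hM.1.smulShortComplex_shortExact
      have hQ : Subsingleton (Ext N (ModuleCat.of R (QuotSMulTop a M)) i) :=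
        ih _ hM.2 hI.2 i (by simpa using hi)
      let φ := (Ext.mk₀ (ModuleCat.smulShortComplex M a).f).postcomp N (add_zero (i + 1))
      have hinj : Mono (AddCommGrpCat.ofHom φ) :=
        (Ext.covariant_sequence_exact₁' N hS i (i + 1) rfl).mono_g
          ((AddCommGrpCat.isZero_of_iff_subsingleton.2 hQ).eq_zero_of_src _)
      let gk := AddCommGrpCat.ofHom ((Ext.mk₀ (M.smulShortComplex (a ^ k)).f).postcomp N
        (add_zero (i + 1)))
      have mono_gk : Mono gk := by
        simp only [ModuleCat.smulShortComplex_f_eq_smul_id, φ, gk] at hinj ⊢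
        exact (Ext.postcomp_smul_id_mono_iff (a ^ k) (i + 1)).mpr <|
          ((Ext.postcomp_smul_id_mono_iff a (i + 1)).mp hinj).pow k
      have zero_gk : gk = 0 := Ext.postcomp_smul_id_eq_zero_of_mem_annihilator hann (i + 1)
      exact AddCommGrpCat.subsingleton_of_isZero (Limits.IsZero.of_mono_eq_zero _ zero_gk)

section Compare

theorem idealDepth_eq_succ_iff {I : Ideal R} [IsNoetherianRing R] {M : Type u} [AddCommGroup M]
    [Module R M] [Module.Finite R M] (n : ℕ) :
    LocCoh.idealDepth I M = n ↔ ExtVanish I M n ∧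
      Nontrivial (Ext (ModuleCat.of R (R ⧸ I)) (ModuleCat.of R M) n) := by
  rw [← le_idealDepth_iff_extVanish, ← not_subsingleton_iff_nontrivial]
  constructor
  · intro h
    refine ⟨h.ge, fun hs => ?_⟩
    have : ExtVanish I M (n + 1) := fun i hi => by
      rcases Nat.lt_succ_iff_lt_or_eq.1 hi with h' | rfl
      · exact (le_idealDepth_iff_extVanish n).1 h.ge i h'
      · exact hs
    rw [← le_idealDepth_iff_extVanish, h, Nat.cast_le] at this
    omega
  · rintro ⟨h, hs⟩
    refine le_antisymm ?_ h
    by_contra hlt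
    rw [not_le] at hlt
    have : ((n + 1 : ℕ) : ℕ∞) ≤ LocCoh.idealDepth I M := by
      push_cast; exact Order.add_one_le_of_lt hlt
    exact hs ((le_idealDepth_iff_extVanish (n + 1)).1 this n n.lt_succ_self)

theorem idealDepth_quotSMulTop_add_one {I : Ideal R} [IsNoetherianRing R] {M : Type u}
    [AddCommGroup M] [Module R M] [Module.Finite R M] {x : R} (hx : x ∈ I)
    (hreg : IsSMulRegular M x) :
    LocCoh.idealDepth I (QuotSMulTop x M) + 1 = LocCoh.idealDepth I M := by
  refine ENat.eq_of_forall_natCast_le_iff fun a => ?_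
  rcases a with _ | a
  · simp
  · rw [← le_idealDepth_quotSMulTop_iff hx hreg a, Nat.cast_add_one]
    exact ENat.add_le_add_iff_right ENat.one_ne_top

theorem idealDepth_shortExact [IsNoetherianRing R] (I : Ideal R) {N' N N'' : Type u}
    [AddCommGroup N'] [Module R N'] [Module.Finite R N'] [AddCommGroup N] [Module R N]
    [Module.Finite R N] [AddCommGroup N''] [Module R N''] [Module.Finite R N'']
    {f : N' →ₗ[R] N} {g : N →ₗ[R] N''} (hf : Function.Injective f) (hg : Function.Surjective g)
    (hfg : Function.Exact f g) :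
    min (LocCoh.idealDepth I N') (LocCoh.idealDepth I N'') ≤ LocCoh.idealDepth I N ∧
      min (LocCoh.idealDepth I N) (LocCoh.idealDepth I N' - 1) ≤ LocCoh.idealDepth I N'' ∧
      min (LocCoh.idealDepth I N) (LocCoh.idealDepth I N'' + 1) ≤ LocCoh.idealDepth I N' := by
  refine ⟨ENat.forall_natCast_le_iff_le.1 fun a ha => ?_,
    ENat.forall_natCast_le_iff_le.1 fun a ha => ?_, ENat.forall_natCast_le_iff_le.1 fun a ha => ?_⟩
  · rw [le_min_iff] at ha
    exact le_idealDepth_mid hf hg hfg ha.1 ha.2
  · rw [le_min_iff] at ha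
    rcases a with _ | a
    · simp
    · refine le_idealDepth_right hf hg hfg ?_ ha.1
      generalize LocCoh.idealDepth I N' = d at ha ⊢
      cases d with
      | top => exact le_top
      | coe d =>
        have h2 : a + 1 ≤ d - 1 := by exact_mod_cast ha.2
        exact Nat.cast_le.2 (by omega)
  · rw [le_min_iff] at ha
    rcases a with _ | a
    · simp
    · refine le_idealDepth_left hf hg hfg ha.1 ?_
      exact (ENat.add_le_add_iff_right ENat.one_ne_top).1 (by exact_mod_cast ha.2)

end Compare

section Transfer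

variable {M : Type u} [AddCommGroup M] [Module R M]

theorem map_mem_smul_top {S : Type u} [CommRing S] [Algebra R S] {N : Type u} [AddCommGroup N]
    [Module R N] [Module S N] [IsScalarTower R S N] (f : M →ₗ[R] N) {J : Ideal R} {x : M}
    (hx : x ∈ J • (⊤ : Submodule R M)) :
    f x ∈ J.map (algebraMap R S) • (⊤ : Submodule S N) := by
  refine Submodule.smul_induction_on hx (fun c hc d _ => ?_) fun p q hp hq => ?_
  · rw [map_smul, ← algebraMap_smul S c (f d)]
    exact Submodule.smul_mem_smul (Ideal.mem_map_of_mem _ hc) trivial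
  · rw [map_add]; exact add_mem hp hq

/-- Depth after change of rings, given the behaviour of a killed element. -/
theorem idealDepth_map_eq_length {S : Type u} [CommRing S] [IsNoetherianRing S] [Algebra R S]
    {N : Type u} [AddCommGroup N] [Module R N] [Module S N] [IsScalarTower R S N]
    [Module.Finite S N] (f : M →ₗ[R] N) {I : Ideal R} {rs : List R}
    (hrs : IsWeaklyRegular N (rs.map (algebraMap R S))) (hI : ∀ r ∈ rs, r ∈ I) {m : M}
    (hm : ∀ a ∈ I, a • m ∈ Ideal.ofList rs • (⊤ : Submodule R M))
    (hfm : f m ∉ Ideal.ofList (rs.map (algebraMap R S)) • (⊤ : Submodule S N)) :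
    LocCoh.idealDepth (I.map (algebraMap R S)) N = rs.length := by
  rw [idealDepth_eq_length hrs (fun r hr => ?_) (z := Submodule.Quotient.mk (f m))
    (by rwa [Ne, Submodule.Quotient.mk_eq_zero]) (fun a ha => ?_), List.length_map]
  · obtain ⟨r, hr', rfl⟩ := List.mem_map.1 hr
    exact Ideal.mem_map_of_mem _ (hI r hr')
  · rw [← Submodule.Quotient.mk_smul, Submodule.Quotient.mk_eq_zero]
    have hle : I.map (algebraMap R S) ≤ Submodule.comap (LinearMap.toSpanSingleton S N (f m))
        (Ideal.ofList (rs.map (algebraMap R S)) • (⊤ : Submodule S N)) := by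
      rw [Ideal.map_le_iff_le_comap]
      intro b hb
      have := map_mem_smul_top (S := S) f (hm b hb)
      rw [Ideal.map_ofList, map_smul, ← algebraMap_smul S b (f m)] at this
      exact this
    exact hle ha

theorem idealDepth_eq_iInf_depth [IsNoetherianRing R] [Module.Finite R M] (I : Ideal R) :
    LocCoh.idealDepth I M = ⨅ (p : PrimeSpectrum R) (_ : I ≤ p.asIdeal),
      LocCoh.depth (Localization.AtPrime p.asIdeal) (LocalizedModule p.asIdeal.primeCompl M) := by
  refine le_antisymm (le_iInf₂ fun p hp => ?_) ?_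
  · rcases eq_or_ne (I • (⊤ : Submodule R M)) ⊤ with h | h
    · rw [LocCoh.depth]
      refine le_top.trans_eq (idealDepth_eq_top ?_).symm
      rw [eq_top_iff]
      intro z _
      obtain ⟨a, ha, hm⟩ := exists_smul_eq_self h
      obtain ⟨⟨y, s⟩, rfl⟩ := IsLocalizedModule.mk'_surjective p.asIdeal.primeCompl
        (LocalizedModule.mkLinearMap p.asIdeal.primeCompl M) z
      simp only [Function.uncurry_apply_pair]
      rw [← hm y, IsLocalizedModule.mk'_smul, ← algebraMap_smul (Localization.AtPrime p.asIdeal) a]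
      exact Submodule.smul_mem_smul
        ((IsLocalization.AtPrime.to_map_mem_maximal_iff _ p.asIdeal a).2 (hp ha)) trivial
    · refine ENat.forall_natCast_le_iff_le.1 fun n hn => ?_
      obtain ⟨rs, rfl, hrs, hI⟩ := exists_of_le_idealDepth h hn
      have := hrs.of_isLocalizedModule (Localization.AtPrime p.asIdeal) p.asIdeal.primeCompl
        (LocalizedModule.mkLinearMap p.asIdeal.primeCompl M)
      refine le_trans (le_of_eq ?_) (length_le_idealDepth this fun r hr => ?_)
      · rw [List.length_map]
      · obtain ⟨r, hr', rfl⟩ := List.mem_map.1 hr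
        exact (IsLocalization.AtPrime.to_map_mem_maximal_iff _ p.asIdeal r).2 (hp (hI r hr'))
  · rcases eq_or_ne (I • (⊤ : Submodule R M)) ⊤ with h | h
    · rw [idealDepth_eq_top h]; exact le_top
    obtain ⟨rs, -, hrs, hI, z, hz0, hz⟩ := exists_maximal_regular h (IsWeaklyRegular.nil R M)
      (by simp)
    obtain ⟨q, hq, hzq⟩ := exists_le_isAssociatedPrime_of_isNoetherianRing R z hz0
    obtain ⟨hqp, w, hw⟩ := isAssociatedPrime_iff.1 hq
    have hIq : I ≤ q := fun a ha => hzq (Submodule.mem_colon_singleton.2 (by simp [hz a ha]))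
    obtain ⟨m, rfl⟩ := Submodule.mkQ_surjective _ w
    refine le_trans (iInf₂_le (⟨q, hqp⟩ : PrimeSpectrum R) hIq) ?_
    show LocCoh.depth (Localization.AtPrime q) (LocalizedModule q.primeCompl M) ≤ _
    rw [idealDepth_eq_length hrs hI hz0 hz]
    refine le_of_eq ?_
    rw [LocCoh.depth, ← Localization.AtPrime.map_eq_maximalIdeal]
    refine idealDepth_map_eq_length (LocalizedModule.mkLinearMap q.primeCompl M)
      (hrs.of_isLocalizedModule (Localization.AtPrime q) q.primeCompl
        (LocalizedModule.mkLinearMap q.primeCompl M)) (fun r hr => hIq (hI r hr)) (m := m)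
      (fun a ha => ?_) fun hmem => ?_
    · rw [hw, Submodule.mem_colon_singleton, ← map_smul, Submodule.mem_bot] at ha
      exact (Submodule.Quotient.mk_eq_zero _).1 ha
    · let π := LocalizedModule.map q.primeCompl
        (Ideal.ofList rs • (⊤ : Submodule R M)).mkQ
      have hker : Ideal.ofList (rs.map (algebraMap R (Localization.AtPrime q))) •
          (⊤ : Submodule (Localization.AtPrime q) (LocalizedModule q.primeCompl M)) ≤
          LinearMap.ker π := by
        rw [Submodule.smul_le, ← Ideal.map_ofList]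
        intro c hc x _
        rw [LinearMap.mem_ker, map_smul]
        have hle : (Ideal.ofList rs).map (algebraMap R (Localization.AtPrime q)) ≤
            LinearMap.ker (LinearMap.toSpanSingleton (Localization.AtPrime q) _ (π x)) := by
          rw [Ideal.map_le_iff_le_comap]
          intro b hb
          rw [Ideal.mem_comap, LinearMap.mem_ker, LinearMap.toSpanSingleton_apply, algebraMap_smul]
          induction π x using LocalizedModule.induction_on with
          | h y s =>
            obtain ⟨y, rfl⟩ := Submodule.mkQ_surjective _ y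
            rw [LocalizedModule.smul'_mk, ← map_smul, Submodule.mkQ_apply,
              (Submodule.Quotient.mk_eq_zero _).2 (Submodule.smul_mem_smul hb Submodule.mem_top),
              LocalizedModule.zero_mk]
        simpa using hle hc
      have h0 := hker hmem
      rw [LinearMap.mem_ker] at h0
      simp only [π, LocalizedModule.mkLinearMap_apply, LocalizedModule.map_mk] at h0
      rw [← LocalizedModule.mkLinearMap_apply, IsLocalizedModule.eq_zero_iff q.primeCompl] at h0
      obtain ⟨s, hs⟩ := h0
      refine s.2 ?_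
      exact hw.ge (Submodule.mem_colon_singleton.2 ((Submodule.mem_bot R).2 hs))

theorem idealDepth_eq_idealDepth_map_of_finite [IsNoetherianRing R] {B : Type u} [CommRing B]
    [Algebra R B] [Module.Finite R B] (a : Ideal R) (N : Type u) [AddCommGroup N] [Module B N]
    [Module R N] [IsScalarTower R B N] [Module.Finite B N] :
    LocCoh.idealDepth a N = LocCoh.idealDepth (a.map (algebraMap R B)) N := by
  haveI : Module.Finite R N := Module.Finite.trans B N
  haveI : IsNoetherianRing B := IsNoetherianRing.of_finite R B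
  rcases eq_or_ne (a • (⊤ : Submodule R N)) ⊤ with h | h
  · rw [idealDepth_eq_top h, idealDepth_eq_top]
    rw [eq_top_iff]
    intro x _
    exact map_mem_smul_top (S := B) (LinearMap.id : N →ₗ[R] N) (h.ge trivial)
  · obtain ⟨rs, -, hrs, hI, z, hz0, hz⟩ := exists_maximal_regular h (IsWeaklyRegular.nil R N)
      (by simp)
    rw [idealDepth_eq_length hrs hI hz0 hz]
    obtain ⟨m, rfl⟩ := Submodule.mkQ_surjective _ z
    refine (idealDepth_map_eq_length (LinearMap.id : N →ₗ[R] N)
      ((isWeaklyRegular_map_algebraMap_iff B N rs).2 hrs) hI (m := m) (fun b hb => ?_) ?_).symm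
    · have := hz b hb
      rwa [← map_smul, Submodule.mkQ_apply, Submodule.Quotient.mk_eq_zero] at this
    · rw [← Ideal.map_ofList, ← Submodule.restrictScalars_mem R,
        Submodule.restrictScalars_map_smul_eq, Submodule.restrictScalars_top]
      exact fun hmem => hz0 ((Submodule.Quotient.mk_eq_zero _).2 hmem)

theorem idealDepth_baseChange {B : Type u} [CommRing B] [Algebra R B] [IsNoetherianRing R]
    [IsNoetherianRing B] (I : Ideal R) [Module.Finite R M] :
    (Module.Flat R B →
      LocCoh.idealDepth I M ≤ LocCoh.idealDepth (I.map (algebraMap R B)) (B ⊗[R] M)) ∧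
    (Module.FaithfullyFlat R B →
      LocCoh.idealDepth (I.map (algebraMap R B)) (B ⊗[R] M) = LocCoh.idealDepth I M) := by
  let f : M →ₗ[R] B ⊗[R] M := TensorProduct.mk R B M 1
  have htop : I • (⊤ : Submodule R M) = ⊤ →
      LocCoh.idealDepth (I.map (algebraMap R B)) (B ⊗[R] M) = ⊤ := by
    intro h
    apply idealDepth_eq_top
    rw [eq_top_iff]
    rintro t -
    induction t using TensorProduct.induction_on with
    | zero => exact zero_mem _
    | tmul b m =>
      rw [show b ⊗ₜ[R] m = b • f m by simp [f, TensorProduct.smul_tmul']]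
      exact Submodule.smul_mem _ b (map_mem_smul_top f (h.ge trivial))
    | add x y hx hy => exact add_mem hx hy
  refine ⟨fun hflat => ?_, fun hff => ?_⟩
  · rcases eq_or_ne (I • (⊤ : Submodule R M)) ⊤ with h | h
    · rw [htop h]; exact le_top
    refine ENat.forall_natCast_le_iff_le.1 fun n hn => ?_
    obtain ⟨rs, rfl, hrs, hI⟩ := exists_of_le_idealDepth h hn
    refine le_trans (le_of_eq ?_) (length_le_idealDepth
      (hrs.of_flat_of_isBaseChange (TensorProduct.isBaseChange R M B)) fun r hr => ?_)
    · rw [List.length_map]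
    · obtain ⟨r, hr', rfl⟩ := List.mem_map.1 hr
      exact Ideal.mem_map_of_mem _ (hI r hr')
  · rcases eq_or_ne (I • (⊤ : Submodule R M)) ⊤ with h | h
    · rw [htop h, idealDepth_eq_top h]
    obtain ⟨rs, -, hrs, hI, z, hz0, hz⟩ := exists_maximal_regular h (IsWeaklyRegular.nil R M)
      (by simp)
    rw [idealDepth_eq_length hrs hI hz0 hz]
    obtain ⟨m, rfl⟩ := Submodule.mkQ_surjective _ z
    refine idealDepth_map_eq_length f
      (hrs.of_flat_of_isBaseChange (TensorProduct.isBaseChange R M B)) hI (m := m)
      (fun b hb => ?_) fun hmem => ?_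
    · have := hz b hb
      rwa [← map_smul, Submodule.mkQ_apply, Submodule.Quotient.mk_eq_zero] at this
    · let π := (Ideal.ofList rs • (⊤ : Submodule R M)).mkQ.baseChange B
      have hker : Ideal.ofList (rs.map (algebraMap R B)) • (⊤ : Submodule B (B ⊗[R] M)) ≤
          LinearMap.ker π := by
        rw [Submodule.smul_le, ← Ideal.map_ofList]
        intro c hc x _
        rw [LinearMap.mem_ker, map_smul]
        have hle : (Ideal.ofList rs).map (algebraMap R B) ≤
            LinearMap.ker (LinearMap.toSpanSingleton B _ (π x)) := by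
          rw [Ideal.map_le_iff_le_comap]
          intro b hb
          show algebraMap R B b • π x = 0
          rw [algebraMap_smul]
          induction π x using TensorProduct.induction_on with
          | zero => exact smul_zero _
          | tmul c y =>
            obtain ⟨y, rfl⟩ := Submodule.mkQ_surjective _ y
            rw [← TensorProduct.tmul_smul, ← map_smul, Submodule.mkQ_apply,
              (Submodule.Quotient.mk_eq_zero _).2 (Submodule.smul_mem_smul hb Submodule.mem_top),
              TensorProduct.tmul_zero]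
          | add p q hp hq => rw [smul_add, hp, hq, add_zero]
        simpa using hle hc
      have h0 := hker hmem
      rw [LinearMap.mem_ker] at h0
      simp only [π, f, TensorProduct.mk_apply, LinearMap.baseChange_tmul] at h0
      exact hz0 ((Module.FaithfullyFlat.one_tmul_eq_zero_iff (R := R) (A := B) _ _).1 h0)

end Transfer

section AddElement

variable [IsLocalRing R] [IsNoetherianRing R] {M : Type u} [AddCommGroup M] [Module R M]
  [Module.Finite R M]

open IsLocalRing

omit [AddCommGroup M] [Module R M] [Module.Finite R M] in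
theorem not_two_le_of_killed {Q : Type u} [AddCommGroup Q] [Module R Q] [Module.Finite R Q]
    {I : Ideal R} (hI : I ≤ maximalIdeal R) {x : R} (hx : x ∈ maximalIdeal R) {z : Q}
    (hz0 : z ≠ 0) (hz : ∀ a ∈ I, a • z = 0) :
    ¬ ((2 : ℕ) : ℕ∞) ≤ LocCoh.idealDepth (I ⊔ Ideal.span {x}) Q := by
  classical
  intro h2
  haveI : Nontrivial Q := ⟨⟨z, 0, hz0⟩⟩
  set J := I ⊔ Ideal.span {x}
  have hJm : J ≤ maximalIdeal R := sup_le hI ((Ideal.span_singleton_le_iff_mem _).2 hx)
  have hJQ : J • (⊤ : Submodule R Q) ≠ ⊤ :=
    (Submodule.top_ne_ideal_smul_of_le_jacobson_annihilator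
      (hJm.trans (maximalIdeal_le_jacobson _))).symm
  obtain ⟨ys, hlen, hys, hysJ⟩ := exists_of_le_idealDepth hJQ h2
  obtain ⟨y, ys', rfl⟩ := List.exists_cons_of_length_pos (by omega : 0 < ys.length)
  rw [isWeaklyRegular_cons_iff] at hys
  have hyJ : y ∈ J := hysJ y List.mem_cons_self
  obtain ⟨p, hp, hzp⟩ := exists_le_isAssociatedPrime_of_isNoetherianRing R z hz0
  obtain ⟨hpp, w, hw⟩ := isAssociatedPrime_iff.1 hp
  have hw0 : w ≠ 0 := fun h0 => hpp.ne_top (by simp [hw, h0])
  have hIp : I ≤ p := fun a ha => hzp (Submodule.mem_colon_singleton.2 (by simp [hz a ha]))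
  have hyp : y ∉ p := fun hyp => hw0 (hys.1.right_eq_zero_of_smul (by
    rw [hw, Submodule.mem_colon_singleton] at hyp; simpa using hyp))
  have hpm : p ≤ maximalIdeal R := le_maximalIdeal hpp.ne_top
  obtain ⟨q, hq, -⟩ := Ideal.exists_minimalPrimes_le
    (J := maximalIdeal R) (sup_le hpm ((Ideal.span_singleton_le_iff_mem _).2 hx) :
      p ⊔ Ideal.span {x} ≤ _)
  haveI := hq.isPrime
  have hJq : J ≤ q := sup_le ((hIp.trans le_sup_left).trans hq.1.2) (le_sup_right.trans hq.1.2)
  let N := Submodule.torsionBySet R Q (p : Set R)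
  have hwN : w ∈ N := (Submodule.mem_torsionBySet_iff _ _).2 fun a => by
    have := hw.le a.2
    rw [Submodule.mem_colon_singleton] at this
    simpa using this
  have hqN : (⟨q, inferInstance⟩ : PrimeSpectrum R) ∈ Module.support R N :=
    Module.mem_support_iff'.2 ⟨⟨w, hwN⟩, fun r hr hr0 => hr
      (le_sup_left.trans hq.1.2 (by
        show r ∈ p
        rw [hw, Submodule.mem_colon_singleton]; simpa using congrArg Subtype.val hr0))⟩
  have hqT : (⟨q, inferInstance⟩ : PrimeSpectrum R) ∈ Module.support R (QuotSMulTop y N) := by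
    rw [Module.support_quotSMulTop]
    exact ⟨hqN, by simpa [PrimeSpectrum.mem_zeroLocus] using hJq hyJ⟩
  have hannp : p ≤ Module.annihilator R (QuotSMulTop y N) := fun a ha =>
    Module.mem_annihilator.2 fun t => by
      obtain ⟨t, rfl⟩ := Submodule.mkQ_surjective _ t
      rw [← map_smul, show a • t = 0 from Subtype.ext
        ((Submodule.mem_torsionBySet_iff _ _).1 t.2 ⟨a, ha⟩), map_zero]
  have hanny : y ∈ Module.annihilator R (QuotSMulTop y N) :=
    Module.mem_annihilator.2 fun t => by
      obtain ⟨t, rfl⟩ := Submodule.mkQ_surjective _ t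
      rw [← map_smul, Submodule.mkQ_apply, Submodule.Quotient.mk_eq_zero]
      exact Submodule.smul_mem_pointwise_smul t y ⊤ trivial
  have hmin : q ∈ (Module.annihilator R (QuotSMulTop y N)).minimalPrimes := by
    refine ⟨⟨inferInstance, Module.annihilator_le_of_mem_support hqT⟩, fun q' ⟨hq', hle'⟩ hq'q => ?_⟩
    haveI := hq'
    have hpq' : p < q' := lt_of_le_of_ne (hannp.trans hle') fun he => hyp (he ▸ hle' hanny)
    by_contra hne
    have hlt' : q' < q := lt_of_le_of_ne hq'q fun he => hne he.ge
    have h1 := Ideal.map_height_le_one_of_mem_minimalPrimes hq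
    have hsurj : Function.Surjective (Ideal.Quotient.mk p) := Ideal.Quotient.mk_surjective
    haveI : (q'.map (Ideal.Quotient.mk p)).IsPrime :=
      Ideal.map_isPrime_of_surjective hsurj (by rw [Ideal.mk_ker]; exact hpq'.le)
    haveI : (q.map (Ideal.Quotient.mk p)).IsPrime :=
      Ideal.map_isPrime_of_surjective hsurj (by rw [Ideal.mk_ker]; exact hpq'.le.trans hlt'.le)
    have hcm : ∀ K : Ideal R, p ≤ K →
        (K.map (Ideal.Quotient.mk p)).comap (Ideal.Quotient.mk p) = K := fun K hK => by
      rw [Ideal.comap_map_of_surjective _ hsurj, sup_eq_left]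
      exact le_trans (le_of_eq Ideal.mk_ker) hK
    have h3 : (⊥ : Ideal (R ⧸ p)) < q'.map (Ideal.Quotient.mk p) :=
      bot_lt_iff_ne_bot.2 fun he => hpq'.ne (by
        rw [← hcm q' hpq'.le, he]; exact Ideal.mk_ker.symm)
    have h4 : q'.map (Ideal.Quotient.mk p) < q.map (Ideal.Quotient.mk p) :=
      lt_of_le_of_ne (Ideal.map_mono hlt'.le) fun he => hlt'.ne (by
        rw [← hcm q' hpq'.le, he, hcm q (hpq'.le.trans hlt'.le)])
    have h5 := Ideal.height_add_one_le_of_lt_of_isPrime h3
    have h6 := Ideal.height_add_one_le_of_lt_of_isPrime h4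
    have h7 : (2 : ℕ∞) ≤ 1 := calc
      (2 : ℕ∞) = 0 + 1 + 1 := rfl
      _ ≤ (⊥ : Ideal (R ⧸ p)).height + 1 + 1 := by gcongr; exact zero_le
      _ ≤ (q'.map (Ideal.Quotient.mk p)).height + 1 := by gcongr
      _ ≤ (q.map (Ideal.Quotient.mk p)).height := h6
      _ ≤ 1 := h1
    exact absurd h7 (by norm_num)
  have hass := Module.associatedPrimes.minimalPrimes_annihilator_subset_associatedPrimes R (QuotSMulTop y N) hmin
  obtain ⟨-, t, ht⟩ := isAssociatedPrime_iff.1 hass
  have ht0 : t ≠ 0 := fun h0 => (inferInstance : q.IsPrime).ne_top (by simp [ht, h0])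
  let ι : QuotSMulTop y N →ₗ[R] QuotSMulTop y Q := QuotSMulTop.map y N.subtype
  have hι : ι t ≠ 0 := by
    obtain ⟨t, rfl⟩ := Submodule.mkQ_surjective _ t
    intro h0
    apply ht0
    have hmem : (t : Q) ∈ y • (⊤ : Submodule R Q) := (Submodule.Quotient.mk_eq_zero _).1 h0
    obtain ⟨u, -, hu⟩ := (Submodule.mem_smul_pointwise_iff_exists _ _ _).1 hmem
    have huN : u ∈ N := (Submodule.mem_torsionBySet_iff _ _).2 fun a => hys.1.right_eq_zero_of_smul
      (by rw [smul_comm, hu]; exact (Submodule.mem_torsionBySet_iff _ _).1 t.2 a)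
    rw [Submodule.mkQ_apply, Submodule.Quotient.mk_eq_zero]
    exact (Submodule.mem_smul_pointwise_iff_exists _ _ _).2 ⟨⟨u, huN⟩, trivial, Subtype.ext hu⟩
  refine hι (hom_zero_of_one_le (I := J) ?_ fun a ha => ?_)
  · have := (le_idealDepth_quotSMulTop_iff hyJ hys.1 1).2 h2
    simpa using this
  · rw [← map_smul]
    have := hJq ha
    rw [ht, Submodule.mem_colon_singleton, Submodule.mem_bot] at this
    rw [this, map_zero]

theorem idealDepth_sup_span_le {I : Ideal R} (hI : I ≤ maximalIdeal R) {x : R}
    (hx : x ∈ maximalIdeal R) :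
    LocCoh.idealDepth (I ⊔ Ideal.span {x}) M ≤ LocCoh.idealDepth I M + 1 := by
  classical
  rcases eq_or_ne (I • (⊤ : Submodule R M)) ⊤ with h | h
  · rw [idealDepth_eq_top h]; simp
  obtain ⟨rs, -, hrs, hrsI, z, hz0, hz⟩ := exists_maximal_regular h (IsWeaklyRegular.nil R M)
    (by simp)
  rw [idealDepth_eq_length hrs hrsI hz0 hz]
  by_contra hlt
  rw [not_le] at hlt
  set J := I ⊔ Ideal.span {x}
  have h2 : ((2 : ℕ) : ℕ∞) ≤
      LocCoh.idealDepth J (M ⧸ Ideal.ofList rs • (⊤ : Submodule R M)) := by
    rw [le_idealDepth_quotient_iff hrs (fun r hr => Ideal.mem_sup_left (hrsI r hr))]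
    have := Order.add_one_le_of_lt hlt
    rw [add_comm 2]
    push_cast
    rwa [← one_add_one_eq_two, ← add_assoc]
  exact not_two_le_of_killed hI hx hz0 hz h2

theorem idealDepth_ofList_le_length [Nontrivial M] (xs : List R)
    (hxs : ∀ x ∈ xs, x ∈ maximalIdeal R) :
    LocCoh.idealDepth (Ideal.ofList xs) M ≤ xs.length := by
  induction xs with
  | nil =>
    obtain ⟨z, hz⟩ := exists_ne (0 : M)
    have := idealDepth_eq_length (I := Ideal.ofList ([] : List R)) (IsWeaklyRegular.nil R M)
      (by simp) (z := (Submodule.quotEquivOfEqBot (Ideal.ofList ([] : List R) • (⊤ : Submodule R M))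
        (by simp)).symm z) (by simpa using hz) (by simp)
    exact this.le
  | cons x xs ih =>
    rw [List.forall_mem_cons] at hxs
    rw [Ideal.ofList_cons, sup_comm, List.length_cons, Nat.cast_add_one]
    exact le_trans (idealDepth_sup_span_le (Ideal.span_le.2 hxs.2) hxs.1) (by gcongr; exact ih hxs.2)

theorem idealDepth_eq_length_iff [Nontrivial M] (xs : List R)
    (hxs : ∀ x ∈ xs, x ∈ maximalIdeal R) :
    LocCoh.idealDepth (Ideal.ofList xs) M = xs.length ↔ IsWeaklyRegular M xs := by
  refine ⟨fun h => ?_, fun h => le_antisymm (idealDepth_ofList_le_length xs hxs)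
    (length_le_idealDepth h fun r hr => Ideal.subset_span hr)⟩
  induction xs using List.reverseRecOn with
  | nil => exact IsWeaklyRegular.nil R M
  | append_singleton xs x ih =>
    simp only [List.forall_mem_append, List.forall_mem_singleton] at hxs
    rw [Ideal.ofList_append, Ideal.ofList_singleton, List.length_append, List.length_singleton] at h
    have hle := idealDepth_sup_span_le (M := M) (I := Ideal.ofList xs) (Ideal.span_le.2 hxs.1) hxs.2
    rw [h, Nat.cast_add_one, ENat.add_le_add_iff_right ENat.one_ne_top] at hle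
    have hreg := ih hxs.1 (le_antisymm (idealDepth_ofList_le_length xs hxs.1) hle)
    rw [isWeaklyRegular_append_iff]
    refine ⟨hreg, (isWeaklyRegular_singleton_iff _ x).2 ?_⟩
    have h1 := (le_idealDepth_quotient_iff (I := Ideal.ofList xs ⊔ Ideal.span {x}) hreg
      (fun r hr => Ideal.mem_sup_left (Ideal.subset_span hr)) 1).2
      (by rw [h, add_comm 1 xs.length])
    rcases exists_regular_or_killed (Ideal.ofList xs ⊔ Ideal.span {x})
      (M ⧸ Ideal.ofList xs • (⊤ : Submodule R M)) with ⟨y, hy, hyreg⟩ | ⟨z, hz0, hz⟩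
    · obtain ⟨a, ha, b, hb, rfl⟩ := Submodule.mem_sup.1 hy
      obtain ⟨c, rfl⟩ := Ideal.mem_span_singleton'.1 hb
      have heq : ∀ q : M ⧸ Ideal.ofList xs • (⊤ : Submodule R M), (a + c * x) • q = c • x • q := by
        intro q
        obtain ⟨q, rfl⟩ := Submodule.mkQ_surjective _ q
        rw [add_smul, mul_smul, ← map_smul _ a, Submodule.mkQ_apply _ (a • q),
          (Submodule.Quotient.mk_eq_zero _).2 (Submodule.smul_mem_smul ha Submodule.mem_top), zero_add]
      intro p q hpq
      exact hyreg (by simpa only [heq] using congrArg (c • ·) hpq)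
    · exact absurd (hom_zero_of_one_le (by simpa using h1) hz) hz0

end AddElement

section Kernels

variable [IsNoetherianRing R] (I : Ideal R) {E0 E1 : Type u} [AddCommGroup E0] [Module R E0]
  [Module.Finite R E0] [AddCommGroup E1] [Module R E1] [Module.Finite R E1] (u : E0 →ₗ[R] E1)

theorem idealDepth_ker :
    (1 ≤ LocCoh.idealDepth I E0 → 1 ≤ LocCoh.idealDepth I (LinearMap.ker u)) ∧
    (2 ≤ LocCoh.idealDepth I E0 → 1 ≤ LocCoh.idealDepth I E1 →
      2 ≤ LocCoh.idealDepth I (LinearMap.ker u)) := by
  have hex : Function.Exact (LinearMap.ker u).subtype u.rangeRestrict :=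
    LinearMap.exact_iff.2 (by rw [LinearMap.ker_rangeRestrict, Submodule.range_subtype])
  have hsub := fun h : (1 : ℕ∞) ≤ LocCoh.idealDepth I E1 =>
    le_idealDepth_left (I := I) (n := 0) (LinearMap.range u).injective_subtype
      (Submodule.mkQ_surjective (LinearMap.range u)) (LinearMap.exact_subtype_mkQ _)
      (by simpa using h) (by simp)
  refine ⟨fun h => ?_, fun h h' => ?_⟩
  · simpa using le_idealDepth_left (I := I) (n := 0) (LinearMap.ker u).injective_subtype
      u.surjective_rangeRestrict hex (by simpa using h) (by simp)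
  · exact le_idealDepth_left (I := I) (n := 1) (LinearMap.ker u).injective_subtype
      u.surjective_rangeRestrict hex h (hsub h')

omit [Module.Finite R E0] [Module.Finite R E1] in
theorem le_idealDepth_pi {n : ℕ} (h : (n : ℕ∞) ≤ LocCoh.idealDepth I R) :
    ∀ k : ℕ, (n : ℕ∞) ≤ LocCoh.idealDepth I (Fin k → R) := by
  intro k
  induction k with
  | zero =>
    rw [idealDepth_eq_top (Subsingleton.elim _ _)]
    exact le_top
  | succ k ih =>
    rw [idealDepth_congr (Fin.consLinearEquiv R fun _ : Fin (k + 1) => R).symm]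
    exact le_idealDepth_mid (LinearMap.inl_injective) (LinearMap.snd_surjective)
      Function.Exact.inl_snd h ih

omit [Module.Finite R E0] [Module.Finite R E1] in
theorem le_idealDepth_free (F : Type u) [AddCommGroup F] [Module R F] [Module.Finite R F]
    [Module.Free R F] {n : ℕ} (h : (n : ℕ∞) ≤ LocCoh.idealDepth I R) :
    (n : ℕ∞) ≤ LocCoh.idealDepth I F := by
  rcases subsingleton_or_nontrivial R with hR | hR
  · haveI : Subsingleton F := Module.subsingleton R F
    rw [idealDepth_eq_top (Subsingleton.elim _ _)]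
    exact le_top
  · rw [idealDepth_congr ((Module.finBasis R F).equivFun)]
    exact le_idealDepth_pi I h _

omit [Module.Finite R E0] [Module.Finite R E1] in
/-- The dual of a finite module is the kernel of a map of finite free modules. -/
theorem exists_dual_equiv_ker (M : Type v) [AddCommGroup M] [Module R M] [Module.Finite R M] :
    ∃ (n m : ℕ) (w : (Fin n → R) →ₗ[R] (Fin m → R)),
      Nonempty ((M →ₗ[R] R) ≃ₗ[R] LinearMap.ker w) := by
  obtain ⟨n, π, hπ⟩ := Module.Finite.exists_fin' R M
  obtain ⟨m, g, hg⟩ := Submodule.fg_iff_exists_fin_generating_family.1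
    (IsNoetherian.noetherian (LinearMap.ker π))
  let w : (Fin n → R) →ₗ[R] (Fin m → R) :=
    LinearMap.pi fun j => ∑ i, g j i • LinearMap.proj i
  let ev : (M →ₗ[R] R) →ₗ[R] (Fin n → R) :=
    LinearMap.pi fun i => LinearMap.applyₗ (π (Pi.single i 1))
  have hev : ∀ (φ : M →ₗ[R] R) (c : Fin n → R), φ (π c) = ∑ i, c i • ev φ i := fun φ c => by
    conv_lhs => rw [pi_eq_sum_univ' c]
    simp [ev, map_sum]
  refine ⟨n, m, w, ⟨LinearEquiv.ofBijective (ev.codRestrict _ fun φ => ?_)
    ⟨fun φ ψ h => ?_, fun c => ?_⟩⟩⟩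
  · rw [LinearMap.mem_ker]
    funext j
    simp only [w, LinearMap.pi_apply, LinearMap.sum_apply, LinearMap.smul_apply,
      LinearMap.proj_apply, Pi.zero_apply]
    rw [← hev, show π (g j) = 0 from hg.le (Submodule.subset_span ⟨j, rfl⟩), map_zero]
  · refine LinearMap.ext fun x => ?_
    obtain ⟨c, rfl⟩ := hπ x
    rw [hev, hev, show ev φ = ev ψ from congrArg Subtype.val h]
  · have hle : LinearMap.ker π ≤ LinearMap.ker (Fintype.linearCombination R c.1) := by
      rw [← hg, Submodule.span_le]
      rintro _ ⟨j, rfl⟩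
      have := congrFun (LinearMap.mem_ker.1 c.2) j
      simpa [w, Fintype.linearCombination_apply] using this
    let φ : M →ₗ[R] R := (LinearMap.ker π).liftQ (Fintype.linearCombination R c.1) hle ∘ₗ
      (π.quotKerEquivOfSurjective hπ).symm.toLinearMap
    have hφ : ∀ d, φ (π d) = Fintype.linearCombination R c.1 d := fun d => by
      simp [φ]
    refine ⟨φ, Subtype.ext (funext fun i => ?_)⟩
    show φ (π (Pi.single i 1)) = c.1 i
    rw [hφ]
    simp

omit [Module.Finite R E0] [Module.Finite R E1] in
theorem idealDepth_dual (M : Type v) [AddCommGroup M] [Module R M] [Module.Finite R M] :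
    (1 ≤ LocCoh.idealDepth I R → 1 ≤ LocCoh.idealDepth I (M →ₗ[R] R)) ∧
    (2 ≤ LocCoh.idealDepth I R → 2 ≤ LocCoh.idealDepth I (M →ₗ[R] R)) := by
  obtain ⟨n, m, w, ⟨e⟩⟩ := exists_dual_equiv_ker (R := R) M
  rw [idealDepth_congr e]
  refine ⟨fun h => (idealDepth_ker I w).1 ?_, fun h => (idealDepth_ker I w).2 ?_ ?_⟩
  · simpa using le_idealDepth_pi (n := 1) I (by simpa using h) n
  · exact le_idealDepth_pi (n := 2) I h n
  · simpa using le_idealDepth_pi (n := 1) I (by simpa using (one_le_two.trans h)) m

end Kernels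

section Sk

variable [IsNoetherianRing R] {E0 E1 : Type u} [AddCommGroup E0] [Module R E0]
  [Module.Finite R E0] [AddCommGroup E1] [Module R E1] [Module.Finite R E1]
  {G : Type u} [AddCommGroup G] [Module R G] [Module.Finite R G]

theorem hasSk_of_exact (i : G →ₗ[R] E0) (hi : Function.Injective i) (w : E0 →ₗ[R] E1)
    (hex : Function.Exact i w) (k : ℕ) (hk : k ≤ 2)
    (h0 : ∀ (p : Ideal R) [p.IsPrime],
      (k : WithBot ℕ∞) ≤ Module.supportDim (Localization.AtPrime p) (LocalizedModule p.primeCompl G) →
      (k : ℕ∞) ≤ LocCoh.depth (Localization.AtPrime p) (LocalizedModule p.primeCompl E0))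
    (h1 : k = 2 → ∀ (p : Ideal R) [p.IsPrime],
      (2 : WithBot ℕ∞) ≤ Module.supportDim (Localization.AtPrime p) (LocalizedModule p.primeCompl G) →
      1 ≤ LocCoh.depth (Localization.AtPrime p) (LocalizedModule p.primeCompl E1))
    (hS : k = 2 → ∀ (p : Ideal R) [p.IsPrime],
      (1 : WithBot ℕ∞) ≤ Module.supportDim (Localization.AtPrime p) (LocalizedModule p.primeCompl G) →
      (1 : ℕ∞) ≤ LocCoh.depth (Localization.AtPrime p) (LocalizedModule p.primeCompl E0)) :
    LocCoh.HasSk k R G := by
  intro p _
  set d := Module.supportDim (Localization.AtPrime p) (LocalizedModule p.primeCompl G)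
  have hip : Function.Injective (LocalizedModule.map p.primeCompl i) :=
    LocalizedModule.map_injective p.primeCompl i hi
  have hexp : Function.Exact (LocalizedModule.map p.primeCompl i)
      (LocalizedModule.map p.primeCompl w) := by
    intro y
    exact LocalizedModule.map_exact p.primeCompl i w hex y
  let e : LocalizedModule p.primeCompl G ≃ₗ[Localization.AtPrime p]
      LinearMap.ker (LocalizedModule.map p.primeCompl w) :=
    (LinearEquiv.ofInjective _ hip).trans (LinearEquiv.ofEq _ _ (LinearMap.exact_iff.1 hexp).symm)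
  have hk1 : (1 : ℕ∞) ≤ LocCoh.depth (Localization.AtPrime p) (LocalizedModule p.primeCompl E0) →
      (1 : ℕ∞) ≤ LocCoh.depth (Localization.AtPrime p) (LocalizedModule p.primeCompl G) := fun h => by
    rw [LocCoh.depth, idealDepth_congr e]
    exact (idealDepth_ker _ _).1 h
  have hk2 : (2 : ℕ∞) ≤ LocCoh.depth (Localization.AtPrime p) (LocalizedModule p.primeCompl E0) →
      (1 : ℕ∞) ≤ LocCoh.depth (Localization.AtPrime p) (LocalizedModule p.primeCompl E1) →
      (2 : ℕ∞) ≤ LocCoh.depth (Localization.AtPrime p) (LocalizedModule p.primeCompl G) := fun h h' => by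
    rw [LocCoh.depth, idealDepth_congr e]
    exact (idealDepth_ker _ _).2 h h'
  have hone : ∀ n : ℕ∞, (1 : ℕ∞) ≤ n → (1 : WithBot ℕ∞) ≤ (n : WithBot ℕ∞) := fun n h => by
    exact_mod_cast h
  generalize hdd : d = d' at *
  cases d' with
  | bot => simp
  | coe e' =>
    have key : min (k : ℕ∞) e' ≤ LocCoh.depth (Localization.AtPrime p) (LocalizedModule p.primeCompl G) := by
      have hle : ∀ j : ℕ, (j : ℕ∞) ≤ e' → ((j : ℕ∞) : WithBot ℕ∞) ≤ d := fun j hj => by
        rw [hdd]; exact WithBot.coe_le_coe.2 hj
      rcases Nat.lt_or_ge k 1 with hk0 | hk0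
      · simp [Nat.lt_one_iff.1 hk0]
      rcases eq_or_ne e' 0 with rfl | he0
      · simp
      have he1 : (1 : ℕ∞) ≤ e' := Order.one_le_iff_ne_zero.2 he0
      obtain rfl | rfl : k = 1 ∨ k = 2 := by omega
      · exact le_trans (min_le_left _ _) (by
          have := hk1 (by exact_mod_cast h0 p (by exact_mod_cast hle 1 (by exact_mod_cast he1)))
          exact_mod_cast this)
      · rcases le_or_gt (2 : ℕ∞) e' with h2 | h2
        · exact le_trans (min_le_left _ _) (by
            have := hk2 (by exact_mod_cast h0 p (by exact_mod_cast hle 2 (by exact_mod_cast h2)))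
              (h1 rfl p (by exact_mod_cast hle 2 (by exact_mod_cast h2)))
            exact_mod_cast this)
        · refine le_trans (min_le_right _ _) (le_trans (Order.le_of_lt_add_one ?_)
            (hk1 (hS rfl p (by exact_mod_cast hle 1 (by exact_mod_cast he1)))))
          rwa [one_add_one_eq_two]
    exact_mod_cast key

end Sk

end Groth.L04
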