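import Groth.Agent.L04.Essential
import Mathlib.RingTheory.Filtration
import Mathlib.RingTheory.Ideal.AssociatedPrime.Basic
import Mathlib.Algebra.DirectSum.Module
import Mathlib.RingTheory.LocalRing.ResidueField.Ideal

/-!
# Injective modules over Noetherian rings
-/

universe u v w

namespace Groth.L04

open InjHull

variable {R : Type u} [CommRing R]

theorem exists_pow_inf_le_pow_mul [IsNoetherianRing R] (J 𝔞 : Ideal R) (k : ℕ) :
    ∃ m : ℕ, 0 < m ∧ J ^ m ⊓ 𝔞 ≤ J ^ k * 𝔞 := by
  obtain ⟨c, hc⟩ := J.exists_pow_inf_eq_pow_smul (M := R) 𝔞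
  refine ⟨c + k + 1, by omega, ?_⟩
  have h1 := hc (c + k + 1) (by omega)
  simp only [smul_eq_mul, Ideal.mul_top] at h1
  rw [h1]
  exact Ideal.mul_mono (Ideal.pow_le_pow_right (by omega)) inf_le_right

/-- For an `R`-module `H`, `Γ_J(H)` as a submodule. -/
def powTorsion (J : Ideal R) (H : Type v) [AddCommGroup H] [Module R H] : Submodule R H :=
  ⨆ n : ℕ, Submodule.torsionBySet R H ((J ^ n : Ideal R) : Set R)

theorem powTorsion_mono (J : Ideal R) (H : Type v) [AddCommGroup H] [Module R H] :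
    Monotone fun n : ℕ => Submodule.torsionBySet R H ((J ^ n : Ideal R) : Set R) := fun _ _ hab =>
  Submodule.torsionBySet_le_torsionBySet_of_subset (Ideal.pow_le_pow_right hab)

theorem mem_powTorsion {J : Ideal R} {H : Type v} [AddCommGroup H] [Module R H] {x : H} :
    x ∈ powTorsion J H ↔ ∃ n : ℕ, ∀ a ∈ J ^ n, a • x = 0 := by
  rw [powTorsion, Submodule.mem_iSup_of_directed _ (powTorsion_mono J H).directed_le]
  simp [Submodule.mem_torsionBySet_iff]

theorem isPowerTorsion_powTorsion (J : Ideal R) (H : Type v) [AddCommGroup H] [Module R H] :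
    LocCoh.IsPowerTorsion J (powTorsion J H) := fun m => by
  obtain ⟨n, hn⟩ := mem_powTorsion.1 m.2
  exact ⟨n, fun a ha => Subtype.ext (hn a ha)⟩

/-- A finitely generated submodule of a power torsion module is killed by one power. -/
theorem exists_pow_kills_of_fg {J : Ideal R} {H : Type v} [AddCommGroup H] [Module R H]
    (hH : LocCoh.IsPowerTorsion J H) {N : Submodule R H} (hN : N.FG) :
    ∃ k : ℕ, ∀ x ∈ N, ∀ a ∈ J ^ k, a • x = 0 := by
  obtain ⟨s, rfl⟩ := hN
  choose e he using hH
  refine ⟨s.sup e, fun x hx a ha => ?_⟩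
  induction hx using Submodule.span_induction with
  | mem x hx => exact he x a (Ideal.pow_le_pow_right (Finset.le_sup hx) ha)
  | zero => simp
  | add x y _ _ hx hy => simp [hx, hy]
  | smul c x _ hx => rw [smul_comm, hx, smul_zero]

/-- Baer's criterion for power torsion modules over Noetherian rings. -/
theorem injective_of_powerTorsion [IsNoetherianRing R] {J : Ideal R} {H : Type u} [AddCommGroup H]
    [Module R H] (hH : LocCoh.IsPowerTorsion J H)
    (hext : ∀ (M : Type u) [AddCommGroup M] [Module R M], Module.Finite R M →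
      (∃ k : ℕ, (J ^ k) • (⊤ : Submodule R M) = ⊥) → ∀ (N : Submodule R M) (g : N →ₗ[R] H),
      ∃ g' : M →ₗ[R] H, g'.comp N.subtype = g) :
    Module.Injective R H := by
  refine Module.Baer.injective fun 𝔞 g => ?_
  obtain ⟨k, hk⟩ := exists_pow_kills_of_fg hH (N := LinearMap.range g)
    (by rw [LinearMap.range_eq_map]; exact (Module.Finite.fg_top).map g)
  obtain ⟨m, -, hm⟩ := exists_pow_inf_le_pow_mul J 𝔞 k
  let q : 𝔞 →ₗ[R] R ⧸ J ^ m := (Submodule.mkQ (J ^ m)) ∘ₗ 𝔞.subtype
  have hker : LinearMap.ker q ≤ LinearMap.ker g := by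
    rintro ⟨x, hx⟩ hx'
    have hxm : x ∈ J ^ m := Ideal.Quotient.eq_zero_iff_mem.1 hx'
    suffices ∀ z ∈ J ^ k * 𝔞, ∃ hz : z ∈ 𝔞, g ⟨z, hz⟩ = 0 from (this x (hm ⟨hxm, hx⟩)).2
    intro z hz
    refine Submodule.mul_induction_on hz (fun a ha b hb => ⟨𝔞.mul_mem_left a hb, ?_⟩) ?_
    · have : (⟨a * b, 𝔞.mul_mem_left a hb⟩ : 𝔞) = a • ⟨b, hb⟩ := rfl
      rw [this, map_smul]
      exact hk _ ⟨_, rfl⟩ a ha
    · rintro a b ⟨ha, ha'⟩ ⟨hb, hb'⟩
      refine ⟨add_mem ha hb, ?_⟩
      have : (⟨a + b, add_mem ha hb⟩ : 𝔞) = ⟨a, ha⟩ + ⟨b, hb⟩ := rfl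
      rw [this, map_add, ha', hb', add_zero]
  let gbar : LinearMap.range q →ₗ[R] H :=
    (LinearMap.ker q).liftQ g hker ∘ₗ q.quotKerEquivRange.symm.toLinearMap
  have hkill : (J ^ m) • (⊤ : Submodule R (R ⧸ J ^ m)) = ⊥ := by
    rw [eq_bot_iff]
    refine Submodule.smul_le.2 fun a ha x _ => ?_
    obtain ⟨x, rfl⟩ := Submodule.mkQ_surjective _ x
    rw [← map_smul, Submodule.mem_bot, Submodule.mkQ_apply, Submodule.Quotient.mk_eq_zero]
    exact Ideal.mul_mem_right _ _ ha
  obtain ⟨g', hg'⟩ := hext (R ⧸ J ^ m) inferInstance ⟨m, hkill⟩ (LinearMap.range q) gbar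
  refine ⟨g' ∘ₗ Submodule.mkQ (J ^ m), fun x hx => ?_⟩
  have := LinearMap.congr_fun hg' ⟨q ⟨x, hx⟩, ⟨_, rfl⟩⟩
  refine this.trans ?_
  exact (congrArg ((LinearMap.ker q).liftQ g hker)
    (q.quotKerEquivRange_symm_apply_image ⟨x, hx⟩ (LinearMap.mem_range_self q _))).trans
    (Submodule.liftQ_apply _ _ _)

theorem injective_powTorsion [IsNoetherianRing R] {I : Type u} [AddCommGroup I] [Module R I]
    (hI : Module.Injective R I) (J : Ideal R) : Module.Injective R (powTorsion J I) := by
  refine injective_of_powerTorsion (isPowerTorsion_powTorsion J I)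
    fun M _ _ _ hk N g => ?_
  obtain ⟨k, hk⟩ := hk
  obtain ⟨h, hh⟩ := hI.out N.subtype N.injective_subtype ((powTorsion J I).subtype ∘ₗ g)
  refine ⟨h.codRestrict _ fun x => mem_powTorsion.2 ⟨k, fun a ha => ?_⟩,
    LinearMap.ext fun x => Subtype.ext (hh x)⟩
  rw [← map_smul]
  have : a • x ∈ (J ^ k) • (⊤ : Submodule R M) := Submodule.smul_mem_smul ha trivial
  rw [hk, Submodule.mem_bot] at this
  rw [this, map_zero]

theorem injective_directSum [IsNoetherianRing R] {ι : Type w} {E : ι → Type u}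
    [∀ i, AddCommGroup (E i)] [∀ i, Module R (E i)] (hE : ∀ i, Module.Injective R (E i))
    [Small.{max w u} R] : Module.Injective R (DirectSum ι E) := by
  classical
  refine Module.Baer.injective fun 𝔞 g => ?_
  obtain ⟨s, hs⟩ := 𝔞.fg_of_isNoetherianRing
  have hex : ∀ i, ∃ h : R →ₗ[R] E i, ∀ (x : R) (hx : x ∈ 𝔞), h x = g ⟨x, hx⟩ i := fun i =>
    Module.Baer.iff_injective.2 (hE i) 𝔞 (DirectSum.component R ι E i ∘ₗ g)
  choose h hh using hex
  let T : Finset ι := s.attach.biUnion fun x =>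
    (g ⟨x.1, hs.le (Submodule.subset_span x.2)⟩).support
  let h' : R →ₗ[R] DirectSum ι E := ∑ i ∈ T, DirectSum.lof R ι E i ∘ₗ h i
  refine ⟨h', fun x hx => ?_⟩
  have hzero : ∀ i, i ∉ T → ∀ z (hz : z ∈ 𝔞), g ⟨z, hz⟩ i = 0 := by
    intro i hi z hz
    have hz' : z ∈ Submodule.span R (s : Set R) := hs.ge hz
    revert hz
    induction hz' using Submodule.span_induction with
    | mem y hy =>
      intro hz
      by_contra hne
      exact hi (Finset.mem_biUnion.2
        ⟨⟨y, hy⟩, Finset.mem_attach _ _, DFinsupp.mem_support_iff.2 hne⟩)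
    | zero => intro hz; exact (congrArg (fun v => v i) (map_zero g) :)
    | add a b ha hb iha ihb =>
      intro hz
      have : (⟨a + b, hz⟩ : 𝔞) = ⟨a, hs.le ha⟩ + ⟨b, hs.le hb⟩ := rfl
      rw [this, map_add, DirectSum.add_apply, iha, ihb, add_zero]
    | smul c a ha iha =>
      intro hz
      have : (⟨c • a, hz⟩ : 𝔞) = c • ⟨a, hs.le ha⟩ := rfl
      rw [this, map_smul, DirectSum.smul_apply, iha, smul_zero]
  ext i
  simp only [h', LinearMap.sum_apply, LinearMap.comp_apply]
  rw [DFinsupp.finsetSum_apply]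
  by_cases hi : i ∈ T
  · rw [Finset.sum_eq_single i (fun j _ hj => DirectSum.of_eq_of_ne _ _ _ hj.symm) (by simp [hi])]
    rw [DirectSum.lof_apply, hh]
  · rw [hzero i hi x hx]
    exact Finset.sum_eq_zero fun j hj => DirectSum.of_eq_of_ne _ _ _ fun hij => hi (hij ▸ hj)

section Indec

variable {M E : Type v} [AddCommGroup M] [Module R M] [AddCommGroup E] [Module R E]

theorem uniform_of_indecomposable (hE : InjHull.IsIndecomposable R E) (hi : Module.Injective R E)
    (N : Submodule R E) (hN : N ≠ ⊥) {x : E} (hx : x ≠ 0) : ∃ r : R, r • x ∈ N ∧ r • x ≠ 0 := by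
  obtain ⟨E', hess, hE'⟩ := exists_injective_essIn hi N
  obtain ⟨C, hC⟩ := exists_isCompl_of_injective E' hE'
  rcases hE.2 E' C hC with h | h
  · exact absurd (eq_bot_iff.2 (h ▸ hess.1)) hN
  · rw [h] at hC
    exact hess.2 x (eq_top_of_isCompl_bot hC ▸ trivial) hx

theorem inf_ne_bot_of_indecomposable (hE : InjHull.IsIndecomposable R E)
    (hi : Module.Injective R E) {N N' : Submodule R E} (hN : N ≠ ⊥) (hN' : N' ≠ ⊥) :
    N ⊓ N' ≠ ⊥ := by
  obtain ⟨x, hx, hx0⟩ := (Submodule.ne_bot_iff _).1 hN'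
  obtain ⟨r, hr, hr0⟩ := uniform_of_indecomposable hE hi N hN hx0
  exact (Submodule.ne_bot_iff _).2 ⟨r • x, ⟨hr, N'.smul_mem r hx⟩, hr0⟩

theorem isEssentialInj_of_indecomposable (hE : InjHull.IsIndecomposable R E)
    (hi : Module.Injective R E) [Nontrivial M] {f : M →ₗ[R] E} (hf : Function.Injective f) :
    IsEssentialInj f := by
  refine ⟨hf, fun N hN => inf_ne_bot_of_indecomposable hE hi hN fun h => ?_⟩
  obtain ⟨m, hm⟩ := exists_ne (0 : M)
  exact hm (hf (by rw [map_zero]; simpa [h] using LinearMap.mem_range_self f m))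

/-- An essential extension of a uniform module is indecomposable. -/
theorem isIndecomposable_of_isEssentialInj [Nontrivial M] {f : M →ₗ[R] E} (hf : IsEssentialInj f)
    (hM : ∀ N N' : Submodule R M, N ⊓ N' = ⊥ → N = ⊥ ∨ N' = ⊥) :
    InjHull.IsIndecomposable R E := by
  refine ⟨hf.injective.nontrivial, fun N N' h => ?_⟩
  have key : ∀ L : Submodule R E, L.comap f = ⊥ → L = ⊥ := fun L hL => by
    refine eq_bot_of_disjoint_range hf (Submodule.disjoint_def.2 ?_)
    rintro _ hx ⟨m, rfl⟩
    have : m ∈ L.comap f := hx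
    rw [hL, Submodule.mem_bot] at this
    simp [this]
  rcases hM (N.comap f) (N'.comap f) (by
    rw [← Submodule.comap_inf, h.inf_eq_bot, Submodule.comap_bot,
      LinearMap.ker_eq_bot.2 hf.injective]) with h' | h'
  · exact Or.inl (key _ h')
  · exact Or.inr (key _ h')

theorem quotient_prime_uniform (p : Ideal R) [p.IsPrime] (N N' : Submodule R (R ⧸ p))
    (h : N ⊓ N' = ⊥) : N = ⊥ ∨ N' = ⊥ := by
  by_contra hne
  rw [not_or] at hne
  obtain ⟨x, hx, hx0⟩ := (Submodule.ne_bot_iff _).1 hne.1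
  obtain ⟨y, hy, hy0⟩ := (Submodule.ne_bot_iff _).1 hne.2
  obtain ⟨a, rfl⟩ := Ideal.Quotient.mk_surjective x
  obtain ⟨b, rfl⟩ := Ideal.Quotient.mk_surjective y
  have hab : Ideal.Quotient.mk p (a * b) ∈ N ⊓ N' := by
    refine ⟨?_, ?_⟩
    · have := N.smul_mem b hx
      rwa [Algebra.smul_def, Ideal.Quotient.algebraMap_eq, ← map_mul, mul_comm] at this
    · have := N'.smul_mem a hy
      rwa [Algebra.smul_def, Ideal.Quotient.algebraMap_eq, ← map_mul] at this
  rw [h, Submodule.mem_bot, map_mul] at hab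
  rcases mul_eq_zero.1 hab with h | h
  · exact hx0 h
  · exact hy0 h

theorem isEssentialInj_quotient_residueField {R : Type v} [CommRing R] (p : Ideal R) [p.IsPrime] :
    IsEssentialInj
      (IsScalarTower.toAlgHom R (R ⧸ p) p.ResidueField).toLinearMap := by
  refine isEssentialInj_of_smul p.injective_algebraMap_quotient_residueField fun x hx => ?_
  obtain ⟨a, s, hs, rfl⟩ := IsFractionRing.div_surjective (A := R ⧸ p) x
  obtain ⟨t, rfl⟩ := Ideal.Quotient.mk_surjective s
  have ht : algebraMap R p.ResidueField t ≠ 0 := by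
    rw [Ne, Ideal.algebraMap_residueField_eq_zero, ← Ideal.Quotient.eq_zero_iff_mem]
    exact nonZeroDivisors.ne_zero hs
  refine ⟨t, ⟨a, ?_⟩, ?_⟩
  · rw [Algebra.smul_def, Ideal.algebraMap_quotient_residueField_mk]
    exact (mul_div_cancel₀ _ ht).symm
  · rw [Algebra.smul_def]
    exact mul_ne_zero ht hx

theorem isInjectiveHull_residueField_of_quotient {R E : Type v} [CommRing R] [AddCommGroup E]
    [Module R E] (p : Ideal R) [p.IsPrime] {f : (R ⧸ p) →ₗ[R] E} (hf : IsInjectiveHull f) :
    ∃ g : p.ResidueField →ₗ[R] E, IsInjectiveHull g := by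
  obtain ⟨g, hg, hgf⟩ := exists_injective_extend (isEssentialInj_quotient_residueField p)
    hf.injective hf.isInjective
  have h : IsEssentialInj (g ∘ₗ (IsScalarTower.toAlgHom R (R ⧸ p) p.ResidueField).toLinearMap) :=
    hgf.symm ▸ hf.toIsEssentialInj
  exact ⟨g, isEssentialInj_of_comp_right h hg, hf.isInjective⟩

theorem exists_quotient_prime_embedding [IsNoetherianRing R] [Nontrivial E] :
    ∃ (p : Ideal R) (_ : p.IsPrime) (f : (R ⧸ p) →ₗ[R] E), Function.Injective f := by
  obtain ⟨p, hp⟩ := associatedPrimes.nonempty R E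
  obtain ⟨hprime, x, hx⟩ := isAssociatedPrime_iff.1 hp
  refine ⟨p, hprime, Submodule.liftQ p (LinearMap.toSpanSingleton R E x) fun r hr => ?_, ?_⟩
  · rw [hx, Submodule.mem_colon_singleton, Submodule.mem_bot] at hr
    simpa using hr
  · rw [← LinearMap.ker_eq_bot]
    refine Submodule.ker_liftQ_eq_bot _ _ _ fun r hr => ?_
    rw [hx, Submodule.mem_colon_singleton, Submodule.mem_bot]
    simpa using hr

theorem isIndecomposable_congr {F : Type v} [AddCommGroup F] [Module R F] (e : E ≃ₗ[R] F)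
    (h : InjHull.IsIndecomposable R E) : InjHull.IsIndecomposable R F := by
  refine ⟨(e.symm.toEquiv.nontrivial_congr).2 h.1, fun N N' hc => ?_⟩
  have hc' : IsCompl (Submodule.map e.symm.toLinearMap N) (Submodule.map e.symm.toLinearMap N') :=
    hc.map (Submodule.orderIsoMapComap e.symm)
  rcases h.2 _ _ hc' with h' | h'
  · exact Or.inl (Submodule.map_injective_of_injective e.symm.injective
      (h'.trans (Submodule.map_bot _).symm))
  · exact Or.inr (Submodule.map_injective_of_injective e.symm.injective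
      (h'.trans (Submodule.map_bot _).symm))

theorem sSupIndep_insert {α : Type*} [CompleteLattice α] [IsModularLattice α] {S : Set α} {a : α}
    (hS : sSupIndep S) (ha : Disjoint (sSup S) a) : sSupIndep (insert a S) := by
  intro y hy
  rcases hy with rfl | hy
  · exact (ha.mono_left (sSup_le fun z hz => le_sSup (hz.1.resolve_left fun h => hz.2 h))).symm
  · have h1 : Disjoint y (sSup (S \ {y})) := hS hy
    have h2 : Disjoint (y ⊔ sSup (S \ {y})) a :=
      ha.mono_left (sup_le (le_sSup hy) (sSup_le fun z hz => le_sSup hz.1))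
    refine (h1.disjoint_sup_right_of_disjoint_sup_left h2).mono_right (sSup_le fun z hz => ?_)
    rcases hz.1 with rfl | hz'
    · exact le_sup_right
    · exact (le_sSup (show z ∈ S \ {y} from ⟨hz', hz.2⟩)).trans le_sup_left

theorem exists_isInternal_indecomposable {R I : Type u} [CommRing R] [IsNoetherianRing R]
    [AddCommGroup I] [Module R I] (hI : Module.Injective R I) [DecidableEq (Submodule R I)] :
    ∃ S : Set (Submodule R I), DirectSum.IsInternal (fun x : S => (x : Submodule R I)) ∧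
      ∀ x ∈ S, InjHull.IsIndecomposable R x ∧ Module.Injective R x := by
  obtain ⟨S, -, hS⟩ := zorn_subset_nonempty
    {S : Set (Submodule R I) | sSupIndep S ∧ ∀ x ∈ S, InjHull.IsIndecomposable R x ∧
      Module.Injective R x}
    (fun c hc hchain _ => ⟨⋃₀ c, ⟨iSupIndep_sUnion_of_directed hchain.directedOn fun s hs => (hc hs).1, fun x hx => by
      obtain ⟨s, hs, hxs⟩ := hx
      exact (hc hs).2 x hxs⟩, fun s hs => Set.subset_sUnion_of_mem hs⟩) ∅
    ⟨sSupIndep_empty, fun x hx => hx.elim⟩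
  have hind : sSupIndep S := hS.1.1
  have hmem := hS.1.2
  have hind' : iSupIndep (fun x : S => (x : Submodule R I)) := (sSupIndep_iff S).1 hind
  refine ⟨S, (DirectSum.isInternal_submodule_iff_iSupIndep_and_iSup_eq_top _).2 ⟨hind', ?_⟩, hmem⟩
  have hinjT : Module.Injective R ↥(⨆ x : S, (x : Submodule R I)) := by
    have h1 := injective_range (injective_directSum fun x : S => (hmem x x.2).2)
      (iSupIndep.dfinsupp_lsum_injective hind')
    have h2 : LinearMap.range (DFinsupp.lsum ℕ fun x : S => (x : Submodule R I).subtype) =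
        ⨆ x : S, (x : Submodule R I) := (Submodule.iSup_eq_range_dfinsupp_lsum _).symm
    exact h2 ▸ h1
  obtain ⟨C, hC⟩ := exists_isCompl_of_injective _ hinjT
  by_contra hne
  have hC0 : C ≠ ⊥ := fun h => hne (eq_top_of_isCompl_bot (h ▸ hC))
  have : Nontrivial C := Submodule.nontrivial_iff_ne_bot.2 hC0
  obtain ⟨p, hp, f, hf⟩ := exists_quotient_prime_embedding (R := R) (E := C)
  obtain ⟨E', hess, hE'⟩ := exists_injective_essIn (injective_of_isCompl hI hC.symm)
    (LinearMap.range f)
  have hE'ind : InjHull.IsIndecomposable R E' :=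
    isIndecomposable_of_isEssentialInj
      (f := Submodule.inclusion hess.1 ∘ₗ (LinearEquiv.ofInjective f hf).toLinearMap)
      (isEssentialInj_comp (isEssentialInj_linearEquiv _) hess.isEssentialInj)
      (quotient_prime_uniform p)
  let e := (Submodule.equivMapOfInjective C.subtype C.injective_subtype E')
  have hxC : Submodule.map C.subtype E' ≤ C := Submodule.map_subtype_le C E'
  have hnewinj : Module.Injective R ↥(Submodule.map C.subtype E') :=
    injective_of_linearEquiv e hE'
  have hnewind : InjHull.IsIndecomposable R ↥(Submodule.map C.subtype E') :=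
    isIndecomposable_congr e hE'ind
  have hdisj : Disjoint (sSup S) (Submodule.map C.subtype E') := by
    rw [sSup_eq_iSup']
    exact hC.disjoint.mono_right hxC
  have hmax := hS.2 (y := insert (Submodule.map C.subtype E') S)
    ⟨sSupIndep_insert hind hdisj, fun x hx => by
      rcases hx with rfl | hx
      · exact ⟨hnewind, hnewinj⟩
      · exact hmem x hx⟩ (Set.subset_insert _ _)
  have : Submodule.map C.subtype E' ∈ S := hmax (Set.mem_insert _ _)
  have h0 := disjoint_self.1 ((hdisj.mono_left (le_sSup this)))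
  exact (Submodule.nontrivial_iff_ne_bot.1 hnewind.1) h0

end Indec

end Groth.L04
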