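import Mathlib.RingTheory.Support
import Mathlib.RingTheory.KrullDimension.Module
import Mathlib.RingTheory.Localization.AtPrime.Basic

/-!
# Supports of localized modules
-/

universe u v

namespace Groth.L04

theorem support_localization {A : Type u} [CommRing A] (p : Ideal A) [p.IsPrime] {L : Type v}
    [AddCommGroup L] [Module A L] (q : PrimeSpectrum (Localization.AtPrime p)) :
    q ∈ Module.support (Localization.AtPrime p) (LocalizedModule p.primeCompl L) ↔
      PrimeSpectrum.comap (algebraMap A (Localization.AtPrime p)) q ∈ Module.support A L := by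
  set φ := LocalizedModule.mkLinearMap p.primeCompl L
  rw [Module.mem_support_iff', Module.mem_support_iff']
  constructor
  · rintro ⟨z, hz⟩
    obtain ⟨⟨y, s⟩, rfl⟩ := IsLocalizedModule.mk'_surjective p.primeCompl φ z
    refine ⟨y, fun r hr hry => hz (algebraMap A _ r) hr ?_⟩
    simp only [Function.uncurry_apply_pair]
    rw [algebraMap_smul, ← IsLocalizedModule.mk'_smul, hry, IsLocalizedModule.mk'_zero]
  · rintro ⟨y, hy⟩
    refine ⟨φ y, fun c hc hcy => ?_⟩
    obtain ⟨r, t, rfl⟩ := IsLocalization.exists_mk'_eq p.primeCompl c
    have hr : algebraMap A _ r ∉ q.asIdeal := by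
      rw [← IsLocalization.mk'_spec (Localization.AtPrime p) r t]
      exact fun h => ((q.isPrime.mem_or_mem h).resolve_left hc |>
        fun ht => q.isPrime.ne_top (Ideal.eq_top_of_isUnit_mem _ ht (IsLocalization.map_units _ t)))
    have h0 : φ (r • y) = 0 := by
      rw [map_smul, ← algebraMap_smul (Localization.AtPrime p) r (φ y),
        ← IsLocalization.mk'_spec (Localization.AtPrime p) r t, mul_comm, mul_smul, hcy, smul_zero]
    obtain ⟨s, hs⟩ := (IsLocalizedModule.eq_zero_iff p.primeCompl φ).1 h0
    rw [Submonoid.smul_def, smul_smul] at hs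
    refine hy ((s : A) * r) (fun h => ?_) hs
    rcases q.isPrime.mem_or_mem (show algebraMap A _ (s : A) * algebraMap A _ r ∈ q.asIdeal by
      rw [← map_mul]; exact h) with h' | h'
    · exact q.isPrime.ne_top (Ideal.eq_top_of_isUnit_mem _ h' (IsLocalization.map_units _ s))
    · exact hr h'

theorem supportDim_localized_mono {A : Type u} [CommRing A] {M N : Type v} [AddCommGroup M]
    [Module A M] [AddCommGroup N] [Module A N]
    (h : Module.support A M ⊆ Module.support A N) (p : Ideal A) [p.IsPrime] :
    Module.supportDim (Localization.AtPrime p) (LocalizedModule p.primeCompl M) ≤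
      Module.supportDim (Localization.AtPrime p) (LocalizedModule p.primeCompl N) :=
  Order.krullDim_le_of_strictMono
    (fun q => ⟨q.1, (support_localization p q.1).2 (h ((support_localization p q.1).1 q.2))⟩)
    fun _ _ hab => hab

end Groth.L04
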