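import Groth.Agent.L04.DepthLoc
import Groth.Agent.L04.SupportLoc
import Groth.Agent.L01.Regular
import Mathlib.CategoryTheory.Abelian.Projective.Dimension
import Mathlib.Algebra.Category.ModuleCat.Projective

/-!
# Cohen–Macaulay modules localize; depth and projective dimension
-/

universe u

open CategoryTheory RingTheory.Sequence Ideal IsLocalRing
open scoped Pointwise

namespace Groth.L04

theorem le_idealDepth_of_projective {R : Type u} [CommRing R] [IsNoetherianRing R] (I : Ideal R)
    (P : Type u) [AddCommGroup P] [Module R P] [Module.Finite R P] [Module.Projective R P] {n : ℕ}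
    (h : (n : ℕ∞) ≤ LocCoh.idealDepth I R) : (n : ℕ∞) ≤ LocCoh.idealDepth I P := by
  obtain ⟨k, g, hg⟩ := Module.Finite.exists_fin' R P
  obtain ⟨s, hs⟩ := g.exists_rightInverse_of_surjective (LinearMap.range_eq_top.2 hg)
  have hF := le_idealDepth_free (R := R) I (Fin k → R) h
  rw [le_idealDepth_iff_extVanish] at hF ⊢
  intro i hi
  refine subsingleton_of_forall_eq 0 fun x => ?_
  have h0 : x.comp (Abelian.Ext.mk₀ (ModuleCat.ofHom s)) (add_zero i) = 0 :=
    @Subsingleton.elim _ (hF i hi) _ _
  have hid : ModuleCat.ofHom s ≫ ModuleCat.ofHom g = 𝟙 (ModuleCat.of R P) := by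
    ext y; exact LinearMap.congr_fun hs y
  rw [← Abelian.Ext.comp_mk₀_id x, ← hid, ← Abelian.Ext.mk₀_comp_mk₀,
    ← Abelian.Ext.comp_assoc_of_third_deg_zero, h0, Abelian.Ext.zero_comp]

theorem le_idealDepth_of_pd {R : Type u} [CommRing R] [IsNoetherianRing R] (I : Ideal R) :
    ∀ (n : ℕ) (M : Type u) [AddCommGroup M] [Module R M] [Module.Finite R M],
      HasProjectiveDimensionLE (ModuleCat.of R M) n →
      ∀ m : ℕ, ((m + n : ℕ) : ℕ∞) ≤ LocCoh.idealDepth I R → (m : ℕ∞) ≤ LocCoh.idealDepth I M
  | 0, M, _, _, _, hn, m, hm => by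
    haveI : Projective (ModuleCat.of R M) :=
      (projective_iff_hasProjectiveDimensionLE_zero _).2 hn
    haveI : Module.Projective R M :=
      (IsProjective.iff_projective (R := R) M).2 inferInstance
    exact le_idealDepth_of_projective I M hm
  | n + 1, M, _, _, _, hn, m, hm => by
    obtain ⟨k, g, hg⟩ := Module.Finite.exists_fin' R M
    haveI : Module.Finite R (LinearMap.ker g) := Module.Finite.of_fg (IsNoetherian.noetherian _)
    have hex : Function.Exact (LinearMap.ker g).subtype g := g.exact_subtype_ker_map
    have hS := shortExact_mk (LinearMap.ker g).injective_subtype hg hex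
    have hproj : Projective (ModuleCat.of R (Fin k → R)) :=
      (IsProjective.iff_projective (R := R) (Fin k → R)).1 inferInstance
    have hK : HasProjectiveDimensionLE (ModuleCat.of R (LinearMap.ker g)) n :=
      (hS.hasProjectiveDimensionLT_X₃_iff n hproj).1 hn
    refine le_idealDepth_right (LinearMap.ker g).injective_subtype hg hex
      (le_idealDepth_of_pd I n (LinearMap.ker g) hK (m + 1)
        (by rw [show m + 1 + n = m + (n + 1) by omega]; exact hm))
      (le_idealDepth_free I _ (le_trans (by exact_mod_cast Nat.le_add_right m (n + 1)) hm))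

theorem idealDepth_eq_zero_of_mem_associatedPrimes {R : Type u} [CommRing R] [IsNoetherianRing R]
    {M : Type u} [AddCommGroup M] [Module R M] [Module.Finite R M] {p : Ideal R}
    (hp : p ∈ associatedPrimes R M) : ¬ (1 : ℕ∞) ≤ LocCoh.idealDepth p M := by
  obtain ⟨hpp, z, hz⟩ := isAssociatedPrime_iff.1 hp
  intro h
  refine hpp.ne_top ?_
  have : z = 0 := hom_zero_of_one_le h fun a ha => by
    rw [hz] at ha
    simpa using ha
  rw [hz, this, eq_top_iff]
  intro a _
  simp

section CM

variable {R : Type u} [CommRing R] [IsLocalRing R] [IsNoetherianRing R] {M : Type u}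
  [AddCommGroup M] [Module R M] [Module.Finite R M]

theorem isCohenMacaulayModule_localized (hM : LocCoh.IsCohenMacaulayModule R M) (p : Ideal R)
    [hp : p.IsPrime] (hpM : (⟨p, hp⟩ : PrimeSpectrum R) ∈ Module.support R M) :
    LocCoh.IsCohenMacaulayModule (Localization.AtPrime p) (LocalizedModule p.primeCompl M) := by
  haveI := nontrivial_of_isCohenMacaulayModule hM
  haveI : Module.Finite (Localization.AtPrime p) (LocalizedModule p.primeCompl M) :=
    Module.Finite.of_isLocalizedModule p.primeCompl (LocalizedModule.mkLinearMap p.primeCompl M)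
  haveI : Nontrivial (LocalizedModule p.primeCompl M) := Module.mem_support_iff.1 hpM
  obtain ⟨rs, -, hrs, hrsp, z, hz0, hz⟩ := exists_maximal_regular
    (smul_top_ne_top_of_nontrivial hp.ne_top) (IsWeaklyRegular.nil R M) (by simp)
  have hrsm : ∀ r ∈ rs, r ∈ maximalIdeal R := fun r hr => le_maximalIdeal hp.ne_top (hrsp r hr)
  have hCM := isCohenMacaulayModule_quotient_ofList hM hrs hrsm
  obtain ⟨P, hP, hPz⟩ := exists_le_isAssociatedPrime_of_isNoetherianRing R z hz0
  have hPp : P.IsPrime := hP.isPrime
  have hpP : p ≤ P := fun a ha => hPz (Submodule.mem_colon_singleton.2 (by simp [hz a ha]))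
  set M' := M ⧸ Ideal.ofList rs • (⊤ : Submodule R M)
  have hpM' : (⟨p, hp⟩ : PrimeSpectrum R) ∈ Module.support R M' := by
    rw [Module.support_quotient]
    exact ⟨hpM, (PrimeSpectrum.mem_zeroLocus _ _).2 (Ideal.span_le.2 hrsp)⟩
  have heq : p = P := by
    by_contra hne
    obtain ⟨y, hyP, hyp⟩ := Set.exists_of_ssubset (hpP.lt_of_ne hne)
    have hreg : IsSMulRegular (R ⧸ p) y := by
      intro a b hab
      obtain ⟨a, rfl⟩ := Ideal.Quotient.mk_surjective a
      obtain ⟨b, rfl⟩ := Ideal.Quotient.mk_surjective b
      have h1 : y * a - y * b ∈ p := Ideal.Quotient.eq.1 hab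
      rw [← mul_sub] at h1
      exact Ideal.Quotient.eq.2 ((hp.mem_or_mem h1).resolve_left hyp)
    have h1 := Module.supportDim_quotSMulTop_succ_eq_supportDim hreg (le_maximalIdeal hPp.ne_top hyP)
    have h2 : ringKrullDim (R ⧸ P) ≤ Module.supportDim R (QuotSMulTop y (R ⧸ p)) := by
      rw [← Module.supportDim_quotient_eq_ringKrullDim]
      refine Order.krullDim_le_of_strictMono (Set.inclusion ?_) fun _ _ h => h
      intro x hx
      rw [Module.support_eq_zeroLocus, Ideal.annihilator_quotient, PrimeSpectrum.mem_zeroLocus] at hx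
      rw [Module.support_quotSMulTop, Module.support_eq_zeroLocus, Ideal.annihilator_quotient]
      exact ⟨(PrimeSpectrum.mem_zeroLocus _ _).2 (fun a ha => hx (hpP ha)),
        (PrimeSpectrum.mem_zeroLocus _ _).2 (Set.singleton_subset_iff.2 (hx hyP))⟩
    have h3 : Module.supportDim R (R ⧸ p) ≤ Module.supportDim R M' := by
      refine Order.krullDim_le_of_strictMono (Set.inclusion ?_) fun _ _ h => h
      intro x hx
      rw [Module.support_eq_zeroLocus, Ideal.annihilator_quotient, PrimeSpectrum.mem_zeroLocus] at hx
      exact Module.mem_support_mono (p := ⟨p, hp⟩) hx hpM'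
    rw [← ringKrullDim_quotient_eq_supportDim_of_isCM hCM hP, ← h1] at h3
    haveI : Nontrivial (R ⧸ P) := Ideal.Quotient.nontrivial_iff.2 hPp.ne_top
    obtain ⟨d, hd⟩ := WithBot.ne_bot_iff_exists.1
      (show ringKrullDim (R ⧸ P) ≠ ⊥ from ne_bot_of_le_ne_bot (by decide) ringKrullDim_nonneg_of_nontrivial)
    have h4 : ringKrullDim (R ⧸ P) + 1 ≤ ringKrullDim (R ⧸ P) :=
      (add_le_add h2 le_rfl).trans h3
    rw [← hd] at h4
    have hfin : d ≠ ⊤ := by
      rintro rfl
      have hlt : ringKrullDim R < ⊤ := ringKrullDim_lt_top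
      have := (ringKrullDim_le_of_surjective _ (Ideal.Quotient.mk_surjective (I := P))).trans_lt hlt
      rw [← hd] at this
      exact lt_irrefl _ this
    obtain ⟨d, rfl⟩ := ENat.ne_top_iff_exists.1 hfin
    have h5 : d + 1 ≤ d := by exact_mod_cast h4
    omega
  subst heq
  set φ := LocalizedModule.mkLinearMap p.primeCompl M
  have hreg' := hrs.of_isLocalizedModule (Localization.AtPrime p) p.primeCompl φ
  have hmem : ∀ r ∈ rs.map (algebraMap R (Localization.AtPrime p)),
      r ∈ maximalIdeal (Localization.AtPrime p) := fun r hr => by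
    obtain ⟨r, hr', rfl⟩ := List.mem_map.1 hr
    exact (IsLocalization.AtPrime.to_map_mem_maximal_iff _ p r).2 (hrsp r hr')
  rw [isCohenMacaulayModule_iff_supportDim_le]
  refine le_trans ?_ (WithBot.coe_le_coe.2 (length_le_idealDepth hreg' hmem))
  rw [← supportDim_quotient_ofList_add hreg' hmem, WithBot.coe_natCast]
  refine le_trans (add_le_add ?_ le_rfl) (zero_add _).le
  -- the support of the quotient is the closed point
  haveI : Subsingleton (Module.support (Localization.AtPrime p) (LocalizedModule p.primeCompl M ⧸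
      Ideal.ofList (rs.map (algebraMap R (Localization.AtPrime p))) •
        (⊤ : Submodule (Localization.AtPrime p) (LocalizedModule p.primeCompl M)))) := by
    refine ⟨fun a b => Subtype.ext ?_⟩
    suffices H : ∀ q ∈ Module.support (Localization.AtPrime p) (LocalizedModule p.primeCompl M ⧸
        Ideal.ofList (rs.map (algebraMap R (Localization.AtPrime p))) •
          (⊤ : Submodule (Localization.AtPrime p) (LocalizedModule p.primeCompl M))),
        q.asIdeal = maximalIdeal (Localization.AtPrime p) from
      PrimeSpectrum.ext ((H a.1 a.2).trans (H b.1 b.2).symm)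
    intro q hq
    rw [Module.support_quotient] at hq
    set q₀ := PrimeSpectrum.comap (algebraMap R (Localization.AtPrime p)) q
    have hq₀p : q₀.asIdeal ≤ p := by
      intro a ha
      by_contra hap
      exact q.isPrime.ne_top (Ideal.eq_top_of_isUnit_mem _ ha
        (IsLocalization.map_units _ (⟨a, hap⟩ : p.primeCompl)))
    have hq₀M' : q₀ ∈ Module.support R M' := by
      rw [Module.support_quotient]
      refine ⟨(support_localization p q).1 hq.1, (PrimeSpectrum.mem_zeroLocus _ _).2 ?_⟩
      refine Ideal.span_le.2 fun r hr => ?_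
      exact (PrimeSpectrum.mem_zeroLocus _ _).1 hq.2
        (Ideal.subset_span (List.mem_map.2 ⟨r, hr, rfl⟩))
    rw [Module.mem_support_iff_of_finite] at hq₀M'
    obtain ⟨Q, hQ, hQle⟩ := Ideal.exists_minimalPrimes_le hq₀M'
    have hQass : Q ∈ associatedPrimes R M' :=
      Module.associatedPrimes.minimalPrimes_annihilator_subset_associatedPrimes R M' hQ
    have hQp : Q = p := by
      by_contra hne
      obtain ⟨y, hyp, hyQ⟩ := Set.exists_of_ssubset ((hQle.trans hq₀p).lt_of_ne hne)
      have hreg : IsSMulRegular (R ⧸ Q) y := by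
        intro a b hab
        obtain ⟨a, rfl⟩ := Ideal.Quotient.mk_surjective a
        obtain ⟨b, rfl⟩ := Ideal.Quotient.mk_surjective b
        have h1 : y * a - y * b ∈ Q := Ideal.Quotient.eq.1 hab
        rw [← mul_sub] at h1
        exact Ideal.Quotient.eq.2 ((hQ.isPrime.mem_or_mem h1).resolve_left hyQ)
      have h1 := Module.supportDim_quotSMulTop_succ_eq_supportDim hreg
        (le_maximalIdeal hp.ne_top hyp)
      have h2 : ringKrullDim (R ⧸ p) ≤ Module.supportDim R (QuotSMulTop y (R ⧸ Q)) := by
        rw [← Module.supportDim_quotient_eq_ringKrullDim]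
        refine Order.krullDim_le_of_strictMono (Set.inclusion ?_) fun _ _ h => h
        intro x hx
        rw [Module.support_eq_zeroLocus, Ideal.annihilator_quotient, PrimeSpectrum.mem_zeroLocus] at hx
        rw [Module.support_quotSMulTop, Module.support_eq_zeroLocus, Ideal.annihilator_quotient]
        exact ⟨(PrimeSpectrum.mem_zeroLocus _ _).2 (fun a ha => hx ((hQle.trans hq₀p) ha)),
          (PrimeSpectrum.mem_zeroLocus _ _).2 (Set.singleton_subset_iff.2 (hx hyp))⟩
      rw [Module.supportDim_quotient_eq_ringKrullDim,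
        ringKrullDim_quotient_eq_supportDim_of_isCM hCM hQass,
        ← ringKrullDim_quotient_eq_supportDim_of_isCM hCM hP] at h1
      haveI : Nontrivial (R ⧸ p) := Ideal.Quotient.nontrivial_iff.2 hp.ne_top
      obtain ⟨d, hd⟩ := WithBot.ne_bot_iff_exists.1
        (show ringKrullDim (R ⧸ p) ≠ ⊥ from
          ne_bot_of_le_ne_bot (by decide) ringKrullDim_nonneg_of_nontrivial)
      have h4 : ringKrullDim (R ⧸ p) + 1 ≤ ringKrullDim (R ⧸ p) :=
        (add_le_add h2 le_rfl).trans h1.le
      rw [← hd] at h4
      have hfin : d ≠ ⊤ := by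
        rintro rfl
        have hlt : ringKrullDim R < ⊤ := ringKrullDim_lt_top
        have := (ringKrullDim_le_of_surjective _ (Ideal.Quotient.mk_surjective (I := p))).trans_lt hlt
        rw [← hd] at this
        exact lt_irrefl _ this
      obtain ⟨d, rfl⟩ := ENat.ne_top_iff_exists.1 hfin
      have h5 : d + 1 ≤ d := by exact_mod_cast h4
      omega
    refine le_antisymm (le_maximalIdeal q.isPrime.ne_top) ?_
    rw [← Localization.AtPrime.map_eq_maximalIdeal, Ideal.map_le_iff_le_comap]
    exact le_of_eq_of_le hQp.symm hQle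
  exact Order.krullDim_nonpos_of_subsingleton

end CM

theorem isCohenMacaulayRing_of_local (R : Type u) [CommRing R]
    [h : LocCoh.IsCohenMacaulayLocalRing R] : LocCoh.IsCohenMacaulayRing R where
  isCohenMacaulayLocalRing_localization p _ := by
    have := isCohenMacaulayModule_localized (M := R) h.supportDim_eq_depth p (by
      rw [Module.mem_support_iff_of_finite]
      intro a ha
      have : a = 0 := by simpa using Module.mem_annihilator.1 ha 1
      simp [this])
    refine { supportDim_eq_depth := ?_ }
    unfold LocCoh.IsCohenMacaulayModule at this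
    rwa [Module.supportDim_eq_of_equiv (localizedModuleSelfEquiv p), depth_localizedModule_self] at this

theorem isCohenMacaulayLocalRing_of_regular (R : Type u) [CommRing R] [IsRegularLocalRing R] :
    LocCoh.IsCohenMacaulayLocalRing R where
  supportDim_eq_depth := by
    refine le_antisymm ?_ depth_le_supportDim
    obtain ⟨s, hs, hs'⟩ := Submodule.FG.exists_span_finset_card_eq_spanFinrank
      (IsNoetherian.noetherian (maximalIdeal R))
    classical
    have hgen : Ideal.ofList s.toList = maximalIdeal R := by
      rw [← hs', Ideal.ofList]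
      congr 1
      ext x
      simp
    have hdim : ringKrullDim R = (s.toList.length : ℕ) := by
      rw [Finset.length_toList, hs]
      exact ((isRegularLocalRing_iff R).1 ‹_›).symm
    rw [Module.supportDim_self_eq_ringKrullDim, hdim]
    have h := length_le_idealDepth (I := maximalIdeal R)
      (Groth.L01.isRegular_of_ofList_eq_maximalIdeal s.toList hgen hdim).1
      (fun r hr => hgen ▸ Ideal.subset_span hr)
    exact_mod_cast h

theorem height_le_of_pd_of_mem_associatedPrimes {B : Type u} [CommRing B] [IsRegularLocalRing B]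
    {M : Type u} [AddCommGroup M] [Module B M] [Module.Finite B M] {p : Ideal B}
    (hp : p ∈ associatedPrimes B M) {n : ℕ} (hn : HasProjectiveDimensionLE (ModuleCat.of B M) n) :
    p.height ≤ n := by
  by_contra h
  rw [not_le] at h
  haveI := isCohenMacaulayLocalRing_of_regular B
  have hd := (isCohenMacaulayRing_iff_height.1 (isCohenMacaulayRing_of_local B)) p
    (IsAssociatedPrime.isPrime hp).ne_top
  refine idealDepth_eq_zero_of_mem_associatedPrimes hp ?_
  have := le_idealDepth_of_pd p n M hn 1 (by
    rw [hd, add_comm]; push_cast; exact Order.add_one_le_of_lt h)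
  simpa using this

end Groth.L04
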