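import Groth.Agent.L04.Depth2
import Mathlib.RingTheory.Ideal.AssociatedPrime.Finiteness
import Mathlib.Algebra.Category.ModuleCat.Ext.Finite

/-!
# Basic facts on Cohen–Macaulay modules
-/

universe u

open CategoryTheory RingTheory.Sequence Ideal IsLocalRing Abelian
open scoped Pointwise

namespace Groth.L04

variable {R : Type u} [CommRing R] [IsLocalRing R] [IsNoetherianRing R]
  {M : Type u} [AddCommGroup M] [Module R M] [Module.Finite R M]

theorem smul_top_ne_top_of_nontrivial [Nontrivial M] {I : Ideal R} (hI : I ≠ ⊤) :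
    I • (⊤ : Submodule R M) ≠ ⊤ :=
  (Submodule.top_ne_ideal_smul_of_le_jacobson_annihilator
    ((le_maximalIdeal hI).trans (maximalIdeal_le_jacobson _))).symm

theorem natCast_le_depth_le_ringKrullDim_quotient (n : ℕ) : ∀ (M : Type u) [AddCommGroup M]
    [Module R M] [Module.Finite R M] (p : Ideal R), p ∈ associatedPrimes R M →
    (n : ℕ∞) ≤ LocCoh.depth R M → (n : WithBot ℕ∞) ≤ ringKrullDim (R ⧸ p) := by
  induction n with
  | zero =>
    intro M _ _ _ p hp _
    have : p.IsPrime := IsAssociatedPrime.isPrime hp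
    haveI : Nontrivial (R ⧸ p) := Ideal.Quotient.nontrivial_iff.2 this.ne_top
    exact_mod_cast ringKrullDim_nonneg_of_nontrivial
  | succ n ih =>
    intro M _ _ _ p hp hn
    have hpp : p.IsPrime := IsAssociatedPrime.isPrime hp
    have hpm : p ≤ maximalIdeal R := le_maximalIdeal hpp.ne_top
    obtain ⟨z, hz⟩ := (isAssociatedPrime_iff.1 hp).2
    have hz0 : z ≠ 0 := by
      rintro rfl
      apply hpp.ne_top
      rw [hz, eq_top_iff]
      intro a _
      simp
    haveI : Nontrivial M := ⟨⟨z, 0, hz0⟩⟩
    obtain ⟨rs, hlen, hrs, hrsI⟩ := exists_of_le_idealDepth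
      (smul_top_ne_top_of_nontrivial (maximalIdeal.isMaximal R).ne_top) hn
    obtain ⟨y, rs', rfl⟩ : ∃ y rs', rs = y :: rs' := by
      cases rs with
      | nil => simp at hlen
      | cons a l => exact ⟨a, l, rfl⟩
    rw [isWeaklyRegular_cons_iff] at hrs
    have hy : y ∈ maximalIdeal R := hrsI y (by simp)
    have hreg := hrs.1
    have hQ : (n : ℕ∞) ≤ LocCoh.depth R (QuotSMulTop y M) :=
      (le_idealDepth_quotSMulTop_iff hy hreg n).2 hn
    let N : Submodule R M := Submodule.torsionBySet R M p
    have hpz : ∀ a ∈ p, a • z = 0 := fun a ha => by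
      rw [hz] at ha
      simpa using ha
    have hzN : z ∈ N := (Submodule.mem_torsionBySet_iff _ _).2 fun a => hpz a a.2
    haveI : Nontrivial N := ⟨⟨⟨z, hzN⟩, 0, fun h => hz0 (congrArg Subtype.val h)⟩⟩
    haveI : Nontrivial (QuotSMulTop y N) := Submodule.Quotient.nontrivial_iff.2
      (Submodule.top_ne_pointwise_smul_of_mem_jacobson_annihilator
        (maximalIdeal_le_jacobson _ hy)).symm
    let g : QuotSMulTop y N →ₗ[R] QuotSMulTop y M := QuotSMulTop.map y N.subtype
    have hg : Function.Injective g := by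
      rw [← LinearMap.ker_eq_bot, Submodule.eq_bot_iff]
      intro x hx
      obtain ⟨x, rfl⟩ := Submodule.mkQ_surjective _ x
      rw [LinearMap.mem_ker] at hx
      have hx' : (x : M) ∈ y • (⊤ : Submodule R M) := by
        rw [← Submodule.Quotient.mk_eq_zero]
        exact hx
      obtain ⟨m, -, hm⟩ := (Submodule.mem_smul_pointwise_iff_exists _ _ _).1 hx'
      have hmN : m ∈ N := by
        refine (Submodule.mem_torsionBySet_iff _ _).2 fun a => hreg ?_
        simp only [smul_zero]
        rw [smul_comm, hm]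
        exact (Submodule.mem_torsionBySet_iff _ _).1 x.2 a
      rw [Submodule.mkQ_apply, Submodule.Quotient.mk_eq_zero]
      exact (Submodule.mem_smul_pointwise_iff_exists _ _ _).2
        ⟨⟨m, hmN⟩, trivial, Subtype.ext (by simpa using hm)⟩
    obtain ⟨q, hq⟩ := associatedPrimes.nonempty R (QuotSMulTop y N)
    have hqM : q ∈ associatedPrimes R (QuotSMulTop y M) :=
      associatedPrimes.subset_of_injective hg hq
    have hqdim := ih (QuotSMulTop y M) q hqM hQ
    have hle : p ⊔ Ideal.span {y} ≤ q := by
      refine le_trans ?_ (IsAssociatedPrime.annihilator_le hq)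
      rw [sup_le_iff, Ideal.span_singleton_le_iff_mem]
      constructor
      · intro a ha
        refine Submodule.mem_annihilator.2 fun x _ => ?_
        obtain ⟨x, rfl⟩ := Submodule.mkQ_surjective _ x
        rw [← map_smul]
        have : a • x = 0 :=
          Subtype.ext ((Submodule.mem_torsionBySet_iff _ _).1 x.2 ⟨a, ha⟩)
        rw [this, map_zero]
      · refine Submodule.mem_annihilator.2 fun x _ => ?_
        obtain ⟨x, rfl⟩ := Submodule.mkQ_surjective _ x
        rw [← map_smul, Submodule.mkQ_apply, Submodule.Quotient.mk_eq_zero]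
        exact Submodule.smul_mem_pointwise_smul x y _ trivial
    have hyp : y ∉ p := fun h => hz0 (hreg (by simpa using hpz y h))
    have hregp : IsSMulRegular (R ⧸ p) y := by
      intro a b hab
      obtain ⟨a, rfl⟩ := Ideal.Quotient.mk_surjective a
      obtain ⟨b, rfl⟩ := Ideal.Quotient.mk_surjective b
      have h1 : y * a - y * b ∈ p := Ideal.Quotient.eq.1 hab
      rw [← mul_sub] at h1
      exact Ideal.Quotient.eq.2 ((hpp.mem_or_mem h1).resolve_left hyp)
    have h1 := Module.supportDim_quotSMulTop_succ_eq_supportDim hregp hy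
    rw [Module.supportDim_quotient_eq_ringKrullDim] at h1
    have h2 : ringKrullDim (R ⧸ q) ≤ Module.supportDim R (QuotSMulTop y (R ⧸ p)) := by
      rw [← Module.supportDim_quotient_eq_ringKrullDim]
      refine Module.supportDim_le_of_surjective
        (Submodule.liftQ _ (Submodule.factor (le_sup_left.trans hle : p ≤ q)) ?_) ?_
      · intro x hx
        obtain ⟨w, -, rfl⟩ := (Submodule.mem_smul_pointwise_iff_exists _ _ _).1 hx
        obtain ⟨w, rfl⟩ := Submodule.mkQ_surjective p w
        rw [LinearMap.mem_ker, map_smul]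
        change y • (Submodule.Quotient.mk w : R ⧸ q) = 0
        rw [← Submodule.Quotient.mk_smul, Submodule.Quotient.mk_eq_zero, smul_eq_mul]
        exact q.mul_mem_right _ (hle (Ideal.mem_sup_right (Ideal.mem_span_singleton_self y)))
      · intro x
        obtain ⟨x, rfl⟩ := Submodule.mkQ_surjective q x
        exact ⟨Submodule.Quotient.mk (Submodule.Quotient.mk x), rfl⟩
    rw [← h1]
    push_cast
    exact add_le_add (hqdim.trans h2) le_rfl

theorem depth_le_ringKrullDim_quotient {p : Ideal R} (hp : p ∈ associatedPrimes R M) :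
    ((LocCoh.depth R M : ℕ∞) : WithBot ℕ∞) ≤ ringKrullDim (R ⧸ p) := by
  obtain ⟨k, hk⟩ := WithBot.ne_bot_iff_exists.1 (show ringKrullDim (R ⧸ p) ≠ ⊥ from by
    haveI : Nontrivial (R ⧸ p) :=
      Ideal.Quotient.nontrivial_iff.2 (IsAssociatedPrime.isPrime hp).ne_top
    exact ne_bot_of_le_ne_bot (by decide) ringKrullDim_nonneg_of_nontrivial)
  rw [← hk, WithBot.coe_le_coe, ← ENat.forall_natCast_le_iff_le]
  intro n hn
  have := natCast_le_depth_le_ringKrullDim_quotient n M p hp hn
  rw [← hk] at this
  exact_mod_cast this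

omit [IsLocalRing R] in
theorem ringKrullDim_quotient_le_supportDim {p : Ideal R} (hp : p ∈ associatedPrimes R M) :
    ringKrullDim (R ⧸ p) ≤ Module.supportDim R M := by
  obtain ⟨f, hf⟩ := ((isAssociatedPrime_iff_exists_injective_linearMap p M).1 hp).2
  rw [← Module.supportDim_quotient_eq_ringKrullDim]
  exact Module.supportDim_le_of_injective f hf

theorem depth_le_supportDim [Nontrivial M] :
    ((LocCoh.depth R M : ℕ∞) : WithBot ℕ∞) ≤ Module.supportDim R M := by
  obtain ⟨p, hp⟩ := associatedPrimes.nonempty R M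
  exact (depth_le_ringKrullDim_quotient hp).trans (ringKrullDim_quotient_le_supportDim hp)

theorem isCohenMacaulayModule_iff_supportDim_le [Nontrivial M] :
    LocCoh.IsCohenMacaulayModule R M ↔
      Module.supportDim R M ≤ ((LocCoh.depth R M : ℕ∞) : WithBot ℕ∞) :=
  ⟨fun h => h.le, fun h => le_antisymm h depth_le_supportDim⟩

omit [IsNoetherianRing R] [Module.Finite R M] in
theorem nontrivial_of_isCohenMacaulayModule (hM : LocCoh.IsCohenMacaulayModule R M) :
    Nontrivial M := by
  rw [← Module.supportDim_ne_bot_iff_nontrivial (R := R), hM]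
  exact WithBot.coe_ne_bot

theorem ringKrullDim_quotient_eq_supportDim_of_isCM (hM : LocCoh.IsCohenMacaulayModule R M)
    {p : Ideal R} (hp : p ∈ associatedPrimes R M) :
    ringKrullDim (R ⧸ p) = Module.supportDim R M :=
  le_antisymm (ringKrullDim_quotient_le_supportDim hp) (hM.le.trans (depth_le_ringKrullDim_quotient hp))

theorem supportDim_quotient_ofList_add {rs : List R} [Nontrivial M] (hrs : IsWeaklyRegular M rs)
    (hI : ∀ r ∈ rs, r ∈ maximalIdeal R) :
    Module.supportDim R (M ⧸ Ideal.ofList rs • (⊤ : Submodule R M)) + rs.length =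
      Module.supportDim R M :=
  Module.supportDim_add_length_eq_supportDim_of_isRegular rs (isRegular_of_isWeaklyRegular
    (smul_top_ne_top_of_nontrivial (maximalIdeal.isMaximal R).ne_top) hrs hI)

theorem depth_quotient_ofList_add {rs : List R} [Nontrivial M] (hrs : IsWeaklyRegular M rs)
    (hI : ∀ r ∈ rs, r ∈ maximalIdeal R) :
    LocCoh.depth R (M ⧸ Ideal.ofList rs • (⊤ : Submodule R M)) + rs.length = LocCoh.depth R M := by
  refine le_antisymm ?_ ?_
  · rw [← ENat.forall_natCast_le_iff_le]
    intro n hn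
    by_cases h : n ≤ rs.length
    · exact le_trans (by exact_mod_cast h) (length_le_idealDepth hrs hI)
    · obtain ⟨k, rfl⟩ := Nat.exists_eq_add_of_le (le_of_not_ge h)
      rw [add_comm rs.length k]
      refine (le_idealDepth_quotient_iff hrs hI k).1 ?_
      rw [Nat.cast_add, add_comm] at hn
      exact (WithTop.add_le_add_iff_right (ENat.natCast_ne_top _)).1 hn
  · rw [← ENat.forall_natCast_le_iff_le]
    intro n hn
    by_cases h : n ≤ rs.length
    · exact le_trans (by exact_mod_cast h) le_add_self
    · obtain ⟨k, rfl⟩ := Nat.exists_eq_add_of_le (le_of_not_ge h)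
      rw [add_comm rs.length k] at hn
      have := (le_idealDepth_quotient_iff hrs hI k).2 hn
      rw [Nat.cast_add, add_comm]
      exact add_le_add this le_rfl

theorem isCohenMacaulayModule_quotient_ofList (hM : LocCoh.IsCohenMacaulayModule R M)
    {rs : List R} (hrs : IsWeaklyRegular M rs) (hI : ∀ r ∈ rs, r ∈ maximalIdeal R) :
    LocCoh.IsCohenMacaulayModule R (M ⧸ Ideal.ofList rs • (⊤ : Submodule R M)) := by
  haveI := nontrivial_of_isCohenMacaulayModule hM
  have h1 := supportDim_quotient_ofList_add hrs hI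
  have h2 := depth_quotient_ofList_add hrs hI
  unfold LocCoh.IsCohenMacaulayModule at hM ⊢
  rw [hM, ← h2, WithBot.coe_add, WithBot.coe_natCast] at h1
  haveI := Submodule.Quotient.nontrivial_iff.2
    (isRegular_of_isWeaklyRegular (smul_top_ne_top_of_nontrivial
      (maximalIdeal.isMaximal R).ne_top) hrs hI).top_ne_smul.symm
  obtain ⟨s, hs⟩ := WithBot.ne_bot_iff_exists.1
    (Module.supportDim_ne_bot_of_nontrivial R (M ⧸ Ideal.ofList rs • (⊤ : Submodule R M)))
  rw [← hs, ← WithBot.coe_natCast, ← WithBot.coe_add, ← WithBot.coe_add, WithBot.coe_inj] at h1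
  rw [← hs, WithBot.coe_inj]
  exact ENat.add_left_injective_of_ne_top (ENat.natCast_ne_top rs.length) h1

theorem supportDim_eq_add_idealDepth {I : Ideal R} (hI : I ≠ ⊤)
    (hM : LocCoh.IsCohenMacaulayModule R M) :
    Module.supportDim R M = Module.supportDim R (M ⧸ I • (⊤ : Submodule R M)) +
      ((LocCoh.idealDepth I M : ℕ∞) : WithBot ℕ∞) := by
  haveI := nontrivial_of_isCohenMacaulayModule hM
  obtain ⟨rs, -, hrs, hrsI, z, hz0, hz⟩ := exists_maximal_regular (smul_top_ne_top_of_nontrivial hI)
    (IsWeaklyRegular.nil R M) (by simp)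
  rw [idealDepth_eq_length hrs hrsI hz0 hz]
  have hrsm : ∀ r ∈ rs, r ∈ maximalIdeal R := fun r hr => le_maximalIdeal hI (hrsI r hr)
  have h1 := supportDim_quotient_ofList_add hrs hrsm
  have hCM := isCohenMacaulayModule_quotient_ofList hM hrs hrsm
  rw [← h1, WithBot.coe_natCast]
  congr 1
  obtain ⟨P, hP, hPz⟩ := exists_le_isAssociatedPrime_of_isNoetherianRing R z hz0
  have hIP : I ≤ P := fun a ha => hPz (by simpa using hz a ha)
  have hPprime : P.IsPrime := hP.isPrime
  refine le_antisymm ?_ ?_
  · rw [← ringKrullDim_quotient_eq_supportDim_of_isCM hCM hP,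
      ← Module.supportDim_quotient_eq_ringKrullDim]
    refine Order.krullDim_le_of_strictMono (Set.inclusion ?_) (Monotone.strictMono_of_injective
      (fun _ _ h => h) (Set.inclusion_injective _))
    intro x hx
    rw [Module.support_quotient]
    rw [Module.support_eq_zeroLocus, Ideal.annihilator_quotient, PrimeSpectrum.mem_zeroLocus] at hx
    refine ⟨?_, ?_⟩
    · refine Module.mem_support_mono (p := ⟨P, hPprime⟩) hx ?_
      exact Module.support_subset_of_surjective _ (Submodule.mkQ_surjective
        (Ideal.ofList rs • (⊤ : Submodule R M))) ((Module.mem_support_iff_of_finite (p := ⟨P, hPprime⟩)).2 (Submodule.annihilator_top.ge.trans (IsAssociatedPrime.annihilator_le hP)))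
    · rw [PrimeSpectrum.mem_zeroLocus]
      exact fun a ha => hx (hIP ha)
  · have hle : Ideal.ofList rs • (⊤ : Submodule R M) ≤ I • ⊤ :=
      Submodule.smul_mono_left (Ideal.span_le.2 hrsI)
    exact Module.supportDim_le_of_surjective (Submodule.factor hle) (Submodule.factor_surjective hle)

theorem subsingleton_ext_of_iso {X X' Y : ModuleCat.{u} R} (e : X ≅ X') {i : ℕ}
    (h : Subsingleton (Ext X' Y i)) : Subsingleton (Ext X Y i) := by
  refine subsingleton_of_forall_eq 0 fun x => ?_
  have hx : (Ext.mk₀ e.inv).comp x (zero_add i) = 0 := Subsingleton.elim _ _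
  rw [← Ext.mk₀_id_comp x, ← e.hom_inv_id, ← Ext.mk₀_comp_mk₀,
    Ext.comp_assoc_of_second_deg_zero, hx, Ext.comp_zero]

theorem subsingleton_ext_of_add_supportDim_lt {d : ℕ} (hd : (d : ℕ∞) ≤ LocCoh.depth R M) :
    ∀ (r : ℕ) (N : Type u) [AddCommGroup N] [Module R N] [Module.Finite R N],
      Module.supportDim R N ≤ r → ∀ i : ℕ, i + r < d →
        Subsingleton (Ext (ModuleCat.of R N) (ModuleCat.of R M) i) := by
  intro r
  induction r using Nat.strong_induction_on with
  | _ r ih =>
  intro N _ _ _
  refine IsNoetherianRing.induction_on_isQuotientEquivQuotientPrime R (M := N) inferInstance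
    (motive := fun N _ _ _ => Module.supportDim R N ≤ r → ∀ i : ℕ, i + r < d →
        Subsingleton (Ext (ModuleCat.of R N) (ModuleCat.of R M) i)) ?_ ?_ ?_
  · intro N _ _ _ _ _ i _
    refine subsingleton_of_forall_eq 0 fun x => ?_
    have h : 𝟙 (ModuleCat.of R N) = 0 := by ext n; exact Subsingleton.elim (α := N) _ _
    rw [← Ext.mk₀_id_comp x, h, Ext.mk₀_zero, Ext.zero_comp]
  · intro N _ _ _ p e hN i hi
    refine subsingleton_ext_of_iso e.toModuleIso ?_
    rw [Module.supportDim_eq_of_equiv e] at hN
    by_cases hpm : p.asIdeal = maximalIdeal R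
    · rw [hpm]
      exact (le_idealDepth_iff_extVanish d).1 hd i (by omega)
    obtain ⟨y, hy, hyp⟩ := Set.exists_of_ssubset
      ((le_maximalIdeal p.isPrime.ne_top).lt_of_ne hpm)
    have hreg : IsSMulRegular (R ⧸ p.asIdeal) y := by
      intro a b hab
      obtain ⟨a, rfl⟩ := Ideal.Quotient.mk_surjective a
      obtain ⟨b, rfl⟩ := Ideal.Quotient.mk_surjective b
      have h1 : y * a - y * b ∈ p.asIdeal := Ideal.Quotient.eq.1 hab
      rw [← mul_sub] at h1
      exact Ideal.Quotient.eq.2 ((p.isPrime.mem_or_mem h1).resolve_left hyp)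
    haveI : Nontrivial (R ⧸ p.asIdeal) := Ideal.Quotient.nontrivial_iff.2 p.isPrime.ne_top
    haveI : Nontrivial (QuotSMulTop y (R ⧸ p.asIdeal)) := Submodule.Quotient.nontrivial_iff.2
      (Submodule.top_ne_pointwise_smul_of_mem_jacobson_annihilator
        (maximalIdeal_le_jacobson _ hy)).symm
    have h1 := Module.supportDim_quotSMulTop_succ_eq_supportDim hreg hy
    obtain ⟨s, hs⟩ := WithBot.ne_bot_iff_exists.1
      (Module.supportDim_ne_bot_of_nontrivial R (QuotSMulTop y (R ⧸ p.asIdeal)))
    rw [← h1, ← hs] at hN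
    have hN' : s + 1 ≤ (r : ℕ∞) := by exact_mod_cast hN
    obtain ⟨k, hk⟩ := ENat.ne_top_iff_exists.1
      (ne_top_of_le_ne_top (ENat.natCast_ne_top r) (le_self_add.trans hN'))
    rw [← hk] at hN' hs
    have hkr : k + 1 ≤ r := by exact_mod_cast hN'
    have h3 : Subsingleton (Ext (ModuleCat.of R (QuotSMulTop y (R ⧸ p.asIdeal)))
        (ModuleCat.of R M) (i + 1)) :=
      ih k (by omega) _ (by rw [← hs]; rfl) (i + 1) (by omega)
    have hS := (show IsSMulRegular (ModuleCat.of R (R ⧸ p.asIdeal)) y from
      hreg).smulShortComplex_shortExact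
    refine subsingleton_of_forall_eq 0 fun x => ?_
    have htop : (⊤ : Submodule R (Ext (ModuleCat.of R (R ⧸ p.asIdeal)) (ModuleCat.of R M) i)) ≤
        maximalIdeal R • ⊤ := by
      intro w _
      obtain ⟨w', hw'⟩ := Ext.contravariant_sequence_exact₁ hS (ModuleCat.of R M) w
        (add_comm 1 i) (@Subsingleton.elim _ h3 _ _)
      rw [← hw', ModuleCat.smulShortComplex_f_eq_smul_id]
      change (Ext.mk₀ (y • 𝟙 (ModuleCat.of R (R ⧸ p.asIdeal)))).comp w' (zero_add i) ∈ _
      rw [Ext.mk₀_smul, Ext.smul_comp, Ext.mk₀_id_comp]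
      exact Submodule.smul_mem_smul hy trivial
    have hbot := Submodule.eq_bot_of_le_smul_of_le_jacobson_bot (maximalIdeal R) _
      Module.Finite.fg_top htop (maximalIdeal_le_jacobson _)
    exact (Submodule.mem_bot R).1 (hbot ▸ Submodule.mem_top)
  · intro N₁ _ _ _ N₂ _ _ _ N₃ _ _ _ f g hf hg hfg h₁ h₃ hN i hi
    have h1 := h₁ ((Module.supportDim_le_of_injective f hf).trans hN) i hi
    have h3 := h₃ ((Module.supportDim_le_of_surjective g hg).trans hN) i hi
    refine subsingleton_of_forall_eq 0 fun x => ?_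
    obtain ⟨w, rfl⟩ := Ext.contravariant_sequence_exact₂ (shortExact_mk hf hg hfg)
      (ModuleCat.of R M) x (@Subsingleton.elim _ h1 _ _)
    obtain rfl : w = 0 := @Subsingleton.elim _ h3 w 0
    exact Ext.comp_zero _ _ _ _ _

end Groth.L04

namespace Groth.L04

open CategoryTheory IsLocalRing

variable {R : Type u} [CommRing R]

/-- `R_p` as a localization of the module `R`. -/
noncomputable def localizedModuleSelfEquiv (p : Ideal R) [p.IsPrime] :
    LocalizedModule p.primeCompl R ≃ₗ[Localization.AtPrime p] Localization.AtPrime p :=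
  LinearEquiv.extendScalarsOfIsLocalization p.primeCompl (Localization.AtPrime p)
    (IsLocalizedModule.iso p.primeCompl (Algebra.linearMap R (Localization.AtPrime p)))

theorem depth_localizedModule_self (p : Ideal R) [p.IsPrime] :
    LocCoh.depth (Localization.AtPrime p) (LocalizedModule p.primeCompl R) =
      LocCoh.depth (Localization.AtPrime p) (Localization.AtPrime p) :=
  idealDepth_congr (localizedModuleSelfEquiv p)

theorem isCohenMacaulayRing_iff_height [IsNoetherianRing R] :
    LocCoh.IsCohenMacaulayRing R ↔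
      ∀ a : Ideal R, a ≠ ⊤ → LocCoh.idealDepth a R = a.height := by
  constructor
  · intro hCM a _
    rw [idealDepth_eq_iInf_depth]
    have key : ∀ p : PrimeSpectrum R, LocCoh.depth (Localization.AtPrime p.asIdeal)
        (LocalizedModule p.asIdeal.primeCompl R) = p.asIdeal.height := fun p => by
      have h := (hCM.isCohenMacaulayLocalRing_localization p.asIdeal).supportDim_eq_depth
      rw [Module.supportDim_self_eq_ringKrullDim,
        IsLocalization.AtPrime.ringKrullDim_eq_height p.asIdeal] at h
      rw [depth_localizedModule_self]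
      exact_mod_cast h.symm
    refine le_antisymm ?_ (le_iInf₂ fun p hp => (Ideal.height_mono hp).trans (key p).ge)
    conv_rhs => rw [Ideal.height_eq_inf_minimalPrimes]
    exact le_iInf₂ fun J hJ => (iInf₂_le (⟨J, hJ.isPrime⟩ : PrimeSpectrum R) hJ.1.2).trans (key _).le
  · intro h
    refine { isCohenMacaulayLocalRing_localization := fun p _ => ?_ }
    refine { supportDim_eq_depth := le_antisymm ?_ depth_le_supportDim }
    have h1 : (p.height : ℕ∞) ≤ LocCoh.depth (Localization.AtPrime p) (Localization.AtPrime p) := by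
      rw [← h p (Ideal.IsPrime.ne_top ‹_›), idealDepth_eq_iInf_depth, ← depth_localizedModule_self]
      exact iInf₂_le (⟨p, inferInstance⟩ : PrimeSpectrum R) le_rfl
    rw [Module.supportDim_self_eq_ringKrullDim, IsLocalization.AtPrime.ringKrullDim_eq_height p]
    exact_mod_cast h1

end Groth.L04
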