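import Groth.Agent.L04.CMBasic
import Groth.Agent.S0395

/-!
# Depth and the closed fibre of a flat local homomorphism
-/

universe u

open RingTheory.Sequence Ideal IsLocalRing
open scoped Pointwise

namespace Groth.L04

variable {R S : Type u} [CommRing R] [IsLocalRing R] [IsNoetherianRing R] [CommRing S]
  [IsLocalRing S] [IsNoetherianRing S] [Algebra R S] [IsLocalHom (algebraMap R S)]

/-- `QuotSMulTop f (S ⧸ I)` is `S ⧸ (I ⊔ (f))`. -/
noncomputable def quotSMulTopQuotientEquiv {A : Type u} [CommRing A] (I : Ideal A) (f : A) :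
    QuotSMulTop f (A ⧸ I) ≃ₗ[A] A ⧸ (I ⊔ Ideal.span {f}) := by
  refine (Submodule.quotEquivOfEq _ _ ?_).trans
    (Submodule.quotientQuotientEquivQuotient I (I ⊔ Ideal.span {f}) le_sup_left)
  rw [Submodule.map_sup, Submodule.mkQ_map_self, bot_sup_eq]
  refine le_antisymm ?_ ?_
  · intro x hx
    obtain ⟨w, -, rfl⟩ := (Submodule.mem_smul_pointwise_iff_exists _ _ _).1 hx
    obtain ⟨w, rfl⟩ := Submodule.mkQ_surjective I w
    exact ⟨f * w, Ideal.mul_mem_right _ _ (Ideal.mem_span_singleton_self f), rfl⟩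
  · rintro _ ⟨y, hy, rfl⟩
    obtain ⟨a, rfl⟩ := Ideal.mem_span_singleton'.1 hy
    exact (Submodule.mem_smul_pointwise_iff_exists _ _ _).2
      ⟨Submodule.mkQ I a, trivial, by rw [← map_smul, smul_eq_mul, mul_comm]⟩

theorem isWeaklyRegular_of_fibre_aux : ∀ (rs : List S) (J : Ideal S), (∀ r ∈ rs, r ∈ maximalIdeal S) →
    J ≤ maximalIdeal S → Module.Flat R (S ⧸ J) →
    IsWeaklyRegular (S ⧸ ((maximalIdeal R).map (algebraMap R S) ⊔ J)) rs →
    IsWeaklyRegular (S ⧸ J) rs
  | [], _, _, _, _, _ => IsWeaklyRegular.nil S _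
  | f :: rs, J, hrs, hJ, hflat, h => by
    rw [List.forall_mem_cons] at hrs
    rw [isWeaklyRegular_cons_iff] at h ⊢
    haveI : Nontrivial (S ⧸ J) :=
      Ideal.Quotient.nontrivial_iff.2 (ne_top_of_le_ne_top (maximalIdeal.isMaximal S).ne_top hJ)
    haveI : IsLocalRing (S ⧸ J) := IsLocalRing.of_surjective' _ Ideal.Quotient.mk_surjective
    haveI : IsLocalHom (Ideal.Quotient.mk J) :=
      IsLocalHom.of_surjective _ Ideal.Quotient.mk_surjective
    haveI : IsLocalHom (algebraMap R (S ⧸ J)) := by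
      rw [IsScalarTower.algebraMap_eq R S (S ⧸ J)]
      exact RingHom.isLocalHom_comp _ _
    set K := (maximalIdeal R).map (algebraMap R (S ⧸ J))
    have hcomap : K.comap (Ideal.Quotient.mk J) = (maximalIdeal R).map (algebraMap R S) ⊔ J := by
      have : K = ((maximalIdeal R).map (algebraMap R S)).map (Ideal.Quotient.mk J) := by
        rw [Ideal.map_map]; rfl
      rw [this, Ideal.comap_map_of_surjective _ Ideal.Quotient.mk_surjective,
        ← RingHom.ker_eq_comap_bot, Ideal.mk_ker]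
    have hnz : Ideal.Quotient.mk K (Ideal.Quotient.mk J f) ∈ nonZeroDivisors ((S ⧸ J) ⧸ K) := by
      refine mem_nonZeroDivisors_iff_right.2 fun x hx => ?_
      obtain ⟨x, rfl⟩ := Ideal.Quotient.mk_surjective x
      obtain ⟨x, rfl⟩ := Ideal.Quotient.mk_surjective x
      rw [← map_mul, ← map_mul, Ideal.Quotient.eq_zero_iff_mem, ← Ideal.mem_comap, hcomap,
        ← Ideal.Quotient.eq_zero_iff_mem] at hx
      rw [Ideal.Quotient.eq_zero_iff_mem, ← Ideal.mem_comap, hcomap,
        ← Ideal.Quotient.eq_zero_iff_mem]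
      refine h.1 ?_
      simp only [smul_zero]
      rw [← Ideal.Quotient.mk_eq_mk, ← Submodule.Quotient.mk_smul, smul_eq_mul, mul_comm]
      exact hx
    obtain ⟨hflat', hnzd⟩ :=
      Groth.Agent.S0395.result (R := R) (S := S ⧸ J) (Ideal.Quotient.mk J f) hnz
    refine ⟨fun x y hxy => ?_, ?_⟩
    · have hx0 : (x - y) * Ideal.Quotient.mk J f = 0 := by
        rw [mul_comm, ← Ideal.Quotient.algebraMap_eq, ← Algebra.smul_def, smul_sub, sub_eq_zero]
        exact hxy
      exact sub_eq_zero.1 (mem_nonZeroDivisors_iff_right.1 hnzd _ hx0)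
    · have e : ((S ⧸ J) ⧸ Ideal.span {Ideal.Quotient.mk J f}) ≃ₐ[R] S ⧸ (J ⊔ Ideal.span {f}) :=
        (Ideal.quotientEquivAlgOfEq R (by rw [Ideal.map_span, Set.image_singleton]; rfl)).trans
          (DoubleQuot.quotQuotEquivQuotSupₐ R J (Ideal.span {f}))
      have hfl : Module.Flat R (S ⧸ (J ⊔ Ideal.span {f})) :=
        Module.Flat.of_linearEquiv e.toLinearEquiv.symm
      refine ((quotSMulTopQuotientEquiv J f).isWeaklyRegular_congr rs).2
        (isWeaklyRegular_of_fibre_aux rs _ hrs.2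
          (sup_le hJ ((Ideal.span_singleton_le_iff_mem _).2 hrs.1)) hfl ?_)
      rw [← sup_assoc]
      exact ((quotSMulTopQuotientEquiv _ f).isWeaklyRegular_congr rs).1 h.2

theorem isWeaklyRegular_of_fibre [Module.Flat R S] {rs : List S}
    (hrs : ∀ r ∈ rs, r ∈ maximalIdeal S)
    (h : IsWeaklyRegular (S ⧸ (maximalIdeal R).map (algebraMap R S)) rs) :
    IsWeaklyRegular S rs := by
  have hfl : Module.Flat R (S ⧸ (⊥ : Ideal S)) :=
    Module.Flat.of_linearEquiv
      ((Submodule.quotEquivOfEqBot (⊥ : Ideal S) rfl).restrictScalars R)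
  refine ((Submodule.quotEquivOfEqBot (⊥ : Ideal S) rfl).isWeaklyRegular_congr rs).1
    (isWeaklyRegular_of_fibre_aux (R := R) rs ⊥ hrs bot_le hfl ?_)
  rwa [(Submodule.quotEquivOfEq _ _ (sup_bot_eq _)).isWeaklyRegular_congr rs]

theorem idealDepth_fibre_le [Module.Flat R S] {I : Ideal S} (hI : I ≠ ⊤) :
    LocCoh.idealDepth I (S ⧸ (maximalIdeal R).map (algebraMap R S)) ≤ LocCoh.idealDepth I S := by
  have hK : (maximalIdeal R).map (algebraMap R S) ≤ maximalIdeal S := by
    rw [Ideal.map_le_iff_le_comap]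
    intro r hr
    exact map_nonunit (algebraMap R S) r hr
  haveI : Nontrivial (S ⧸ (maximalIdeal R).map (algebraMap R S)) :=
    Ideal.Quotient.nontrivial_iff.2 (ne_top_of_le_ne_top (maximalIdeal.isMaximal S).ne_top hK)
  refine ENat.forall_natCast_le_iff_le.1 fun n hn => ?_
  obtain ⟨rs, rfl, hrs, hrsI⟩ := exists_of_le_idealDepth (smul_top_ne_top_of_nontrivial hI) hn
  exact length_le_idealDepth
    (isWeaklyRegular_of_fibre (R := R) (fun r hr => le_maximalIdeal hI (hrsI r hr)) hrs) hrsI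

theorem ringKrullDim_fibre_le_add_idealDepth [Module.Flat R S]
    (hCM : LocCoh.IsCohenMacaulayLocalRing (S ⧸ (maximalIdeal R).map (algebraMap R S)))
    {I : Ideal S} (hI : I ≠ ⊤) :
    ringKrullDim (S ⧸ (maximalIdeal R).map (algebraMap R S)) ≤
      ringKrullDim (S ⧸ ((maximalIdeal R).map (algebraMap R S) ⊔ I)) +
        ((LocCoh.idealDepth I S : ℕ∞) : WithBot ℕ∞) := by
  set K := (maximalIdeal R).map (algebraMap R S)
  haveI := hCM.toIsLocalRing
  have hI' : I.map (Ideal.Quotient.mk K) ≠ ⊤ := by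
    intro h
    have h1 := congrArg (Ideal.comap (Ideal.Quotient.mk K)) h
    rw [Ideal.comap_map_of_surjective _ Ideal.Quotient.mk_surjective, ← RingHom.ker_eq_comap_bot,
      Ideal.mk_ker, Ideal.comap_top] at h1
    refine (maximalIdeal.isMaximal S).ne_top (top_le_iff.1 (h1.ge.trans (sup_le (le_maximalIdeal hI) ?_)))
    rw [Ideal.map_le_iff_le_comap]
    exact fun r hr => map_nonunit (algebraMap R S) r hr
  have hmod : LocCoh.IsCohenMacaulayModule (S ⧸ K) (S ⧸ K) := hCM.supportDim_eq_depth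
  have h := supportDim_eq_add_idealDepth hI' hmod
  rw [Module.supportDim_self_eq_ringKrullDim] at h
  rw [h]
  refine add_le_add ?_ ?_
  · rw [smul_eq_mul, Ideal.mul_top, Module.supportDim_quotient_eq_ringKrullDim]
    exact ringKrullDim_le_of_surjective
      (DoubleQuot.quotQuotEquivQuotSup K I).symm.toRingHom
      (DoubleQuot.quotQuotEquivQuotSup K I).symm.surjective
  · rw [WithBot.coe_le_coe]
    have : Module.Finite S (S ⧸ K) := inferInstance
    rw [← Ideal.Quotient.algebraMap_eq,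
      ← idealDepth_eq_idealDepth_map_of_finite I (S ⧸ K)]
    exact idealDepth_fibre_le (R := R) hI

end Groth.L04
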