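import Groth.Prelude.Def_Wider
import Mathlib.Algebra.Category.ModuleCat.EnoughInjectives
import Mathlib.Algebra.Category.ModuleCat.Injective
import Mathlib.LinearAlgebra.Projection
import Mathlib.Order.Zorn

/-!
# Essential submodules, injective hulls
-/

universe u v w

namespace Groth.L04

open InjHull

variable {R : Type u} [CommRing R]

section Basic

variable {M E F : Type v} [AddCommGroup M] [Module R M] [AddCommGroup E] [Module R E]
  [AddCommGroup F] [Module R F]

theorem essential_iff_smul {f : M →ₗ[R] E} :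
    (∀ N : Submodule R E, N ≠ ⊥ → N ⊓ LinearMap.range f ≠ ⊥) ↔
      ∀ x : E, x ≠ 0 → ∃ r : R, r • x ∈ LinearMap.range f ∧ r • x ≠ 0 := by
  constructor
  · intro h x hx
    obtain ⟨y, hy, hy0⟩ := (Submodule.ne_bot_iff _).1
      (h (Submodule.span R {x}) (by simpa using hx))
    obtain ⟨hy1, hy2⟩ := Submodule.mem_inf.1 hy
    obtain ⟨r, rfl⟩ := Submodule.mem_span_singleton.1 hy1
    exact ⟨r, hy2, hy0⟩
  · intro h N hN
    obtain ⟨x, hx, hx0⟩ := (Submodule.ne_bot_iff _).1 hN
    obtain ⟨r, h1, h2⟩ := h x hx0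
    exact (Submodule.ne_bot_iff _).2 ⟨r • x, ⟨N.smul_mem r hx, h1⟩, h2⟩

theorem isEssentialInj_of_smul {f : M →ₗ[R] E} (hf : Function.Injective f)
    (h : ∀ x : E, x ≠ 0 → ∃ r : R, r • x ∈ LinearMap.range f ∧ r • x ≠ 0) : IsEssentialInj f :=
  ⟨hf, essential_iff_smul.2 h⟩

theorem smul_of_isEssentialInj {f : M →ₗ[R] E} (hf : IsEssentialInj f) :
    ∀ x : E, x ≠ 0 → ∃ r : R, r • x ∈ LinearMap.range f ∧ r • x ≠ 0 :=
  essential_iff_smul.1 hf.essential

/-- A map out of an essential extension is injective as soon as its restriction is. -/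
theorem injective_of_comp_injective {f : M →ₗ[R] E} (hf : IsEssentialInj f) (g : E →ₗ[R] F)
    (h : Function.Injective (g ∘ₗ f)) : Function.Injective g := by
  rw [← LinearMap.ker_eq_bot]
  by_contra hne
  obtain ⟨y, hy, hy0⟩ := (Submodule.ne_bot_iff _).1 (hf.essential _ hne)
  obtain ⟨hy1, m, rfl⟩ := Submodule.mem_inf.1 hy
  have hm : m = 0 := h (by simpa using hy1)
  simp [hm] at hy0

/-- A submodule of an essential extension containing the range is everything below it. -/
theorem eq_bot_of_disjoint_range {f : M →ₗ[R] E} (hf : IsEssentialInj f) {N : Submodule R E}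
    (h : Disjoint N (LinearMap.range f)) : N = ⊥ := by
  by_contra hne
  exact hf.essential N hne (disjoint_iff.1 h)

theorem isEssentialInj_comp {f : M →ₗ[R] E} (hf : IsEssentialInj f) {g : E →ₗ[R] F}
    (hg : IsEssentialInj g) : IsEssentialInj (g ∘ₗ f) := by
  refine isEssentialInj_of_smul (hg.injective.comp hf.injective) fun x hx => ?_
  obtain ⟨r, ⟨e, he⟩, hr0⟩ := smul_of_isEssentialInj hg x hx
  have he0 : e ≠ 0 := fun h => hr0 (by simp [← he, h])
  obtain ⟨s, ⟨m, hm⟩, hs0⟩ := smul_of_isEssentialInj hf e he0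
  have : g (s • e) = (s * r) • x := by rw [map_smul, he, mul_smul]
  exact ⟨s * r, ⟨m, by simp [hm, ← this]⟩, fun h => hs0 (hg.injective (by simp [this, h]))⟩

theorem isEssentialInj_of_comp_left {f : M →ₗ[R] E} {g : E →ₗ[R] F}
    (h : IsEssentialInj (g ∘ₗ f)) (hg : Function.Injective g) : IsEssentialInj f := by
  refine isEssentialInj_of_smul (fun a b hab => h.injective (by simp [hab])) fun x hx => ?_
  obtain ⟨r, ⟨m, hm⟩, hr0⟩ := smul_of_isEssentialInj h (g x) ((map_ne_zero_iff g hg).2 hx)
  refine ⟨r, ⟨m, hg ?_⟩, fun h0 => hr0 ?_⟩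
  · simpa using hm
  · rw [← map_smul, h0, map_zero]

theorem isEssentialInj_of_comp_right {f : M →ₗ[R] E} {g : E →ₗ[R] F}
    (h : IsEssentialInj (g ∘ₗ f)) (hg : Function.Injective g) : IsEssentialInj g := by
  refine isEssentialInj_of_smul hg fun x hx => ?_
  obtain ⟨r, ⟨m, hm⟩, hr0⟩ := smul_of_isEssentialInj h x hx
  exact ⟨r, ⟨f m, hm⟩, hr0⟩

theorem isEssentialInj_id : IsEssentialInj (LinearMap.id : E →ₗ[R] E) :=
  isEssentialInj_of_smul Function.injective_id fun x hx => ⟨1, ⟨x, by simp⟩, by simpa using hx⟩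

theorem isEssentialInj_linearEquiv (e : M ≃ₗ[R] E) : IsEssentialInj e.toLinearMap :=
  isEssentialInj_of_smul e.injective fun x hx => ⟨1, ⟨e.symm x, by simp⟩, by simpa using hx⟩

theorem injective_of_retract {E : Type v} [AddCommGroup E] [Module R E] {F : Type v}
    [AddCommGroup F] [Module R F] (hE : Module.Injective R E) (p : E →ₗ[R] F) (j : F →ₗ[R] E)
    (hpj : ∀ x, p (j x) = x) : Module.Injective R F := by
  refine ⟨fun X Y _ _ _ _ f hf g => ?_⟩
  obtain ⟨h, hh⟩ := hE.out f hf (j ∘ₗ g)
  exact ⟨p ∘ₗ h, fun x => by simp [hh, hpj]⟩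

theorem injective_of_linearEquiv (e : E ≃ₗ[R] F) (hE : Module.Injective R E) :
    Module.Injective R F :=
  injective_of_retract hE e.toLinearMap e.symm.toLinearMap e.apply_symm_apply

/-- An injective submodule is a direct summand. -/
theorem exists_isCompl_of_injective (N : Submodule R E) (hN : Module.Injective R N) :
    ∃ C : Submodule R E, IsCompl N C := by
  obtain ⟨p, hp⟩ := hN.out N.subtype N.injective_subtype LinearMap.id
  exact ⟨LinearMap.ker p, LinearMap.isCompl_of_proj hp⟩

theorem injective_of_isCompl (hE : Module.Injective R E) {N C : Submodule R E} (h : IsCompl N C) :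
    Module.Injective R N :=
  injective_of_retract hE (N.projectionOnto C h) N.subtype
    (Submodule.projectionOnto_apply_left h)

theorem injective_range (hE : Module.Injective R M) {f : M →ₗ[R] E} (hf : Function.Injective f) :
    Module.Injective R (LinearMap.range f) :=
  injective_of_linearEquiv (LinearEquiv.ofInjective f hf) hE

/-- An injective module has no proper essential extension. -/
theorem surjective_of_isEssentialInj_of_injective {f : M →ₗ[R] E} (hf : IsEssentialInj f)
    (hM : Module.Injective R M) : Function.Surjective f := by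
  obtain ⟨C, hC⟩ := exists_isCompl_of_injective _ (injective_range hM hf.injective)
  have : C = ⊥ := eq_bot_of_disjoint_range hf hC.disjoint.symm
  rw [this] at hC
  exact LinearMap.range_eq_top.1 (eq_top_of_isCompl_bot hC)

theorem eq_top_of_essential_injective (N : Submodule R E) (hN : IsEssentialInj N.subtype)
    (hi : Module.Injective R N) : N = ⊤ := by
  rw [← Submodule.range_subtype N]
  exact LinearMap.range_eq_top.2 (surjective_of_isEssentialInj_of_injective hN hi)

end Basic

section EssIn

variable {I : Type v} [AddCommGroup I] [Module R I]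

/-- `E` is an essential extension of `N` inside an ambient module. -/
def EssIn (N E : Submodule R I) : Prop :=
  N ≤ E ∧ ∀ x ∈ E, x ≠ 0 → ∃ r : R, r • x ∈ N ∧ r • x ≠ 0

theorem EssIn.refl (N : Submodule R I) : EssIn N N :=
  ⟨le_rfl, fun x hx hx0 => ⟨1, by simpa using hx, by simpa using hx0⟩⟩

theorem EssIn.trans {N E F : Submodule R I} (h : EssIn N E) (h' : EssIn E F) : EssIn N F := by
  refine ⟨h.1.trans h'.1, fun x hx hx0 => ?_⟩
  obtain ⟨r, hr, hr0⟩ := h'.2 x hx hx0
  obtain ⟨s, hs, hs0⟩ := h.2 _ hr hr0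
  exact ⟨s * r, by simpa [mul_smul] using hs, by simpa [mul_smul] using hs0⟩

theorem EssIn.isEssentialInj {N E : Submodule R I} (h : EssIn N E) :
    IsEssentialInj (Submodule.inclusion h.1) := by
  refine isEssentialInj_of_smul (Submodule.inclusion_injective _) fun x hx => ?_
  obtain ⟨r, hr, hr0⟩ := h.2 x x.2 (by simpa using hx)
  exact ⟨r, ⟨⟨r • x.1, hr⟩, rfl⟩, fun h0 => hr0 (by simpa using congrArg Subtype.val h0)⟩

theorem exists_maximal_essIn (N : Submodule R I) :
    ∃ E, EssIn N E ∧ ∀ E', E ≤ E' → EssIn E E' → E' = E := by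
  obtain ⟨E, -, hE⟩ := zorn_le_nonempty₀ {E | EssIn N E} (fun c hc hchain y hy => by
    refine ⟨sSup c, ⟨(hc hy).1.trans (le_sSup hy), fun x hx hx0 => ?_⟩, fun z hz => le_sSup hz⟩
    obtain ⟨z, hz, hxz⟩ := (Submodule.mem_sSup_of_directed ⟨y, hy⟩ hchain.directedOn).1 hx
    exact (hc hz).2 x hxz hx0) N (EssIn.refl N)
  exact ⟨E, hE.1, fun E' hle h => le_antisymm (hE.2 (hE.1.trans h) hle) hle⟩

/-- A submodule without proper essential extensions in an injective module is injective. -/
theorem injective_of_maximal_essIn (hI : Module.Injective R I) (E : Submodule R I)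
    (hE : ∀ E', E ≤ E' → EssIn E E' → E' = E) : Module.Injective R E := by
  obtain ⟨C, -, hC⟩ := zorn_le_nonempty₀ {C : Submodule R I | Disjoint C E}
    (fun c hc hchain y hy => by
      refine ⟨sSup c, ?_, fun z hz => le_sSup hz⟩
      rw [Set.mem_setOf_eq, Submodule.disjoint_def]
      intro x hx hxE
      obtain ⟨z, hz, hxz⟩ := (Submodule.mem_sSup_of_directed ⟨y, hy⟩ hchain.directedOn).1 hx
      exact Submodule.disjoint_def.1 (hc hz) x hxz hxE) ⊥ disjoint_bot_left
  have hCE : Disjoint C E := hC.1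
  let q : E →ₗ[R] I ⧸ C := C.mkQ ∘ₗ E.subtype
  have hq : IsEssentialInj q := by
    refine ⟨?_, fun N hN hbot => ?_⟩
    · rw [← LinearMap.ker_eq_bot, eq_bot_iff]
      rintro ⟨x, hx⟩ hx'
      have : x ∈ C := by simpa [q] using hx'
      simpa using Submodule.disjoint_def.1 hCE x this hx
    · apply hN
      have hle : C ≤ N.comap C.mkQ := fun x hx => by simp [(Submodule.Quotient.mk_eq_zero C).2 hx]
      have hdis : Disjoint (N.comap C.mkQ) E := by
        rw [Submodule.disjoint_def]
        intro x hx hxE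
        have : C.mkQ x ∈ N ⊓ LinearMap.range q := ⟨hx, ⟨⟨x, hxE⟩, rfl⟩⟩
        rw [hbot, Submodule.mem_bot, Submodule.mkQ_apply, Submodule.Quotient.mk_eq_zero] at this
        exact Submodule.disjoint_def.1 hCE x this hxE
      rw [eq_bot_iff]
      intro y hy
      obtain ⟨x, rfl⟩ := C.mkQ_surjective y
      simpa using hC.2 hdis hle hy
  obtain ⟨h, hh⟩ := hI.out q hq.injective E.subtype
  have hcomp : h ∘ₗ q = E.subtype := LinearMap.ext hh
  have hinj : Function.Injective h :=
    injective_of_comp_injective hq h (by rw [hcomp]; exact E.injective_subtype)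
  have hess : EssIn E (LinearMap.range h) := by
    refine ⟨fun x hx => ⟨q ⟨x, hx⟩, hh ⟨x, hx⟩⟩, ?_⟩
    rintro _ ⟨y, rfl⟩ hy0
    obtain ⟨r, ⟨e, he⟩, hr0⟩ := smul_of_isEssentialInj hq y (by rintro rfl; simp at hy0)
    exact ⟨r, by rw [← map_smul, ← he, hh]; exact e.2,
      by rw [← map_smul]; exact (map_ne_zero_iff h hinj).2 hr0⟩
  have heq := hE _ hess.1 hess
  have hp : ∀ x, (h ∘ₗ C.mkQ) x ∈ E := fun x => heq.le ⟨_, rfl⟩
  exact injective_of_retract hI ((h ∘ₗ C.mkQ).codRestrict E hp) E.subtype
    fun x => Subtype.ext (hh x)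

theorem injective_iff_maximal_essIn (hI : Module.Injective R I) (E : Submodule R I) :
    Module.Injective R E ↔ ∀ E', E ≤ E' → EssIn E E' → E' = E := by
  refine ⟨fun h E' hle hess => ?_, injective_of_maximal_essIn hI E⟩
  have hs := surjective_of_isEssentialInj_of_injective hess.isEssentialInj h
  refine le_antisymm (fun x hx => ?_) hle
  obtain ⟨y, hy⟩ := hs ⟨x, hx⟩
  have : (y : I) = x := congrArg Subtype.val hy
  exact this ▸ y.2

/-- Every submodule of an injective module has an injective hull inside it. -/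
theorem exists_injective_essIn (hI : Module.Injective R I) (N : Submodule R I) :
    ∃ E, EssIn N E ∧ Module.Injective R E := by
  obtain ⟨E, hE, hmax⟩ := exists_maximal_essIn N
  exact ⟨E, hE, injective_of_maximal_essIn hI E hmax⟩

end EssIn

theorem exists_embedding_injective {R : Type u} [CommRing R] (M : Type v) [Small.{v} R]
    [AddCommGroup M] [Module R M] :
    ∃ (J : Type v) (_ : AddCommGroup J) (_ : Module R J) (i : M →ₗ[R] J),
      Function.Injective i ∧ Module.Injective R J := by
  let P := CategoryTheory.EnoughInjectives.presentation (ModuleCat.of R M)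
  obtain ⟨P⟩ := P
  refine ⟨P.J, inferInstance, inferInstance, P.f.hom, (ModuleCat.mono_iff_injective P.f).1 P.mono,
    ?_⟩
  exact (Module.injective_iff_injective_object R P.J).2 P.injective

theorem exists_injectiveHull {R : Type u} [CommRing R] (M : Type v) [Small.{v} R]
    [AddCommGroup M] [Module R M] :
    ∃ (E : Type v) (_ : AddCommGroup E) (_ : Module R E) (f : M →ₗ[R] E), IsInjectiveHull f := by
  obtain ⟨J, _, _, i, hi, hJ⟩ := exists_embedding_injective (R := R) M
  obtain ⟨E, hess, hE⟩ := exists_injective_essIn hJ (LinearMap.range i)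
  exact ⟨E, inferInstance, inferInstance,
    Submodule.inclusion hess.1 ∘ₗ (LinearEquiv.ofInjective i hi).toLinearMap,
    ⟨isEssentialInj_comp (isEssentialInj_linearEquiv _) hess.isEssentialInj, hE⟩⟩

section Hull

variable {M E F : Type v} [AddCommGroup M] [Module R M] [AddCommGroup E] [Module R E]
  [AddCommGroup F] [Module R F]

/-- An injective hull embeds compatibly into every injective module containing the module. -/
theorem exists_injective_extend {f : M →ₗ[R] E} (hf : IsEssentialInj f) {i : M →ₗ[R] F}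
    (hi : Function.Injective i) (hF : Module.Injective R F) :
    ∃ α : E →ₗ[R] F, Function.Injective α ∧ α ∘ₗ f = i := by
  obtain ⟨α, hα⟩ := hF.out f hf.injective i
  have h : α ∘ₗ f = i := LinearMap.ext hα
  exact ⟨α, injective_of_comp_injective hf α (h ▸ hi), h⟩

theorem exists_equiv_of_isInjectiveHull {f : M →ₗ[R] E} (hf : IsInjectiveHull f)
    {g : M →ₗ[R] F} (hg : IsInjectiveHull g) : ∃ e : E ≃ₗ[R] F, e.toLinearMap ∘ₗ f = g := by
  obtain ⟨α, hα, hαf⟩ := exists_injective_extend hf.toIsEssentialInj hg.injective hg.isInjective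
  have hess : IsEssentialInj α :=
    isEssentialInj_of_comp_right (f := f) (hαf ▸ hg.toIsEssentialInj) hα
  exact ⟨LinearEquiv.ofBijective α ⟨hα,
    surjective_of_isEssentialInj_of_injective hess hf.isInjective⟩, hαf⟩

theorem isInjectiveHull_comp_equiv {M' : Type v} [AddCommGroup M'] [Module R M'] {f : M →ₗ[R] E}
    (hf : IsInjectiveHull f) (e : M' ≃ₗ[R] M) : IsInjectiveHull (f ∘ₗ e.toLinearMap) :=
  ⟨isEssentialInj_comp (isEssentialInj_linearEquiv e) hf.toIsEssentialInj, hf.isInjective⟩

theorem isInjectiveHull_equiv_comp {f : M →ₗ[R] E} (hf : IsInjectiveHull f) (e : E ≃ₗ[R] F) :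
    IsInjectiveHull (e.toLinearMap ∘ₗ f) :=
  ⟨isEssentialInj_comp hf.toIsEssentialInj (isEssentialInj_linearEquiv e),
    injective_of_linearEquiv e hf.isInjective⟩

end Hull

end Groth.L04
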