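import Groth.Agent.L04.CMBasic
import Mathlib.RingTheory.Localization.Ideal

/-!
# Depth and localization (Bass' inequality)
-/

universe u

open RingTheory.Sequence Ideal IsLocalRing
open scoped Pointwise

namespace Groth.L04

/-- `depth M ≤ depth_I M + dim R/I`. -/
theorem depth_le_idealDepth_add_ringKrullDim {R : Type u} [CommRing R] [IsLocalRing R]
    [IsNoetherianRing R] {M : Type u} [AddCommGroup M] [Module R M] [Module.Finite R M] {I : Ideal R}
    (hI : I ≠ ⊤) :
    ((LocCoh.depth R M : ℕ∞) : WithBot ℕ∞) ≤
      ((LocCoh.idealDepth I M : ℕ∞) : WithBot ℕ∞) + ringKrullDim (R ⧸ I) := by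
  haveI : Nontrivial (R ⧸ I) := Ideal.Quotient.nontrivial_iff.2 hI
  by_cases h : I • (⊤ : Submodule R M) = ⊤
  · rw [idealDepth_eq_top h]
    refine le_trans (WithBot.coe_le_coe.2 le_top) ?_
    calc ((⊤ : ℕ∞) : WithBot ℕ∞) = ((⊤ : ℕ∞) : WithBot ℕ∞) + 0 := (add_zero _).symm
      _ ≤ _ := add_le_add le_rfl ringKrullDim_nonneg_of_nontrivial
  obtain ⟨rs, -, hrs, hrsI, z, hz0, hz⟩ := exists_maximal_regular h (IsWeaklyRegular.nil R M)
    (by simp)
  haveI : Nontrivial M := by
    by_contra hh
    rw [not_nontrivial_iff_subsingleton] at hh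
    exact h (Subsingleton.elim _ _)
  rw [idealDepth_eq_length hrs hrsI hz0 hz,
    ← depth_quotient_ofList_add hrs (fun r hr => le_maximalIdeal hI (hrsI r hr)),
    WithBot.coe_add, add_comm]
  obtain ⟨P, hP, hPz⟩ := exists_le_isAssociatedPrime_of_isNoetherianRing R z hz0
  have hIP : I ≤ P := fun a ha => hPz (Submodule.mem_colon_singleton.2 (by simp [hz a ha]))
  exact add_le_add le_rfl ((depth_le_ringKrullDim_quotient hP).trans
    (ringKrullDim_le_of_surjective (Ideal.Quotient.factor hIP) (Ideal.Quotient.factor_surjective hIP)))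

variable {R : Type u} [CommRing R]

/-- A weakly regular sequence may be rescaled by units. -/
theorem isWeaklyRegular_of_associated {A : Type u} [CommRing A] :
    ∀ {l l' : List A}, List.Forall₂ Associated l l' → ∀ {N : Type u} [AddCommGroup N] [Module A N],
      IsWeaklyRegular N l → IsWeaklyRegular N l' := by
  intro l l' h
  induction h with
  | nil => intro N _ _ _; exact IsWeaklyRegular.nil A N
  | @cons a b l l' hab _ ih =>
    intro N _ _ hreg
    rw [isWeaklyRegular_cons_iff] at hreg ⊢
    obtain ⟨u, rfl⟩ := hab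
    refine ⟨fun x y hxy => hreg.1 ?_, ih ?_⟩
    · change a • x = a • y
      have h' := congrArg ((↑u⁻¹ : A) • ·) hxy
      simpa [smul_smul, mul_comm] using h'
    · have he : (a • ⊤ : Submodule A N) = (a * u) • ⊤ := by
        refine le_antisymm ?_ ?_ <;> intro x hx <;>
          obtain ⟨w, -, rfl⟩ := (Submodule.mem_smul_pointwise_iff_exists _ _ _).1 hx
        · exact (Submodule.mem_smul_pointwise_iff_exists _ _ _).2
            ⟨(↑u⁻¹ : A) • w, trivial, by rw [smul_smul, mul_assoc, Units.mul_inv, mul_one]⟩
        · exact (Submodule.mem_smul_pointwise_iff_exists _ _ _).2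
            ⟨(↑u : A) • w, trivial, by rw [smul_smul]⟩
      exact ((Submodule.quotEquivOfEq _ _ he).isWeaklyRegular_congr l).1 hreg.2

theorem idealDepth_localized_le_depth [IsNoetherianRing R] {M : Type u} [AddCommGroup M]
    [Module R M] [Module.Finite R M] {p s : Ideal R} [p.IsPrime] [s.IsPrime] (hps : p ≤ s) :
    LocCoh.idealDepth (p.map (algebraMap R (Localization.AtPrime s)))
        (LocalizedModule s.primeCompl M) ≤
      LocCoh.depth (Localization.AtPrime p) (LocalizedModule p.primeCompl M) := by
  haveI : Module.Finite (Localization.AtPrime s) (LocalizedModule s.primeCompl M) :=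
    Module.Finite.of_isLocalizedModule s.primeCompl (LocalizedModule.mkLinearMap s.primeCompl M)
  by_cases hM : Nontrivial (LocalizedModule p.primeCompl M)
  swap
  · rw [not_nontrivial_iff_subsingleton] at hM
    exact le_top.trans_eq (idealDepth_eq_top
      (eq_top_iff.2 fun x _ => Subsingleton.elim (0 : LocalizedModule p.primeCompl M) x ▸ zero_mem _)).symm
  have hle : s.primeCompl ≤ p.primeCompl := fun t ht htp => ht (hps htp)
  let φ := LocalizedModule.liftOfLE (M := M) s.primeCompl p.primeCompl hle
  have hne : p.map (algebraMap R (Localization.AtPrime s)) •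
      (⊤ : Submodule (Localization.AtPrime s) (LocalizedModule s.primeCompl M)) ≠ ⊤ := by
    intro htop
    obtain ⟨a, ha, hm⟩ := exists_smul_eq_self htop
    obtain ⟨⟨⟨b, hb⟩, t⟩, hbt⟩ := (IsLocalization.mem_map_algebraMap_iff s.primeCompl _).1 ha
    have hu : (t : R) - b ∈ p.primeCompl := fun h => t.2 (hps (by simpa using add_mem h hb))
    refine not_subsingleton (LocalizedModule p.primeCompl M) (subsingleton_of_forall_eq 0 fun y => ?_)
    obtain ⟨⟨m, c⟩, rfl⟩ := IsLocalizedModule.mk'_surjective p.primeCompl φ y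
    simp only [Function.uncurry_apply_pair]
    have h0 : ((t : R) - b) • m = 0 := by
      rw [sub_smul, sub_eq_zero, ← algebraMap_smul (Localization.AtPrime s) b m, ← hbt, mul_comm,
        mul_smul, hm, algebraMap_smul]
    rw [IsLocalizedModule.mk'_eq_zero']
    exact ⟨⟨_, hu⟩, h0⟩
  refine ENat.forall_natCast_le_iff_le.1 fun n hn => ?_
  obtain ⟨rs, rfl, hrs, hI⟩ := exists_of_le_idealDepth hne hn
  obtain ⟨bs, hbs, hassoc⟩ : ∃ bs : List R, (∀ b ∈ bs, b ∈ p) ∧
      List.Forall₂ Associated rs (bs.map (algebraMap R (Localization.AtPrime s))) := by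
    clear hrs hn
    induction rs with
    | nil => exact ⟨[], by simp, List.Forall₂.nil⟩
    | cons r rs ih =>
      rw [List.forall_mem_cons] at hI
      obtain ⟨bs, h1, h2⟩ := ih hI.2
      obtain ⟨⟨⟨b, hb⟩, t⟩, hbt⟩ := (IsLocalization.mem_map_algebraMap_iff s.primeCompl _).1 hI.1
      exact ⟨b :: bs, List.forall_mem_cons.2 ⟨hb, h1⟩,
        List.Forall₂.cons ⟨(IsLocalization.map_units (Localization.AtPrime s) t).unit, hbt⟩ h2⟩
  have h1 := (isWeaklyRegular_map_algebraMap_iff _ _ bs).1 (isWeaklyRegular_of_associated hassoc hrs)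
  have h2 := h1.of_isLocalizedModule (Localization.AtPrime p) p.primeCompl φ
  refine le_trans (le_of_eq ?_) (length_le_idealDepth h2 fun r hr => ?_)
  · rw [hassoc.length_eq, List.length_map, List.length_map]
  · obtain ⟨r, hr', rfl⟩ := List.mem_map.1 hr
    exact (IsLocalization.AtPrime.to_map_mem_maximal_iff _ p r).2 (hbs r hr')

theorem ringKrullDim_localization_quotient {p s : Ideal R} [p.IsPrime] [s.IsPrime] (hps : p ≤ s) :
    ringKrullDim (Localization.AtPrime s ⧸ p.map (algebraMap R (Localization.AtPrime s))) =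
      (s.map (Ideal.Quotient.mk p)).height := by
  haveI hprime : (s.map (Ideal.Quotient.mk p)).IsPrime :=
    Ideal.map_isPrime_of_surjective Ideal.Quotient.mk_surjective (by simpa using hps)
  haveI : IsLocalization.AtPrime
      (Localization.AtPrime s ⧸ p.map (algebraMap R (Localization.AtPrime s)))
      (s.map (Ideal.Quotient.mk p)) := by
    have h : Algebra.algebraMapSubmonoid (R ⧸ p) s.primeCompl =
        (s.map (Ideal.Quotient.mk p)).primeCompl := by
      ext y
      obtain ⟨y, rfl⟩ := Ideal.Quotient.mk_surjective y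
      have hc : (s.map (Ideal.Quotient.mk p)).comap (Ideal.Quotient.mk p) = s := by
        rw [Ideal.comap_map_of_surjective _ Ideal.Quotient.mk_surjective, ← RingHom.ker_eq_comap_bot,
          Ideal.mk_ker, sup_eq_left.2 hps]
      constructor
      · rintro ⟨t, ht, hty⟩ hy
        refine ht ?_
        rw [← hc]
        rw [← hty] at hy
        exact hy
      · intro hy
        exact ⟨y, fun h => hy (Ideal.mem_map_of_mem _ h), rfl⟩
    unfold IsLocalization.AtPrime
    rw [← h]
    infer_instance
  exact IsLocalization.AtPrime.ringKrullDim_eq_height (s.map (Ideal.Quotient.mk p)) _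

theorem depth_localized_le_add_height [IsNoetherianRing R] {M : Type u} [AddCommGroup M]
    [Module R M] [Module.Finite R M] {p s : Ideal R} [p.IsPrime] [s.IsPrime] (hps : p ≤ s) :
    LocCoh.depth (Localization.AtPrime s) (LocalizedModule s.primeCompl M) ≤
      LocCoh.depth (Localization.AtPrime p) (LocalizedModule p.primeCompl M) +
        (s.map (Ideal.Quotient.mk p)).height := by
  haveI : Module.Finite (Localization.AtPrime s) (LocalizedModule s.primeCompl M) :=
    Module.Finite.of_isLocalizedModule s.primeCompl (LocalizedModule.mkLinearMap s.primeCompl M)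
  have hI : p.map (algebraMap R (Localization.AtPrime s)) ≠ ⊤ :=
    ne_top_of_le_ne_top (maximalIdeal.isMaximal _).ne_top
      (Localization.AtPrime.map_eq_maximalIdeal (I := s) ▸ Ideal.map_mono hps)
  have h := depth_le_idealDepth_add_ringKrullDim (M := LocalizedModule s.primeCompl M) hI
  rw [ringKrullDim_localization_quotient hps, ← WithBot.coe_add, WithBot.coe_le_coe] at h
  exact h.trans (add_le_add (idealDepth_localized_le_depth hps) le_rfl)

end Groth.L04
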