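import Groth.Agent.L16.HomSh.Basic
import Groth.Agent.L17.FinLocBases
import Groth.Agent.L18.LocFreeFP
import Groth.Agent.L19.ConormalAffine

/-!
Homomorphisms out of a finite locally free module: the sheaf of homomorphisms is quasi-coherent, and on a
qcqs scheme a power of a function whose locus is contained in a frame domain factors through `O`.
-/

set_option autoImplicit false
set_option backward.isDefEq.respectTransparency false
set_option backward.isDefEq.respectTransparency.types false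

universe u

open CategoryTheory AlgebraicGeometry TopologicalSpace Opposite

noncomputable section

namespace Groth.L04.FinLocFreeHom

open Groth.L18.Frame (rs ro rs_rs ro_ro rs_smul rs_self ro_self)
open Groth.L16.HomSh

variable {X : Scheme.{u}} {M N : X.Modules}

theorem isQCoh_of_finLocFree (hM : FlatMod.IsFinLocFree M) : Coh.IsQCoh M := by
  obtain ⟨d, -⟩ := (Groth.L18.LFP.isFP_of_isFinLocFree M hM).exists_quasicoherentData
  exact SheafOfModules.IsQuasicoherent.mk (R := X.ringCatSheaf) (M := M) ⟨d⟩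

/-- Sections with a frame over `W`. -/
def IsFrameOn (W : X.Opens) {n : ℕ} (e : Fin n → Γ(M, W)) : Prop :=
  ∀ (V : X.Opens) (h : V ≤ W), Function.Bijective fun r : Fin n → Γ(X, V) => ∑ i, r i • rs M h (e i)

theorem exists_frame (hM : FlatMod.IsFinLocFree M) (x : X) :
    ∃ (W : X.Opens) (n : ℕ) (e : Fin n → Γ(M, W)), x ∈ W ∧ IsFrameOn W e := by
  obtain ⟨U, n, hxU, ⟨i⟩⟩ := hM x
  obtain ⟨s, hs⟩ := Groth.L17.FinLocBases.exists_isBasis M i
  have hU : U.ι ''ᵁ ⊤ = U := (Scheme.Hom.image_top_eq_opensRange U.ι).trans U.opensRange_ι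
  exact ⟨U.ι ''ᵁ ⊤, n, s, hU.symm ▸ hxU, fun V h => hs V (homOfLE h)⟩

theorem IsFrameOn.rs {W : X.Opens} {n : ℕ} {e : Fin n → Γ(M, W)} (he : IsFrameOn W e) {V : X.Opens}
    (h : V ≤ W) : IsFrameOn V fun i => Groth.L18.Frame.rs M h (e i) := fun V' h' => by
  simp only [rs_rs]
  exact he V' (h'.trans h)

theorem IsFrameOn.basis {W : X.Opens} {n : ℕ} {e : Fin n → Γ(M, W)} (he : IsFrameOn W e) :
    ∃ b : Module.Basis (Fin n) Γ(X, W) Γ(M, W), ∀ i, b i = e i := by
  classical
  let L : (Fin n → Γ(X, W)) →ₗ[Γ(X, W)] Γ(M, W) := Fintype.linearCombination Γ(X, W) e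
  have hL : Function.Bijective L := by
    refine Eq.mp (congrArg Function.Bijective ?_) (he W le_rfl)
    funext r
    exact Finset.sum_congr rfl fun i _ => by rw [rs_self]
  refine ⟨.ofEquivFun (LinearEquiv.ofBijective L hL).symm, fun i => ?_⟩
  rw [Module.Basis.coe_ofEquivFun]
  show L (Pi.single i 1) = e i
  simp [L, Fintype.linearCombination_apply, Pi.single_apply]

section Affine

variable [Coh.IsQCoh M] [Coh.IsQCoh N] {U : X.Opens} (hU : IsAffineOpen U) {n : ℕ}
  (b : Module.Basis (Fin n) Γ(X, U) Γ(M, U))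

include hU b in
theorem exists_pow_smul_eq_zero (a : Γ(X, U)) (t : Γ(homMod M N, U))
    (h : rs (homMod M N) (X.basicOpen_le a) t = 0) : ∃ k : ℕ, a ^ k • t = 0 := by
  classical
  obtain ⟨e, he⟩ := exists_linearEquiv (M := M) (N := N) hU
  have hz : ∀ i, ∃ k : ℕ, a ^ k • e t (b i) = 0 := fun i => by
    refine Groth.L16.QCohSect.exists_pow_smul_eq_zero hU N a _ ?_
    rw [he, ev_rs]
    have := congrArg (fun s : Γ(homMod M N, X.basicOpen a) =>
      ev (secEquiv _ s) le_rfl (rs M (X.basicOpen_le a) (b i))) h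
    exact this
  choose k hk using hz
  refine ⟨Finset.univ.sup k, e.injective ?_⟩
  rw [map_smul, map_zero]
  refine b.ext fun i => ?_
  obtain ⟨j, hj⟩ := Nat.exists_eq_add_of_le (Finset.le_sup (f := k) (Finset.mem_univ i))
  show a ^ Finset.univ.sup k • e t (b i) = 0
  rw [hj, pow_add, mul_comm, mul_smul, hk, smul_zero]

include hU b in
theorem exists_pow_smul_eq_res (a : Γ(X, U)) (s : Γ(homMod M N, X.basicOpen a)) :
    ∃ (k : ℕ) (t : Γ(homMod M N, U)),
      rs (homMod M N) (X.basicOpen_le a) t = ro (X.basicOpen_le a) (a ^ k) • s := by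
  classical
  obtain ⟨e, he⟩ := exists_linearEquiv (M := M) (N := N) hU
  let D := X.basicOpen a
  let hD : D ≤ U := X.basicOpen_le a
  let φ := secEquiv D s
  choose n₀ y₀ hy₀ using fun i : Fin n =>
    Groth.L16.QCohSect.exists_pow_smul_eq_res hU N a (ev φ le_rfl (rs M hD (b i)))
  let K := Finset.univ.sup n₀
  have hy : ∀ i, ∃ y : Γ(N, U), rs N hD y = ro hD (a ^ K) • ev φ le_rfl (rs M hD (b i)) := fun i => by
    obtain ⟨j, hj⟩ := Nat.exists_eq_add_of_le (Finset.le_sup (f := n₀) (Finset.mem_univ i))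
    refine ⟨a ^ j • y₀ i, ?_⟩
    rw [rs_smul, hy₀ i, ← mul_smul, show K = n₀ i + j from hj, pow_add,
      show ro hD (a ^ n₀ i * a ^ j) = _ from map_mul _ _ _, mul_comm]
  choose y hy using hy
  let ℓ : Γ(M, U) →ₗ[Γ(X, U)] Γ(N, U) := b.constr Γ(X, U) y
  have hℓ : ∀ v, rs N hD (ℓ v) = ro hD (a ^ K) • ev φ le_rfl (rs M hD v) := fun v => by
    have hv : v ∈ Submodule.span Γ(X, U) (Set.range b) := b.mem_span v
    induction hv using Submodule.span_induction with
    | mem x hx =>
      obtain ⟨i, rfl⟩ := hx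
      rw [show ℓ (b i) = y i from b.constr_basis _ _ _, hy]
    | zero =>
      rw [map_zero, show rs N hD (0 : Γ(N, U)) = 0 from map_zero _,
        show rs M hD (0 : Γ(M, U)) = 0 from map_zero _, map_zero, smul_zero]
    | add x y _ _ hx hy =>
      rw [map_add, show rs N hD (ℓ x + ℓ y) = _ from map_add _ _ _,
        show rs M hD (x + y) = rs M hD x + rs M hD y from map_add _ _ _, map_add, smul_add, ← hx, ← hy]
    | smul c x _ hx =>
      rw [map_smul, rs_smul, rs_smul, ev_smul, hx, smul_comm]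
  refine ⟨K, e.symm ℓ, (secEquiv D).injective (sub_eq_zero.1 ?_)⟩
  refine ev_top_injective (hU.basicOpen a) fun x => ?_
  obtain ⟨j, m, hm⟩ := Groth.L16.QCohSect.exists_pow_smul_eq_res hU M a x
  refine (isUnit_ro_pow a j).smul_eq_zero.1 ?_
  rw [← ev_smul, ← hm]
  refine sub_eq_zero.2 ?_
  show ev (secEquiv U (e.symm ℓ)) (le_rfl.trans hD) (rs M hD m) =
    ev (secEquiv D (ro hD (a ^ K) • s)) le_rfl (rs M hD m)
  rw [← ev_rs (secEquiv U (e.symm ℓ)) le_rfl hD m, ← he, e.apply_symm_apply, hℓ, map_smul, ev_smulSec,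
    ro_self]

end Affine

/-- The sheaf of homomorphisms out of a finite locally free module is quasi-coherent. -/
theorem isQCoh_homMod (hM : FlatMod.IsFinLocFree M) (N : X.Modules) [Coh.IsQCoh N] :
    Coh.IsQCoh (homMod M N) := by
  haveI := isQCoh_of_finLocFree hM
  refine Groth.L16.QcqsPush.isQCoh_of_sections _ fun x => ?_
  obtain ⟨W, n, e, hxW, he⟩ := exists_frame hM x
  obtain ⟨_, ⟨V, hV, rfl⟩, hxV, hVW⟩ :=
    X.isBasis_affineOpens.exists_subset_of_mem_open (show x ∈ (W : Set X) from hxW) W.2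
  obtain ⟨b, -⟩ := (he.rs hVW).basis
  exact ⟨V, hxV, hV, fun a => ⟨exists_pow_smul_eq_res hV b a, exists_pow_smul_eq_zero hV b a⟩⟩

/-- Multiplication by a global function. -/
def scal (M : X.Modules) (r : Γ(X, ⊤)) : M ⟶ M := toHom (r • ofHom (𝟙 M))

theorem scal_app (r : Γ(X, ⊤)) (W : X.Opens) (x : Γ(M, W)) :
    (scal M r).app W x = ro (le_top : W ≤ ⊤) r • x := rfl

theorem scal_mul (r s : Γ(X, ⊤)) : scal M (r * s) = scal M s ≫ scal M r := by
  refine Scheme.Modules.hom_ext _ _ fun W => ?_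
  ext x
  show ro (le_top : W ≤ ⊤) (r * s : Γ(X, ⊤)) • x = ro (le_top : W ≤ ⊤) r • ro (le_top : W ≤ ⊤) s • x
  rw [← mul_smul, show ro (le_top : W ≤ ⊤) (r * s : Γ(X, ⊤)) = _ from map_mul _ _ _]

theorem scal_add (r s : Γ(X, ⊤)) : scal M (r + s) = scal M r + scal M s := by
  refine Scheme.Modules.hom_ext _ _ fun W => ?_
  ext x
  show ro (le_top : W ≤ ⊤) (r + s : Γ(X, ⊤)) • x = ro (le_top : W ≤ ⊤) r • x + ro (le_top : W ≤ ⊤) s • x
  rw [← add_smul, show ro (le_top : W ≤ ⊤) (r + s : Γ(X, ⊤)) = _ from map_add _ _ _]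

theorem scal_zero : scal M (0 : Γ(X, ⊤)) = 0 := by
  refine Scheme.Modules.hom_ext _ _ fun W => ?_
  ext x
  show ro (le_top : W ≤ ⊤) (0 : Γ(X, ⊤)) • x = 0
  rw [show ro (le_top : W ≤ ⊤) (0 : Γ(X, ⊤)) = 0 from map_zero _, zero_smul]

theorem scal_naturality (f : M ⟶ N) (r : Γ(X, ⊤)) : scal M r ≫ f = f ≫ scal N r := by
  refine Scheme.Modules.hom_ext _ _ fun W => ?_
  ext x
  exact f.app_smul (ro (le_top : W ≤ ⊤) r) x

theorem sum_app {ι : Type*} (t : Finset ι) (f : ι → (M ⟶ N)) (V : X.Opens) (x : Γ(M, V)) :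
    (∑ i ∈ t, f i).app V x = ∑ i ∈ t, (f i).app V x := by
  classical
  induction t using Finset.induction_on with
  | empty => simp
  | insert a t ha ih =>
    rw [Finset.sum_insert ha, Finset.sum_insert ha, ← ih]
    rfl

/-- The endomorphisms that are sums of endomorphisms factoring through `O`. -/
def traceSub (M : X.Modules) : AddSubgroup (M ⟶ M) :=
  AddSubgroup.closure {g | ∃ (ψ : M ⟶ Coh.structureModule X) (t : Coh.structureModule X ⟶ M), g = ψ ≫ t}

theorem comp_scal_mem {g : M ⟶ M} (hg : g ∈ traceSub M) (r : Γ(X, ⊤)) : g ≫ scal M r ∈ traceSub M := by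
  induction hg using AddSubgroup.closure_induction with
  | mem g hg =>
    obtain ⟨ψ, t, rfl⟩ := hg
    exact AddSubgroup.subset_closure ⟨ψ, t ≫ scal M r, Category.assoc _ _ _⟩
  | zero => rw [Limits.zero_comp]; exact zero_mem _
  | add a b _ _ ha hb => rw [Preadditive.add_comp]; exact add_mem ha hb
  | neg a _ ha => rw [Preadditive.neg_comp]; exact neg_mem ha

/-- Over a qcqs scheme a power of `r` is a sum of endomorphisms factoring through `O`, if `M` has a
frame on `X_r`. -/
theorem exists_scal_mem [CompactSpace X] [QuasiSeparatedSpace X] (hM : FlatMod.IsFinLocFree M)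
    (r : Γ(X, ⊤)) (hr : IsAffineOpen (X.basicOpen r)) {n : ℕ} (e : Fin n → Γ(M, X.basicOpen r))
    (he : IsFrameOn (X.basicOpen r) e) : ∃ K : ℕ, scal M (r ^ K) ∈ traceSub M := by
  classical
  haveI := isQCoh_of_finLocFree hM
  haveI := Groth.L19.Conormal.isQCoh_structureModule X
  haveI := isQCoh_homMod hM (Coh.structureModule X)
  haveI := isQCoh_homMod hM M
  let D := X.basicOpen r
  have hq : IsCompact ((⊤ : X.Opens) : Set X) := by simpa using isCompact_univ
  have hqs : IsQuasiSeparated ((⊤ : X.Opens) : Set X) := by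
    simpa using isQuasiSeparated_univ_iff.mpr inferInstance
  obtain ⟨b, hb⟩ := he.basis
  obtain ⟨E, hE⟩ := exists_linearEquiv (M := M) (N := Coh.structureModule X) hr
  let φ : Fin n → Γ(homMod M (Coh.structureModule X), D) := fun i =>
    E.symm (LinearMap.toSpanSingleton Γ(X, D) Γ(Coh.structureModule X, D) (1 : Γ(X, D)) ∘ₗ b.coord i)
  choose p ψ hψ using fun i => Groth.L16.QcqsPush.exists_pow_smul_eq_res
    (homMod M (Coh.structureModule X)) hq hqs r (φ i)
  choose q t ht using fun i => Groth.L16.QcqsPush.exists_pow_smul_eq_res M hq hqs r (e i)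
  let P := Finset.univ.sup fun i => p i + q i
  let θ : M ⟶ M := ∑ i, toHom (secEquiv ⊤ (ψ i)) ≫
    Groth.L16.homOfSection M (r ^ (P - (p i + q i)) • t i)
  have hθ : θ ∈ traceSub M := sum_mem fun i _ => AddSubgroup.subset_closure ⟨_, _, rfl⟩
  let d : Γ(homMod M M, ⊤) := globalEquiv M M θ - globalEquiv M M (scal M (r ^ P))
  have hd : rs (homMod M M) (X.basicOpen_le r) d = 0 := by
    refine (secEquiv D).injective ?_
    rw [map_zero]
    refine ev_top_injective hr fun x => ?_
    show θ.app D x - (scal M (r ^ P)).app D x = 0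
    rw [sub_eq_zero, sum_app, scal_app]
    have hterm : ∀ i : Fin n, (toHom (secEquiv ⊤ (ψ i)) ≫
        Groth.L16.homOfSection M (r ^ (P - (p i + q i)) • t i)).app D x =
        ro (le_top : D ≤ ⊤) (r ^ P) • (b.coord i x • e i) := fun i => by
      show (Groth.L16.homOfSection M (r ^ (P - (p i + q i)) • t i)).app D
        (ev (secEquiv ⊤ (ψ i)) le_top x) = _
      have h1 : ev (secEquiv ⊤ (ψ i)) (le_top : D ≤ ⊤) x = ro (le_top : D ≤ ⊤) (r ^ p i) * b.coord i x := by
        rw [← secEquiv_rs (X.basicOpen_le r) (ψ i) le_rfl x, hψ i, map_smul, ev_smulSec, ro_self, ← hE,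
          E.apply_symm_apply]
        show _ * (b.coord i x * 1) = _
        rw [mul_one]
      have hP : P = (P - (p i + q i)) + p i + q i := by
        have := Finset.le_sup (f := fun i => p i + q i) (Finset.mem_univ i)
        omega
      rw [h1, Groth.L16.homOfSection_app]
      show _ • rs M (le_top : D ≤ ⊤) (r ^ (P - (p i + q i)) • t i) = _
      rw [rs_smul, ht i]
      conv_rhs => rw [hP]
      simp only [ro, pow_add, map_mul, smul_smul]
      congr 1
      ring
    rw [Finset.sum_congr rfl fun i _ => hterm i, ← Finset.smul_sum]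
    congr 1
    simpa [hb, Module.Basis.coord_apply] using b.sum_repr x
  obtain ⟨L, hL⟩ := Groth.L16.QcqsPush.exists_pow_smul_eq_zero (homMod M M) hq r d hd
  refine ⟨L + P, ?_⟩
  have key : scal M (r ^ (L + P)) = θ ≫ scal M (r ^ L) := by
    rw [smul_sub, sub_eq_zero] at hL
    have h2 := congrArg (globalEquiv M M).symm hL
    have h3 : ∀ (g : M ⟶ M) (c : Γ(X, ⊤)),
        (globalEquiv M M).symm (c • globalEquiv M M g) = g ≫ scal M c := fun g c => by
      refine Scheme.Modules.hom_ext _ _ fun W => ?_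
      ext x
      rfl
    rw [h3, h3, ← scal_mul, ← pow_add] at h2
    exact h2.symm
  rw [key]
  exact comp_scal_mem hθ _

end Groth.L04.FinLocFreeHom
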