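import Groth.Prelude.Def_DRing3
import Groth.Prelude.Def_Wider
import Groth.Prelude.Def_W4bk5brsh16IT
import Mathlib.RingTheory.Finiteness.Ideal
import Mathlib.RingTheory.LocalRing.Module
import Mathlib.RingTheory.Localization.Integer
import Mathlib.RingTheory.Ideal.AssociatedPrime.Finiteness
import Mathlib.RingTheory.Artinian.Module
import Mathlib.CategoryTheory.Abelian.SerreClass.Basic
import Mathlib.Algebra.Homology.ShortComplex.ModuleCat
import Mathlib.LinearAlgebra.Dual.Lemmas
import Mathlib.Algebra.Category.ModuleCat.FilteredColimits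

/-!
# Power torsion modules and torsion submodules
-/

universe u v

open scoped TensorProduct

namespace Groth.L04

variable {R : Type u} [CommRing R]

theorem mem_torsionSub {I : Ideal R} {M : Type u} [AddCommGroup M] [Module R M] {m : M} :
    m ∈ DRing.torsionSub I M ↔ ∃ n : ℕ, ∀ a ∈ I ^ n, a • m = 0 := Iff.rfl

theorem mem_torsionBy {I : Ideal R} {M : Type v} [AddCommGroup M] [Module R M] {m : M} :
    m ∈ LocCoh.torsionBy I M ↔ ∀ a ∈ I, a • m = 0 := by
  rw [Submodule.mem_torsionBySet_iff]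
  exact ⟨fun h a ha => h ⟨a, ha⟩, fun h a => h a a.2⟩

/-- If every element of a finitely generated ideal kills `y` modulo torsion then `y` is torsion. -/
theorem exists_pow_of_forall_exists {I : Ideal R} (hI : I.FG) {M : Type v} [AddCommGroup M]
    [Module R M] {y : M} {J : Ideal R} (hJ : J.FG)
    (h : ∀ a ∈ J, ∃ n : ℕ, ∀ b ∈ I ^ n, (b * a) • y = 0) :
    ∃ N : ℕ, ∀ c ∈ I ^ N * J, c • y = 0 := by
  classical
  obtain ⟨s, rfl⟩ := hJ
  choose n hn using fun a : s => h a (Submodule.subset_span a.2)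
  refine ⟨Finset.univ.sup n, fun c hc => ?_⟩
  refine Submodule.mul_induction_on hc (fun b hb a ha => ?_) fun p q hp hq => by
    rw [add_smul, hp, hq, add_zero]
  induction ha using Submodule.span_induction generalizing b with
  | mem a ha => exact hn ⟨a, ha⟩ b (Ideal.pow_le_pow_right (Finset.le_sup (Finset.mem_univ _)) hb)
  | zero => simp
  | add p q _ _ hp hq => rw [mul_add, add_smul, hp b hb, hq b hb, add_zero]
  | smul r p _ hp =>
    rw [smul_eq_mul, mul_left_comm, mul_smul, hp b hb, smul_zero]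

theorem isPowerTorsion_of_exact {I : Ideal R} (hI : I.FG) {L M N : Type v} [AddCommGroup L]
    [Module R L] [AddCommGroup M] [Module R M] [AddCommGroup N] [Module R N] (f : L →ₗ[R] M)
    (g : M →ₗ[R] N) (hfg : Function.Exact f g) (hL : LocCoh.IsPowerTorsion I L)
    (hN : LocCoh.IsPowerTorsion I N) : LocCoh.IsPowerTorsion I M := by
  intro m
  obtain ⟨k, hk⟩ := hN (g m)
  obtain ⟨n, hn⟩ := exists_pow_of_forall_exists (y := m) hI (Ideal.FG.pow hI (n := k)) fun a ha => by
    obtain ⟨l, hl⟩ := (hfg (a • m)).1 (by rw [map_smul, hk a ha])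
    obtain ⟨j, hj⟩ := hL l
    exact ⟨j, fun b hb => by rw [mul_smul, ← hl, ← map_smul, hj b hb, map_zero]⟩
  exact ⟨n + k, fun c hc => hn c (by rwa [← pow_add])⟩

theorem isSerreClass_isPowerTorsion {I : Ideal R} (hI : I.FG) :
    CategoryTheory.ObjectProperty.IsSerreClass (C := ModuleCat.{u} R)
      (fun M => LocCoh.IsPowerTorsion I M) where
  exists_zero := ⟨ModuleCat.of R PUnit.{u + 1},
    ModuleCat.isZero_of_subsingleton _, fun m => ⟨0, fun a _ => Subsingleton.elim _ _⟩⟩
  prop_of_mono {X Y} f hf hY m := by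
    obtain ⟨n, hn⟩ := hY (f.hom m)
    exact ⟨n, fun a ha => (ModuleCat.mono_iff_injective f).1 hf (by
      rw [map_smul, hn a ha, map_zero])⟩
  prop_of_epi {X Y} f hf hX y := by
    obtain ⟨x, rfl⟩ := (ModuleCat.epi_iff_surjective f).1 hf y
    obtain ⟨n, hn⟩ := hX x
    exact ⟨n, fun a ha => by rw [← map_smul, hn a ha, map_zero]⟩
  prop_X₂_of_shortExact {S} hS h₁ h₃ :=
    isPowerTorsion_of_exact hI S.f.hom S.g.hom
      ((CategoryTheory.ShortComplex.ShortExact.moduleCat_exact_iff_function_exact S).1 hS.exact) h₁ h₃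

theorem torsionBy_quotient_torsionSub {I : Ideal R} (hI : I.FG) (M : Type u) [AddCommGroup M]
    [Module R M] : LocCoh.torsionBy I (M ⧸ DRing.torsionSub I M) = ⊥ := by
  rw [eq_bot_iff]
  intro x hx
  obtain ⟨y, rfl⟩ := Submodule.mkQ_surjective _ x
  obtain ⟨n, hn⟩ := exists_pow_of_forall_exists (y := y) hI hI fun a ha => by
    have := mem_torsionBy.1 hx a ha
    rw [← map_smul, Submodule.mkQ_apply, Submodule.Quotient.mk_eq_zero, mem_torsionSub] at this
    obtain ⟨j, hj⟩ := this
    exact ⟨j, fun b hb => by rw [mul_smul, hj b hb]⟩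
  rw [Submodule.mem_bot, Submodule.mkQ_apply, Submodule.Quotient.mk_eq_zero]
  exact ⟨n + 1, fun c hc => hn c (by rwa [← pow_succ])⟩

theorem torsionBy_eq_bot_iff_torsionSub {I : Ideal R} {M : Type u} [AddCommGroup M] [Module R M] :
    LocCoh.torsionBy I M = ⊥ ↔ DRing.torsionSub I M = ⊥ := by
  refine ⟨fun h => eq_bot_iff.2 ?_, fun h => eq_bot_iff.2 fun x hx =>
    h.le ⟨1, fun a ha => mem_torsionBy.1 hx a (by simpa using ha)⟩⟩
  rintro x ⟨n, hn⟩
  induction n generalizing x with
  | zero => simpa using hn 1 (by simp)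
  | succ n ih =>
    refine ih (x := x) fun a ha => ?_
    have : a • x ∈ LocCoh.torsionBy I M := mem_torsionBy.2 fun b hb => by
      rw [← mul_smul]; exact hn _ (by rw [pow_succ']; exact Ideal.mul_mem_mul hb ha)
    simpa [h] using this

theorem mem_torsionSub_span_iff {t : ℕ} (f : Fin t → R) {M : Type u} [AddCommGroup M]
    [Module R M] {m : M} :
    m ∈ DRing.torsionSub (Ideal.span (Set.range f)) M ↔
      ∀ i, LocalizedModule.mkLinearMap (Submonoid.powers (f i)) M m = 0 := by
  constructor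
  · rintro ⟨n, hn⟩ i
    rw [IsLocalizedModule.eq_zero_iff (Submonoid.powers (f i))]
    exact ⟨⟨f i ^ n, n, rfl⟩, hn _ (Ideal.pow_mem_pow (Ideal.subset_span (Set.mem_range_self i)) n)⟩
  · intro h
    have hk : ∀ i, ∃ k : ℕ, f i ^ k • m = 0 := fun i => by
      obtain ⟨⟨_, k, rfl⟩, hk⟩ := (IsLocalizedModule.eq_zero_iff (Submonoid.powers (f i)) _).1 (h i)
      exact ⟨k, hk⟩
    choose k hk using hk
    obtain ⟨n, hn⟩ := Ideal.exists_pow_le_of_le_radical_of_fg
      (I := Ideal.span (Set.range f)) (J := Ideal.span (Set.range fun i => f i ^ k i))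
      (Ideal.span_le.2 (by
        rintro _ ⟨i, rfl⟩
        exact Ideal.mem_radical_iff.2 ⟨k i, Ideal.subset_span ⟨i, rfl⟩⟩)) (Submodule.fg_span (Set.finite_range f))
    refine ⟨n, fun a ha => ?_⟩
    have hle : Ideal.span (Set.range fun i => f i ^ k i) ≤
        LinearMap.ker (LinearMap.toSpanSingleton R M m) :=
      Ideal.span_le.2 (by rintro _ ⟨i, rfl⟩; simpa using hk i)
    simpa using hle (hn ha)

theorem tmul_one_bijective {R' : Type u} [CommRing R'] [Algebra R R'] (I : Ideal R)
    (hq : ∀ n : ℕ, 0 < n → Function.Bijective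
      (Ideal.quotientMap (Ideal.map (algebraMap R R') (I ^ n)) (algebraMap R R') Ideal.le_comap_map))
    (M : Type u) [AddCommGroup M] [Module R M] (hM : LocCoh.IsPowerTorsion I M) :
    Function.Bijective (fun m : M => (1 : R') ⊗ₜ[R] m) := by
  have hM' : ∀ m : M, ∃ n : ℕ, ∀ a ∈ I ^ (n + 1), a • m = 0 := fun m => by
    obtain ⟨n, hn⟩ := hM m
    exact ⟨n, fun a ha => hn a (Ideal.pow_le_pow_right n.le_succ ha)⟩
  have hsurj : ∀ (n : ℕ) (r' : R'), ∃ s : R,
      r' - algebraMap R R' s ∈ (I ^ (n + 1)).map (algebraMap R R') := fun n r' => by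
    obtain ⟨s, hs⟩ := (hq (n + 1) n.succ_pos).2 (Ideal.Quotient.mk _ r')
    obtain ⟨s, rfl⟩ := Ideal.Quotient.mk_surjective s
    rw [Ideal.quotientMap_mk, Ideal.Quotient.eq] at hs
    exact ⟨s, by simpa using neg_mem hs⟩
  have hinj : ∀ (n : ℕ) (s : R),
      algebraMap R R' s ∈ (I ^ (n + 1)).map (algebraMap R R') → s ∈ I ^ (n + 1) := fun n s hs => by
    rw [← Ideal.Quotient.eq_zero_iff_mem] at hs ⊢
    exact (hq (n + 1) n.succ_pos).1 (by rw [Ideal.quotientMap_mk, hs, map_zero])
  choose N hN using hM'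
  choose S hS using hsurj
  have huniq : ∀ (r' : R') (m : M) (n : ℕ) (s : R), (∀ a ∈ I ^ (n + 1), a • m = 0) →
      r' - algebraMap R R' s ∈ (I ^ (n + 1)).map (algebraMap R R') →
      S (N m) r' • m = s • m := by
    intro r' m n s hn hs
    rw [← sub_eq_zero, ← sub_smul]
    rcases le_total n (N m) with h | h
    · refine hn _ (hinj n _ ?_)
      have h1 := Ideal.map_mono (f := algebraMap R R') (Ideal.pow_le_pow_right (I := I)
        (Nat.succ_le_succ h)) (hS (N m) r')
      have := sub_mem hs h1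
      rw [map_sub]
      simpa using this
    · refine hN m _ (hinj _ _ ?_)
      have h1 := Ideal.map_mono (f := algebraMap R R') (Ideal.pow_le_pow_right (I := I)
        (Nat.succ_le_succ h)) hs
      have := sub_mem h1 (hS (N m) r')
      rw [map_sub]
      simpa using this
  let B : R' →ₗ[R] M →ₗ[R] M := LinearMap.mk₂ R (fun r' m => S (N m) r' • m)
    (fun a b m => by
      rw [huniq (a + b) m (N m) (S (N m) a + S (N m) b) (hN m) (by
        have := add_mem (hS (N m) a) (hS (N m) b)
        rw [map_add]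
        convert this using 1
        ring), add_smul])
    (fun c a m => by
      rw [huniq (c • a) m (N m) (c * S (N m) a) (hN m) (by
        have := Ideal.mul_mem_left _ (algebraMap R R' c) (hS (N m) a)
        rw [map_mul, Algebra.smul_def]
        convert this using 1
        ring), mul_smul])
    (fun r' m m' => by
      have h₁ : ∀ a ∈ I ^ (max (N m) (N m') + 1), a • m = 0 := fun a ha =>
        hN m a (Ideal.pow_le_pow_right (Nat.succ_le_succ (le_max_left _ _)) ha)
      have h₂ : ∀ a ∈ I ^ (max (N m) (N m') + 1), a • m' = 0 := fun a ha =>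
        hN m' a (Ideal.pow_le_pow_right (Nat.succ_le_succ (le_max_right _ _)) ha)
      rw [huniq r' (m + m') _ _ (fun a ha => by rw [smul_add, h₁ a ha, h₂ a ha, add_zero])
          (hS (max (N m) (N m')) r'), huniq r' m _ _ h₁ (hS (max (N m) (N m')) r'),
        huniq r' m' _ _ h₂ (hS (max (N m) (N m')) r'), smul_add])
    (fun c r' m => by
      rw [huniq r' (c • m) _ _ (fun a ha => by rw [smul_comm, hN m a ha, smul_zero]) (hS (N m) r'),
        smul_comm])
  constructor
  · intro x y hxy
    have := congrArg (TensorProduct.lift B) hxy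
    simp only [TensorProduct.lift.tmul, B, LinearMap.mk₂_apply] at this
    rwa [huniq 1 x (N x) 1 (hN x) (by simp), huniq 1 y (N y) 1 (hN y) (by simp), one_smul,
      one_smul] at this
  · intro t
    induction t using TensorProduct.induction_on with
    | zero => exact ⟨0, TensorProduct.tmul_zero _ _⟩
    | add a b ha hb =>
      obtain ⟨x, rfl⟩ := ha
      obtain ⟨y, rfl⟩ := hb
      exact ⟨x + y, TensorProduct.tmul_add _ _ _⟩
    | tmul r' m =>
      refine ⟨S (N m) r' • m, ?_⟩
      have hle : ∀ z ∈ (I ^ (N m + 1)).map (algebraMap R R'), z ⊗ₜ[R] m = 0 := by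
        intro z hz
        have hz' : z ∈ (I ^ (N m + 1) • ⊤ : Submodule R R') := by
          rw [Ideal.smul_top_eq_map]; exact hz
        refine Submodule.smul_induction_on hz' (fun c hc d _ => ?_) fun p q hp hq => ?_
        · rw [TensorProduct.smul_tmul, hN m c hc, TensorProduct.tmul_zero]
        · rw [TensorProduct.add_tmul, hp, hq, add_zero]
      have := hle _ (hS (N m) r')
      rw [TensorProduct.sub_tmul, sub_eq_zero] at this
      simp only
      rw [this, ← TensorProduct.smul_tmul, Algebra.algebraMap_eq_smul_one]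

theorem exists_isSMulRegular_of_torsionSub_eq_bot [IsNoetherianRing R] {R' : Type u} [CommRing R']
    [IsNoetherianRing R'] [Algebra R R'] (I : Ideal R) (M' : Type u) [AddCommGroup M']
    [Module R' M'] [Module.Finite R' M']
    (h : DRing.torsionSub (Ideal.map (algebraMap R R') I) M' = ⊥) :
    ∃ r ∈ I, IsSMulRegular M' (algebraMap R R' r) := by
  classical
  by_contra hne
  push Not at hne
  have hfin := associatedPrimes.finite R' M'
  have hsub : (I : Set R) ⊆
      ⋃ p ∈ (↑hfin.toFinset : Set (Ideal R')), ((p.comap (algebraMap R R') : Ideal R) : Set R) := by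
    intro r hr
    have h1 := hne r hr
    rw [isSMulRegular_iff_right_eq_zero_of_smul] at h1
    push Not at h1
    obtain ⟨x, hx, hx0⟩ := h1
    have : algebraMap R R' r ∈ ⋃ p ∈ associatedPrimes R' M', (p : Set R') := by
      rw [biUnion_associatedPrimes_eq_zero_divisors]; exact ⟨x, hx0, hx⟩
    simpa using this
  rcases hfin.toFinset.eq_empty_or_nonempty with he | ⟨p₀, hp₀⟩
  · rw [he] at hsub; simpa using hsub I.zero_mem
  obtain ⟨p, hp, hle⟩ := (Ideal.subset_union_prime (f := fun p : Ideal R' => p.comap (algebraMap R R'))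
    p₀ p₀ fun p hp _ _ => (hfin.mem_toFinset.1 hp).isPrime.comap _).1 hsub
  obtain ⟨x, hpx⟩ := isAssociatedPrime_iff.1 (hfin.mem_toFinset.1 hp) |>.2
  have hx0 : x ≠ 0 := fun hx => (hfin.mem_toFinset.1 hp).isPrime.ne_top (by simp [hpx, hx])
  refine hx0 (h.le ⟨1, fun a ha => ?_⟩)
  have := Ideal.map_le_iff_le_comap.2 hle (by simpa using ha)
  rw [hpx, Submodule.mem_colon_singleton] at this
  simpa using this

theorem subsingleton_of_hom_subsingleton [IsNoetherianRing R] (P H : Type u) [AddCommGroup P]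
    [Module R P] [Module.Finite R P] [AddCommGroup H] [Module R H]
    (hsupp : Module.support R H ⊆ Module.support R P) (hhom : Subsingleton (P →ₗ[R] H)) :
    Subsingleton H := by
  by_contra hH
  rw [not_subsingleton_iff_nontrivial] at hH
  obtain ⟨p, hp⟩ := associatedPrimes.nonempty R H
  have hpp : p.IsPrime := hp.isPrime
  obtain ⟨x, hx⟩ := (isAssociatedPrime_iff.1 hp).2
  let P' : PrimeSpectrum R := ⟨p, hpp⟩
  have hxs : P' ∈ Module.support R H := Module.mem_support_iff'.2 ⟨x, fun r hr hrx => hr (by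
    show r ∈ p
    rw [hx, Submodule.mem_colon_singleton]; simpa using hrx)⟩
  haveI := (Module.mem_support_iff_nontrivial_residueField_tensorProduct P').1 (hsupp hxs)
  obtain ⟨v, hv⟩ := exists_ne (0 : p.ResidueField ⊗[R] P)
  obtain ⟨φ, hφ⟩ : ∃ φ : (p.ResidueField ⊗[R] P) →ₗ[p.ResidueField] p.ResidueField, φ v ≠ 0 := by
    by_contra hc
    push Not at hc
    exact hv ((Module.forall_dual_apply_eq_zero_iff p.ResidueField v).1 hc)
  let ψ : P →ₗ[R] p.ResidueField := φ.restrictScalars R ∘ₗ TensorProduct.mk R p.ResidueField P 1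
  obtain ⟨s, hs⟩ := Module.Finite.exists_fin (R := R) (M := P) |>.choose_spec
  obtain ⟨⟨b, hb0⟩, hb⟩ := IsLocalization.exist_integer_multiples_of_finite
    (nonZeroDivisors (R ⧸ p)) (fun i => ψ (s i))
  obtain ⟨b, rfl⟩ := Ideal.Quotient.mk_surjective b
  have hbne : algebraMap R p.ResidueField b ≠ 0 := by
    rw [IsScalarTower.algebraMap_apply R (R ⧸ p) p.ResidueField]
    exact IsFractionRing.to_map_ne_zero_of_mem_nonZeroDivisors hb0
  have hsmul : ∀ z : p.ResidueField, b • z = algebraMap (R ⧸ p) p.ResidueField (Ideal.Quotient.mk p b) * z :=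
    fun z => by rw [Algebra.smul_def, IsScalarTower.algebraMap_apply R (R ⧸ p) p.ResidueField]; rfl
  let ι : (R ⧸ p) →ₗ[R] p.ResidueField := (Algebra.linearMap (R ⧸ p) p.ResidueField).restrictScalars R
  have hrange : ∀ y, (b • ψ) y ∈ LinearMap.range ι := by
    intro y
    have : (⊤ : Submodule R P) ≤ (LinearMap.range ι).comap (b • ψ) := by
      rw [← hs, Submodule.span_le]
      rintro _ ⟨i, rfl⟩
      obtain ⟨c, hc⟩ := hb i
      exact ⟨c, by
        show algebraMap (R ⧸ p) p.ResidueField c = b • ψ (s i)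
        rw [hc, hsmul, Algebra.smul_def]⟩
    exact this trivial
  have hιinj : Function.Injective ι := IsFractionRing.injective (R ⧸ p) p.ResidueField
  let θ : P →ₗ[R] R ⧸ p :=
    (LinearEquiv.ofInjective ι hιinj).symm.toLinearMap ∘ₗ (b • ψ).codRestrict _ hrange
  let j : (R ⧸ p) →ₗ[R] H := Submodule.liftQ p (LinearMap.toSpanSingleton R H x) fun a ha => by
    rw [hx, Submodule.mem_colon_singleton] at ha; simpa using ha
  have hj : Function.Injective j := by
    rw [← LinearMap.ker_eq_bot, eq_bot_iff]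
    intro y hy
    obtain ⟨a, rfl⟩ := Submodule.mkQ_surjective p y
    rw [Submodule.mem_bot, Submodule.mkQ_apply, Submodule.Quotient.mk_eq_zero, hx,
      Submodule.mem_colon_singleton]
    exact hy
  have h0 : ∀ y, (b • ψ) y = 0 := fun y => by
    have h1 : θ y = 0 := hj ((LinearMap.congr_fun (Subsingleton.elim (j ∘ₗ θ) 0) y).trans (map_zero j).symm)
    have h2 : (b • ψ).codRestrict _ hrange y = (0 : LinearMap.range ι) :=
      (LinearEquiv.ofInjective ι hιinj).symm.injective (h1.trans (map_zero _).symm)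
    exact congrArg Subtype.val h2
  have hψ : ∀ y, ψ y = 0 := fun y => by
    have := h0 y
    rw [LinearMap.smul_apply, Algebra.smul_def] at this
    exact (mul_eq_zero.1 this).resolve_left hbne
  refine hφ ?_
  suffices key : ∀ w, φ w = 0 from key v
  intro w
  clear hv hφ
  induction w using TensorProduct.induction_on with
  | zero => exact map_zero φ
  | add a b ha hb => rw [map_add, ha, hb, add_zero]
  | tmul c y =>
    rw [show c ⊗ₜ[R] y = c • ((1 : p.ResidueField) ⊗ₜ[R] y) by
      rw [TensorProduct.smul_tmul', smul_eq_mul, mul_one], map_smul]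
    exact (congrArg (c • ·) (hψ y)).trans (smul_zero c)

theorem mul_comm_of_torsion {I : Ideal R} {R' : Type u} [Ring R'] [Algebra R R']
    (hcoker : LocCoh.IsPowerTorsion I (R' ⧸ LinearMap.range (Algebra.linearMap R R')))
    (htf : DRing.torsionSub I R' = ⊥) (x y : R') : x * y = y * x := by
  rw [← sub_eq_zero]
  obtain ⟨n, hn⟩ := hcoker (Submodule.Quotient.mk x)
  refine htf.le ⟨n, fun a ha => ?_⟩
  have := hn a ha
  rw [← Submodule.Quotient.mk_smul, Submodule.Quotient.mk_eq_zero] at this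
  obtain ⟨r, hr⟩ := this
  rw [smul_sub, ← smul_mul_assoc, ← mul_smul_comm, ← hr, Algebra.linearMap_apply,
    Algebra.commutes, sub_self]

theorem artinian_of_principal {a : R} {M : Type v} [AddCommGroup M] [Module R M]
    (hM : ∀ m : M, ∃ n : ℕ, a ^ n • m = 0)
    [IsArtinian R (LocCoh.torsionBy (Ideal.span {a}) M)] : IsArtinian R M := by
  constructor
  rw [RelEmbedding.wellFounded_iff_isEmpty]
  refine ⟨fun N => ?_⟩
  have hanti : ∀ {i j}, i ≤ j → N j ≤ N i := fun {i j} hij => by
    rcases hij.lt_or_eq with h | rfl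
    · exact (N.map_rel_iff.2 h).le
    · exact le_rfl
  let A : ℕ → ℕ → Submodule R (LocCoh.torsionBy (Ideal.span {a}) M) := fun k i =>
    Submodule.comap (Submodule.subtype _)
      (Submodule.map (LinearMap.lsmul R M (a ^ i))
        (N k ⊓ LinearMap.ker (LinearMap.lsmul R M (a ^ (i + 1)))))
  have hi : ∀ k, ∀ {i j}, i ≤ j → A k j ≤ A k i := fun k {i j} hij z hz => by
    obtain ⟨y, ⟨hy, hy0⟩, hyz⟩ := hz
    refine ⟨a ^ (j - i) • y, ⟨(N k).smul_mem _ hy, ?_⟩, ?_⟩
    · simp only [SetLike.mem_coe, LinearMap.mem_ker, LinearMap.lsmul_apply, smul_smul, ← pow_add] at hy0 ⊢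
      rwa [show i + 1 + (j - i) = j + 1 by omega]
    · simp only [LinearMap.lsmul_apply, smul_smul, ← pow_add] at hyz ⊢
      rwa [show i + (j - i) = j by omega]
  have hk : ∀ i, ∀ {k l}, k ≤ l → A l i ≤ A k i := fun i {k l} hkl =>
    Submodule.comap_mono (Submodule.map_mono (inf_le_inf_right _ (hanti hkl)))
  obtain ⟨_, ⟨⟨k₀, i₀⟩, rfl⟩, hmin⟩ := IsWellFounded.wf.has_min (r := (· < ·))
    (Set.range fun p : ℕ × ℕ => A p.1 p.2) ⟨_, ⟨(0, 0), rfl⟩⟩
  have hconst : ∀ k i, k₀ ≤ k → i₀ ≤ i → A k i = A k₀ i₀ := fun k i hkk hii =>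
    eq_of_le_of_not_lt ((hk i hkk).trans (hi k₀ hii)) (hmin _ ⟨(k, i), rfl⟩)
  have hstab : ∀ i, ∃ K, ∀ k, K ≤ k → A k i = A K i := fun i => by
    obtain ⟨_, ⟨K, rfl⟩, hK⟩ := IsWellFounded.wf.has_min (r := (· < ·))
      (Set.range fun k => A k i) ⟨_, ⟨0, rfl⟩⟩
    exact ⟨K, fun k hKk => eq_of_le_of_not_lt (hk i hKk) (hK _ ⟨k, rfl⟩)⟩
  choose K hK using hstab
  let L := max k₀ ((Finset.range i₀).sup K)
  have heq : ∀ i, A L i = A (L + 1) i := fun i => by
    by_cases h : i₀ ≤ i
    · rw [hconst L i (le_max_left _ _) h,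
        hconst (L + 1) i ((le_max_left _ _).trans L.le_succ) h]
    · have : K i ≤ L := le_trans (Finset.le_sup (Finset.mem_range.2 (by omega))) (le_max_right _ _)
      rw [hK i L this, hK i (L + 1) (by omega)]
  have key : ∀ (n : ℕ) (x : M), x ∈ N L → a ^ n • x = 0 → x ∈ N (L + 1) := by
    intro n
    induction n with
    | zero => intro x _ hx; simp only [pow_zero, one_smul] at hx; simp [hx]
    | succ n ih =>
      intro x hx hx0
      have hm : a ^ n • x ∈ LocCoh.torsionBy (Ideal.span {a}) M := mem_torsionBy.2 fun c hc => by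
        obtain ⟨d, rfl⟩ := Ideal.mem_span_singleton'.1 hc
        rw [smul_smul, mul_assoc, ← pow_succ', mul_smul, hx0, smul_zero]
      have : (⟨_, hm⟩ : LocCoh.torsionBy (Ideal.span {a}) M) ∈ A (L + 1) n :=
        heq n ▸ ⟨x, ⟨hx, hx0⟩, rfl⟩
      obtain ⟨y, ⟨hy, -⟩, hyx⟩ := this
      simp only [LinearMap.lsmul_apply, Submodule.subtype_apply] at hyx
      have := ih (x - y) ((N L).sub_mem hx (hanti L.le_succ hy))
        (by rw [smul_sub, hyx, sub_self])
      simpa using (N (L + 1)).add_mem this hy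
  refine (N.map_rel_iff.2 (Nat.lt_succ_self L)).not_ge fun x hx => ?_
  obtain ⟨n, hn⟩ := hM x
  exact key n x hx hn

theorem artinian_of_torsionBy {M : Type v} [AddCommGroup M] [Module R M] {a : Ideal R}
    (ha : a.FG) (hM : LocCoh.IsPowerTorsion a M) (hA : IsArtinian R (LocCoh.torsionBy a M)) :
    IsArtinian R M := by
  induction a, ha using Submodule.fg_induction generalizing M with
  | singleton x =>
    refine artinian_of_principal (a := x) fun m => ?_
    obtain ⟨n, hn⟩ := hM m
    exact ⟨n, hn _ (Ideal.pow_mem_pow (Ideal.mem_span_singleton_self x) n)⟩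
  | sup a₁ a₂ _ _ h₁ h₂ =>
    refine h₁ (fun m => ?_) (h₂ (fun m => ?_) ?_)
    · obtain ⟨n, hn⟩ := hM m
      exact ⟨n, fun c hc => hn c (Ideal.pow_right_mono le_sup_left n hc)⟩
    · obtain ⟨n, hn⟩ := hM m.1
      exact ⟨n, fun c hc => Subtype.ext (hn c (Ideal.pow_right_mono le_sup_right n hc))⟩
    · let g : LocCoh.torsionBy a₂ (LocCoh.torsionBy a₁ M) →ₗ[R] LocCoh.torsionBy (a₁ ⊔ a₂) M :=
        ((LocCoh.torsionBy a₁ M).subtype ∘ₗ Submodule.subtype _).codRestrict _ fun z =>
          mem_torsionBy.2 fun c hc => by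
            obtain ⟨p, hp, q, hq, rfl⟩ := Submodule.mem_sup.1 hc
            rw [add_smul]
            show p • z.1.1 + q • z.1.1 = 0
            rw [mem_torsionBy.1 z.1.2 p hp, show q • z.1.1 = 0 from
              congrArg Subtype.val (mem_torsionBy.1 z.2 q hq), add_zero]
      exact isArtinian_of_injective g fun p q hpq =>
        Subtype.ext (Subtype.ext (congrArg Subtype.val hpq :))

theorem ker_toDT {I : Ideal R} (M : Type u) [AddCommGroup M] [Module R M] :
    LinearMap.ker (LocCoh.toDT I M) = DRing.torsionSub I M := by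
  open CategoryTheory CategoryTheory.Limits Opposite in
  ext m
  rw [LinearMap.mem_ker, mem_torsionSub]
  set F := LocCoh.transformDiagram I
  let e := colimitObjIsoColimitCompEvaluation F (ModuleCat.of R M)
  let G := F ⋙ (evaluation _ _).obj (ModuleCat.of R M)
  have he : ∀ z, e.hom.hom ((colimit.ι F (op (op 0))).app (ModuleCat.of R M) z) =
      colimit.ι G (op (op 0)) z := fun z =>
    ConcreteCategory.congr_hom (colimitObjIsoColimitCompEvaluation_ι_app_hom F (op (op 0)) _) z
  have h0 : LocCoh.toDT I M m = 0 ↔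
      colimit.ι G (op (op 0)) (LocCoh.smulHom (I ^ 0) (ModuleCat.of R M) m) =
      colimit.ι G (op (op 0)) 0 := by
    rw [map_zero, ← he]
    exact ⟨fun h => (congrArg e.hom.hom h).trans (map_zero _),
      fun h => e.toLinearEquiv.injective (h.trans (map_zero _).symm)⟩
  haveI : IsFiltered ℕᵒᵖᵒᵖ := IsFiltered.of_equivalence (opOpEquivalence ℕ).symm
  haveI : PreservesFilteredColimitsOfSize.{0, 0} (forget (ModuleCat.{u} R)) :=
    preservesSmallestFilteredColimits_of_preservesFilteredColimits.{u, u} _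
  haveI : PreservesColimitsOfShape ℕᵒᵖᵒᵖ (forget (ModuleCat.{u} R)) :=
    PreservesFilteredColimitsOfSize.preserves_filtered_colimits _
  refine h0.trans ((Concrete.colimit_rep_eq_iff_exists G _ _).trans ?_)
  constructor
  · rintro ⟨k, f, g, hfg⟩
    refine ⟨k.unop.unop, fun a ha => ?_⟩
    rw [map_zero] at hfg
    exact LinearMap.congr_fun (congrArg ModuleCat.Hom.hom hfg) ⟨a, ha⟩
  · rintro ⟨n, hn⟩
    refine ⟨op (op n), (homOfLE (Nat.zero_le n)).op.op, (homOfLE (Nat.zero_le n)).op.op, ?_⟩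
    rw [map_zero]
    exact ModuleCat.hom_ext (LinearMap.ext fun a => hn a.1 a.2)

end Groth.L04
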