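import Groth.Agent.L04.InjLocal
import Mathlib.RingTheory.FiniteLength
import Mathlib.RingTheory.Length
import Mathlib.RingTheory.Artinian.Module

/-!
# The injective hull of the residue field of a local ring
-/

universe u v

namespace Groth.L04

open InjHull IsLocalRing

variable {R : Type u} [CommRing R] [IsLocalRing R] {E : Type u} [AddCommGroup E] [Module R E]
  {f : ResidueField R →ₗ[R] E} (hf : IsInjectiveHull f)

theorem residue_smul_eq (r : R) : r • (1 : ResidueField R) = residue R r := by
  rw [Algebra.smul_def, mul_one]; rfl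

theorem smul_residueField_eq_zero {a : R} (ha : a ∈ maximalIdeal R) (c : ResidueField R) :
    a • c = 0 := by
  rw [Algebra.smul_def, show algebraMap R (ResidueField R) a = residue R a from rfl,
    (residue_eq_zero_iff a).2 ha, zero_mul]

theorem exists_smul_one_eq (c : ResidueField R) : ∃ r : R, r • (1 : ResidueField R) = c := by
  obtain ⟨r, rfl⟩ := residue_surjective c
  exact ⟨r, residue_smul_eq r⟩

include hf

theorem hull_one_ne_zero : f 1 ≠ 0 := fun h =>
  one_ne_zero (hf.injective (by rw [h, map_zero]) : (1 : ResidueField R) = 0)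

/-- The socle of the hull is the image of the residue field. -/
theorem mem_range_of_killed {x : E} (hx : ∀ a ∈ maximalIdeal R, a • x = 0) :
    x ∈ LinearMap.range f := by
  rcases eq_or_ne x 0 with rfl | hx0
  · exact zero_mem _
  obtain ⟨r, hr, hr0⟩ := smul_of_isEssentialInj hf.toIsEssentialInj x hx0
  by_cases hu : IsUnit r
  · obtain ⟨u, rfl⟩ := hu
    have := (LinearMap.range f).smul_mem (↑u⁻¹ : R) hr
    rwa [smul_smul, Units.inv_mul, one_smul] at this
  · exact absurd (hx r ((mem_maximalIdeal r).2 hu)) hr0

theorem exists_smul_of_killed {x : E} (hx : ∀ a ∈ maximalIdeal R, a • x = 0) :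
    ∃ r : R, x = r • f 1 := by
  obtain ⟨c, rfl⟩ := mem_range_of_killed hf hx
  obtain ⟨r, rfl⟩ := exists_smul_one_eq c
  exact ⟨r, map_smul f r 1⟩

theorem exists_hom_ne_zero {M : Type u} [AddCommGroup M] [Module R M] {x : M} (hx : x ≠ 0) :
    ∃ φ : M →ₗ[R] E, φ x ≠ 0 := by
  let g : (Submodule.span R {x}) →ₗ[R] E :=
    ((LinearMap.ker (LinearMap.toSpanSingleton R M x)).liftQ
      (LinearMap.toSpanSingleton R E (f 1)) (fun r hr => by
        have hne : r ∈ maximalIdeal R := by
          rw [mem_maximalIdeal]
          intro hu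
          exact hx (hu.smul_eq_zero.1 (by simpa using hr))
        simp [← map_smul, smul_residueField_eq_zero hne])) ∘ₗ
      ((LinearMap.toSpanSingleton R M x).quotKerEquivRange.symm.toLinearMap ∘ₗ
        (LinearEquiv.ofEq _ _ (LinearMap.range_toSpanSingleton (R := R) x).symm).toLinearMap)
  obtain ⟨h, hh⟩ := hf.isInjective.out (Submodule.span R {x}).subtype
    (Submodule.injective_subtype _) g
  refine ⟨h, ?_⟩
  have h1 : h x = g ⟨x, Submodule.mem_span_singleton_self x⟩ := hh ⟨x, _⟩
  rw [h1]
  have hmem : (LinearMap.toSpanSingleton R M x) 1 ∈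
      LinearMap.range (LinearMap.toSpanSingleton R M x) := ⟨1, rfl⟩
  have e : (LinearEquiv.ofEq _ _ (LinearMap.range_toSpanSingleton (R := R) x).symm)
      ⟨x, Submodule.mem_span_singleton_self x⟩ =
      ⟨(LinearMap.toSpanSingleton R M x) 1, hmem⟩ := Subtype.ext (by simp)
  simp only [g, LinearMap.comp_apply, LinearEquiv.coe_coe]
  rw [e, LinearMap.quotKerEquivRange_symm_apply_image, Submodule.mkQ_apply, Submodule.liftQ_apply]
  simpa using hull_one_ne_zero hf

theorem applyₗ_injective (M : Type u) [AddCommGroup M] [Module R M] :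
    Function.Injective (LinearMap.applyₗ : M →ₗ[R] (M →ₗ[R] E) →ₗ[R] E) := by
  rw [← LinearMap.ker_eq_bot, eq_bot_iff]
  intro x hx
  by_contra hne
  obtain ⟨φ, hφ⟩ := exists_hom_ne_zero hf (x := x) (by simpa using hne)
  exact hφ (LinearMap.congr_fun hx φ)

theorem annihilator_dual_eq (M : Type u) [AddCommGroup M] [Module R M] :
    Module.annihilator R M = Module.annihilator R (M →ₗ[R] E) := by
  refine le_antisymm (fun a ha => ?_) fun a ha => ?_
  · rw [Module.mem_annihilator] at ha ⊢
    exact fun φ => LinearMap.ext fun m => by simp [← map_smul, ha]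
  · rw [Module.mem_annihilator] at ha ⊢
    intro m
    refine applyₗ_injective hf M (LinearMap.ext fun φ => ?_)
    have := LinearMap.congr_fun (ha φ) m
    simp only [LinearMap.smul_apply, LinearMap.zero_apply] at this
    simpa using this

theorem length_hom_residueField : Module.length R (ResidueField R →ₗ[R] E) = 1 := by
  let e : ResidueField R →ₗ[R] (ResidueField R →ₗ[R] E) :=
    (LinearMap.llcomp R (ResidueField R) (ResidueField R) E f) ∘ₗ
      LinearMap.mul R (ResidueField R)
  have he : Function.Bijective e := by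
    refine ⟨fun a b hab => ?_, fun φ => ?_⟩
    · have := LinearMap.congr_fun hab 1
      simp only [e, LinearMap.comp_apply, LinearMap.llcomp_apply, LinearMap.mul_apply',
        mul_one] at this
      exact hf.injective this
    · obtain ⟨c, hc⟩ := mem_range_of_killed hf (x := φ 1) fun a ha => by
        rw [← map_smul, smul_residueField_eq_zero ha, map_zero]
      refine ⟨c, LinearMap.ext fun x => ?_⟩
      obtain ⟨r, rfl⟩ := exists_smul_one_eq x
      rw [map_smul φ, ← hc, ← map_smul f]
      simp [e]
  rw [← (LinearEquiv.ofBijective e he).length_eq]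
  have : IsSimpleModule R (R ⧸ maximalIdeal R) :=
    isSimpleModule_iff_isCoatom.2 (maximalIdeal.isMaximal R).out
  exact Module.length_eq_one R (R ⧸ maximalIdeal R)

omit hf

theorem simpleModule_equiv_residueField (M : Type v) [AddCommGroup M] [Module R M]
    [IsSimpleModule R M] : Nonempty (M ≃ₗ[R] ResidueField R) := by
  obtain ⟨I, hI, ⟨e⟩⟩ := isSimpleModule_iff_quot_maximal.1 (inferInstance : IsSimpleModule R M)
  obtain rfl := eq_maximalIdeal hI
  exact ⟨e⟩

include hf

theorem length_hom_eq {M : Type u} [AddCommGroup M] [Module R M] (hM : IsFiniteLength R M) :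
    Module.length R (M →ₗ[R] E) = Module.length R M := by
  induction hM with
  | of_subsingleton => rw [Module.length_eq_zero, Module.length_eq_zero]
  | @of_simple_quotient M _ _ N hs _ ih =>
    obtain ⟨e⟩ := simpleModule_equiv_residueField (R := R) (M ⧸ N)
    have hsurj : Function.Surjective (LinearMap.lcomp R E N.subtype) := fun φ => by
      obtain ⟨h, hh⟩ := hf.isInjective.out N.subtype N.injective_subtype φ
      exact ⟨h, LinearMap.ext hh⟩
    have hinj : Function.Injective (LinearMap.lcomp R E N.mkQ) := fun a b hab =>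
      LinearMap.ext fun x => by
        obtain ⟨x, rfl⟩ := N.mkQ_surjective x
        exact LinearMap.congr_fun hab x
    have hex : Function.Exact (LinearMap.lcomp R E N.mkQ) (LinearMap.lcomp R E N.subtype) := by
      intro φ
      refine ⟨fun h => ⟨N.liftQ φ fun x hx => LinearMap.congr_fun h ⟨x, hx⟩, ?_⟩, ?_⟩
      · ext; rfl
      · rintro ⟨ψ, rfl⟩; ext x; simp [(Submodule.Quotient.mk_eq_zero N).2 x.2]
    rw [Module.length_eq_add_of_exact _ _ hinj hsurj hex, ih,
      Module.length_eq_add_of_exact N.subtype N.mkQ N.injective_subtype N.mkQ_surjective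
        (LinearMap.exact_subtype_mkQ N), Module.length_eq_one R (M ⧸ N),
      (LinearEquiv.congrLeft E R e).length_eq, length_hom_residueField hf, add_comm]

theorem isFiniteLength_hom {M : Type u} [AddCommGroup M] [Module R M] (hM : IsFiniteLength R M) :
    IsFiniteLength R (M →ₗ[R] E) :=
  Module.length_ne_top_iff.1 (by rw [length_hom_eq hf hM]; exact Module.length_ne_top_iff.2 hM)

omit hf

/-- An injective linear map between modules of the same finite length is bijective. -/
theorem bijective_of_length_le {M N : Type*} [AddCommGroup M] [Module R M] [AddCommGroup N]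
    [Module R N] (g : M →ₗ[R] N) (hg : Function.Injective g) (hM : IsFiniteLength R M)
    (h : Module.length R N ≤ Module.length R M) : Function.Bijective g := by
  refine ⟨hg, ?_⟩
  have h1 := Module.length_eq_add_of_exact g (LinearMap.range g).mkQ hg
    (Submodule.mkQ_surjective _) (LinearMap.exact_map_mkQ_range g)
  rw [h1] at h
  have h0 : Module.length R (N ⧸ LinearMap.range g) = 0 :=
    le_antisymm ((ENat.add_le_add_iff_left (Module.length_ne_top_iff.2 hM)).1
      (by rwa [add_zero])) bot_le
  rw [Module.length_eq_zero_iff, Submodule.Quotient.subsingleton_iff] at h0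
  exact LinearMap.range_eq_top.1 h0

include hf

theorem applyₗ_bijective_of_isFiniteLength {M : Type u} [AddCommGroup M] [Module R M]
    (hM : IsFiniteLength R M) :
    Function.Bijective (LinearMap.applyₗ : M →ₗ[R] (M →ₗ[R] E) →ₗ[R] E) :=
  bijective_of_length_le _ (applyₗ_injective hf M) hM
    (by rw [length_hom_eq hf (isFiniteLength_hom hf hM), length_hom_eq hf hM])

omit hf

/-- Every nonzero element of a power torsion module has a nonzero multiple killed by `J`. -/
theorem exists_smul_killed {J : Ideal R} {M : Type v} [AddCommGroup M] [Module R M]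
    (hM : LocCoh.IsPowerTorsion J M) {x : M} (hx : x ≠ 0) :
    ∃ r : R, r • x ≠ 0 ∧ ∀ a ∈ J, a • r • x = 0 := by
  obtain ⟨n, hn⟩ := hM x
  induction n with
  | zero => exact absurd (by simpa using hn 1 (by simp)) hx
  | succ n ih =>
    by_cases h : ∀ a ∈ J ^ n, a • x = 0
    · exact ih h
    · push Not at h
      obtain ⟨r, hr, hr0⟩ := h
      refine ⟨r, hr0, fun a ha => ?_⟩
      rw [← mul_smul]
      exact hn _ (by rw [pow_succ']; exact Ideal.mul_mem_mul ha hr)

theorem injective_of_socle {M N : Type v} [AddCommGroup M] [Module R M] [AddCommGroup N]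
    [Module R N] {J : Ideal R} (hM : LocCoh.IsPowerTorsion J M) (g : M →ₗ[R] N)
    (h : ∀ x : M, (∀ a ∈ J, a • x = 0) → g x = 0 → x = 0) : Function.Injective g := by
  rw [← LinearMap.ker_eq_bot, eq_bot_iff]
  intro x hx
  by_contra hne
  obtain ⟨r, hr0, hr⟩ := exists_smul_killed hM (x := x) (by simpa using hne)
  exact hr0 (h _ hr (by rw [map_smul, LinearMap.mem_ker.1 hx, smul_zero]))

include hf

theorem exists_embedding_pi {M : Type u} [AddCommGroup M] [Module R M]
    (hM : LocCoh.IsPowerTorsion (maximalIdeal R) M) (n : ℕ)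
    [Module.Finite (R ⧸ maximalIdeal R) ↥(LocCoh.torsionBy (maximalIdeal R) M)]
    (hn : Module.finrank (R ⧸ maximalIdeal R) ↥(LocCoh.torsionBy (maximalIdeal R) M) = n) :
    ∃ g : M →ₗ[R] (Fin n → E), Function.Injective g := by
  letI : Field (R ⧸ maximalIdeal R) := Ideal.Quotient.field _
  let b := Module.finBasisOfFinrankEq _ _ hn
  let e : ↥(LocCoh.torsionBy (maximalIdeal R) M) ≃ₗ[R] (Fin n → (R ⧸ maximalIdeal R)) :=
    b.equivFun.restrictScalars R
  let i : ↥(LocCoh.torsionBy (maximalIdeal R) M) →ₗ[R] (Fin n → E) :=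
    (LinearMap.compLeft f (Fin n)) ∘ₗ e.toLinearMap
  have hi : Function.Injective i := (hf.injective.comp_left).comp e.injective
  haveI := hf.isInjective
  obtain ⟨g, hg⟩ := Module.Injective.out (R := R) (Q := Fin n → E)
    (LocCoh.torsionBy (maximalIdeal R) M).subtype (Submodule.injective_subtype _) i
  refine ⟨g, injective_of_socle hM g fun x hx hgx => ?_⟩
  have hxm : x ∈ LocCoh.torsionBy (maximalIdeal R) M := by
    rw [Submodule.mem_torsionBySet_iff]; exact fun a => hx a a.2
  exact congrArg Subtype.val
    (hi ((hg ⟨x, hxm⟩).symm.trans (by simpa using hgx) |>.trans (map_zero i).symm) :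
      (⟨x, hxm⟩ : LocCoh.torsionBy (maximalIdeal R) M) = 0)

theorem hull_isPowerTorsion [IsNoetherianRing R] : LocCoh.IsPowerTorsion (maximalIdeal R) E :=
  mem_torsion_of_isInjectiveHull hf fun c =>
    ⟨1, fun a ha => smul_residueField_eq_zero (by simpa using ha) c⟩

end Groth.L04
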