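import Groth.Agent.L04.Matlis
import Mathlib.RingTheory.ReesAlgebra
import Mathlib.RingTheory.HopkinsLevitzki

/-!
# The injective hull of the residue field is Artinian
-/

universe u v

namespace Groth.L04

open InjHull IsLocalRing Polynomial

variable {R : Type u} [CommRing R] [IsLocalRing R] {E : Type u} [AddCommGroup E] [Module R E]

/-- The elements of `m ^ n` killing the part of `N` killed by `m ^ (n + 1)`. -/
def leadAnn (N : Submodule R E) (n : ℕ) : Ideal R :=
  maximalIdeal R ^ n ⊓ Module.annihilator R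
    ↥(N ⊓ Submodule.torsionBySet R E ((maximalIdeal R ^ (n + 1) : Ideal R) : Set R))

theorem mem_leadAnn {N : Submodule R E} {n : ℕ} {a : R} :
    a ∈ leadAnn N n ↔ a ∈ maximalIdeal R ^ n ∧
      ∀ y ∈ N, (∀ b ∈ maximalIdeal R ^ (n + 1), b • y = 0) → a • y = 0 := by
  simp only [leadAnn, Submodule.mem_inf, Module.mem_annihilator]
  refine and_congr_right fun _ => ⟨fun h y hy hy' => ?_, fun h y => ?_⟩
  · exact congrArg Subtype.val
      (h ⟨y, hy, (Submodule.mem_torsionBySet_iff _ _).2 fun b => hy' b b.2⟩)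
  · exact Subtype.ext (h y y.2.1 fun b hb => (Submodule.mem_torsionBySet_iff _ _).1 y.2.2 ⟨b, hb⟩)

theorem mul_mem_leadAnn {N : Submodule R E} {j k : ℕ} {a c : R} (hc : c ∈ maximalIdeal R ^ j)
    (ha : a ∈ leadAnn N k) : c * a ∈ leadAnn N (j + k) := by
  rw [mem_leadAnn] at ha ⊢
  refine ⟨by rw [pow_add]; exact Ideal.mul_mem_mul hc ha.1, fun y hy hy' => ?_⟩
  rw [mul_comm, mul_smul]
  refine ha.2 _ (N.smul_mem c hy) fun b hb => ?_
  rw [← mul_smul]
  refine hy' _ ?_
  rw [mul_comm b, add_assoc, pow_add]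
  exact Ideal.mul_mem_mul hc hb

theorem leadAnn_anti {N N' : Submodule R E} (h : N' ≤ N) (n : ℕ) : leadAnn N n ≤ leadAnn N' n := by
  intro a ha
  rw [mem_leadAnn] at ha ⊢
  exact ⟨ha.1, fun y hy => ha.2 y (h hy)⟩

/-- The leading annihilators as an ideal of the Rees algebra. -/
def leadIdeal (N : Submodule R E) : Ideal (reesAlgebra (maximalIdeal R)) where
  carrier := {f | ∀ i, (f : R[X]).coeff i ∈ leadAnn N i}
  zero_mem' i := by simp
  add_mem' hf hg i := by simpa using add_mem (hf i) (hg i)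
  smul_mem' c f hf i := by
    simp only [smul_eq_mul, MulMemClass.coe_mul, Polynomial.coeff_mul]
    refine sum_mem fun x hx => ?_
    rw [← Finset.mem_antidiagonal.1 hx]
    exact mul_mem_leadAnn ((mem_reesAlgebra_iff _ _).1 c.2 _) (hf _)

variable {f : ResidueField R →ₗ[R] E} (hf : IsInjectiveHull f)

include hf

theorem le_of_leadAnn_eq [IsNoetherianRing R] {N N' : Submodule R E} (hle : N' ≤ N)
    (h : ∀ n, leadAnn N' n ≤ leadAnn N n) : N ≤ N' := by
  suffices key : ∀ n, ∀ x ∈ N, (∀ b ∈ maximalIdeal R ^ n, b • x = 0) → x ∈ N' by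
    intro x hx
    obtain ⟨n, hn⟩ := hull_isPowerTorsion hf x
    exact key n x hx hn
  intro n
  induction n with
  | zero =>
    intro x _ hx0
    have hx : x = 0 := by simpa using hx0 1 (by simp)
    exact hx ▸ zero_mem _
  | succ n ih =>
    intro x hx hxk
    let P : Submodule R E :=
      N' ⊓ Submodule.torsionBySet R E ((maximalIdeal R ^ (n + 1) : Ideal R) : Set R)
    have hP : ∀ y ∈ P, ∀ a : (maximalIdeal R ^ n : Ideal R), (a : R) • y ∈ LinearMap.range f :=
      fun y hy a => mem_range_of_killed hf fun b hb => by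
        rw [← mul_smul]
        refine (Submodule.mem_torsionBySet_iff _ _).1 hy.2 ⟨_, ?_⟩
        rw [pow_succ']; exact Ideal.mul_mem_mul hb a.2
    let Φ : P →ₗ[R] ((maximalIdeal R ^ n : Ideal R) →ₗ[R] LinearMap.range f) :=
      LinearMap.mk₂ R (fun (y : P) a => (⟨(a : R) • (y : E), hP y y.2 a⟩ : LinearMap.range f))
        (fun y y' a => Subtype.ext (smul_add (a : R) (y : E) y'))
        (fun c y a => Subtype.ext (smul_comm (a : R) c (y : E)))
        (fun y a a' => Subtype.ext (add_smul (a : R) a' (y : E)))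
        (fun c y a => Subtype.ext (mul_smul c (a : R) (y : E)))
    obtain ⟨k, w, hw⟩ := Submodule.fg_iff_exists_fin_generating_family.1
      (IsNoetherian.noetherian (LinearMap.range Φ))
    have hw' : ∀ j, ∃ y : P, Φ y = w j := fun j =>
      LinearMap.mem_range.1 (hw.le (Submodule.subset_span ⟨j, rfl⟩))
    choose y hy using hw'
    let φ : (maximalIdeal R ^ n : Ideal R) →ₗ[R] (Fin k → E) :=
      LinearMap.pi fun j => (LinearMap.range f).subtype ∘ₗ Φ (y j)
    let ψ : (maximalIdeal R ^ n : Ideal R) →ₗ[R] E :=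
      (LinearMap.toSpanSingleton R E x) ∘ₗ Submodule.subtype _
    have hker : LinearMap.ker φ ≤ LinearMap.ker ψ := fun a ha => by
      have hz : ∀ z ∈ LinearMap.range Φ, z a = 0 := fun z hz => by
        rw [← hw] at hz
        induction hz using Submodule.span_induction with
        | mem z hz =>
          obtain ⟨j, rfl⟩ := hz
          rw [← hy]
          exact Subtype.ext (congrFun ha j)
        | zero => rfl
        | add p q _ _ hp hq => simp [hp, hq]
        | smul c p _ hp => simp [hp]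
      have : (a : R) ∈ leadAnn N' n := mem_leadAnn.2 ⟨a.2, fun z hzN hzk =>
        congrArg Subtype.val (hz (Φ ⟨z, hzN, (Submodule.mem_torsionBySet_iff _ _).2
          fun b => hzk b b.2⟩) ⟨_, rfl⟩)⟩
      exact (mem_leadAnn.1 (h n this)).2 x hx hxk
    obtain ⟨g, hg⟩ := hf.isInjective.out (LinearMap.range φ).subtype (Submodule.injective_subtype _)
      ((LinearMap.ker φ).liftQ ψ hker ∘ₗ φ.quotKerEquivRange.symm.toLinearMap)
    have hgφ : ∀ a, g (φ a) = (a : R) • x := fun a => by
      refine (hg ⟨φ a, LinearMap.mem_range_self φ a⟩).trans ?_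
      simp only [LinearMap.comp_apply, LinearEquiv.coe_coe]
      rw [LinearMap.quotKerEquivRange_symm_apply_image, Submodule.mkQ_apply, Submodule.liftQ_apply]
      rfl
    have hd : ∀ j, ∃ d : R, g (LinearMap.single R (fun _ : Fin k => E) j (f 1)) = d • f 1 :=
      fun j => exists_smul_of_killed hf fun a ha => by
        rw [← map_smul, ← map_smul, ← map_smul f, smul_residueField_eq_zero ha, map_zero,
          map_zero, map_zero]
    choose d hd using hd
    let z : E := ∑ j, d j • (y j : E)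
    have hzN' : z ∈ N' := sum_mem fun j _ => N'.smul_mem _ (y j).2.1
    have hxz : x - z ∈ N' := by
      refine ih _ (sub_mem hx (hle hzN')) fun a ha => ?_
      rw [smul_sub, sub_eq_zero, ← hgφ ⟨a, ha⟩, ← Finset.univ_sum_single (φ ⟨a, ha⟩), map_sum,
        Finset.smul_sum]
      refine Finset.sum_congr rfl fun j _ => ?_
      obtain ⟨c, hc⟩ := (Φ (y j) ⟨a, ha⟩).2
      obtain ⟨r, rfl⟩ := exists_smul_one_eq c
      have hφ : φ ⟨a, ha⟩ j = r • f 1 := by rw [← map_smul, hc]; rfl
      have ha' : a • (y j : E) = r • f 1 := by rw [← map_smul, hc]; rfl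
      rw [hφ, Pi.single_smul', map_smul]
      exact (congrArg (r • ·) (hd j)).trans (by rw [smul_comm a (d j), ha', smul_comm r (d j)])
    simpa using add_mem hxz hzN'

theorem hull_isArtinian [IsNoetherianRing R] : IsArtinian R E := by
  rw [← monotone_stabilizes_iff_artinian]
  intro c
  obtain ⟨n₀, hn⟩ := monotone_stabilizes_iff_noetherian.2
    (inferInstance : IsNoetherian (reesAlgebra (maximalIdeal R)) (reesAlgebra (maximalIdeal R)))
    ⟨fun i => leadIdeal (OrderDual.ofDual (c i)),
      fun i j hij g hg k => leadAnn_anti (c.monotone hij) k (hg k)⟩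
  refine ⟨n₀, fun m hm => ?_⟩
  refine le_antisymm (c.monotone hm) ?_
  refine le_of_leadAnn_eq hf (c.monotone hm) fun n a ha => ?_
  have hmem : (⟨monomial n a, reesAlgebra.monomial_mem.2 (mem_leadAnn.1 ha).1⟩ :
      reesAlgebra (maximalIdeal R)) ∈ leadIdeal (OrderDual.ofDual (c m)) := fun i => by
    rw [coeff_monomial]
    split_ifs with h
    · exact h ▸ ha
    · exact zero_mem _
  have := ((hn m hm).ge hmem) n
  rwa [coeff_monomial, if_pos rfl] at this

omit hf

theorem isPowerTorsion_of_isArtinian {M : Type v} [AddCommGroup M] [Module R M] [IsArtinian R M]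
    [IsNoetherianRing R] : LocCoh.IsPowerTorsion (maximalIdeal R) M := by
  intro x
  set I := LinearMap.ker (LinearMap.toSpanSingleton R M x)
  have hAr : IsArtinian R (R ⧸ I) :=
    isArtinian_of_injective (I.liftQ (LinearMap.toSpanSingleton R M x) le_rfl)
      (LinearMap.ker_eq_bot.1 (Submodule.ker_liftQ_eq_bot _ _ _ le_rfl))
  by_cases hI : I = ⊤
  · exact ⟨0, fun a _ => (hI.ge trivial : a ∈ I)⟩
  haveI : Nontrivial (R ⧸ I) := Ideal.Quotient.nontrivial_iff.2 hI
  haveI : IsArtinianRing (R ⧸ I) := isArtinian_of_tower R hAr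
  haveI : IsLocalRing (R ⧸ I) :=
    IsLocalRing.of_surjective' (Ideal.Quotient.mk I) Ideal.Quotient.mk_surjective
  obtain ⟨n, hn⟩ := (isArtinianRing_iff_isNilpotent_maximalIdeal (R ⧸ I)).1 inferInstance
  refine ⟨n, fun a ha => ?_⟩
  have h1 : Ideal.Quotient.mk I a ∈ maximalIdeal (R ⧸ I) ^ n := by
    refine Ideal.pow_right_mono ?_ n (Ideal.map_pow (Ideal.Quotient.mk I) _ n ▸
      Ideal.mem_map_of_mem _ ha)
    rw [Ideal.map_le_iff_le_comap]
    intro b hb
    rw [Ideal.mem_comap, mem_maximalIdeal]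
    intro hu
    obtain ⟨c, hc⟩ := isUnit_iff_exists_inv.1 hu
    obtain ⟨c, rfl⟩ := Ideal.Quotient.mk_surjective c
    rw [← map_mul, ← map_one (Ideal.Quotient.mk I), Ideal.Quotient.eq] at hc
    refine hI (Ideal.eq_top_iff_one _ |>.2 ?_)
    have hbc : b * c ∈ maximalIdeal R := Ideal.mul_mem_right _ _ hb
    have h1 : IsUnit (b * c - 1) := by
      by_contra h
      exact (mem_maximalIdeal (1 : R)).1 (by simpa using sub_mem hbc ((mem_maximalIdeal _).2 h))
        isUnit_one
    exact (Ideal.eq_top_of_isUnit_mem I hc h1).ge trivial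
  rw [hn, Ideal.zero_eq_bot, Ideal.mem_bot, Ideal.Quotient.eq_zero_iff_mem] at h1
  exact h1

theorem socle_finite_of_isArtinian {M : Type v} [AddCommGroup M] [Module R M] [IsArtinian R M] :
    Module.Finite (R ⧸ maximalIdeal R) ↥(LocCoh.torsionBy (maximalIdeal R) M) := by
  letI : Field (R ⧸ maximalIdeal R) := Ideal.Quotient.field _
  haveI : IsArtinian (R ⧸ maximalIdeal R) ↥(LocCoh.torsionBy (maximalIdeal R) M) :=
    isArtinian_of_tower R inferInstance
  haveI : IsArtinianRing (R ⧸ maximalIdeal R) := inferInstance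
  have h := (IsArtinianRing.tfae (R ⧸ maximalIdeal R) ↥(LocCoh.torsionBy (maximalIdeal R) M)).out
    (n₁ := 2) (n₂ := 0) (a := IsArtinian (R ⧸ maximalIdeal R) ↥(LocCoh.torsionBy (maximalIdeal R) M))
    (b := Module.Finite (R ⧸ maximalIdeal R) ↥(LocCoh.torsionBy (maximalIdeal R) M)) rfl rfl
  exact h.1 inferInstance

include hf

theorem isArtinian_iff_torsion_socle [IsNoetherianRing R] (M : Type u) [AddCommGroup M]
    [Module R M] : IsArtinian R M ↔ LocCoh.IsPowerTorsion (maximalIdeal R) M ∧
      Module.Finite (R ⧸ maximalIdeal R) ↥(LocCoh.torsionBy (maximalIdeal R) M) := by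
  refine ⟨fun _ => ⟨isPowerTorsion_of_isArtinian, socle_finite_of_isArtinian⟩, fun ⟨h1, h2⟩ => ?_⟩
  obtain ⟨g, hg⟩ := exists_embedding_pi hf h1 _ rfl
  haveI := hull_isArtinian hf
  exact isArtinian_of_injective g hg

theorem isArtinian_hom [IsNoetherianRing R] (M : Type u) [AddCommGroup M] [Module R M]
    [Module.Finite R M] : IsArtinian R (M →ₗ[R] E) := by
  haveI := hull_isArtinian hf
  obtain ⟨n, s, hs⟩ := Module.Finite.exists_fin (R := R) (M := M)
  refine isArtinian_of_injective (LinearMap.pi fun j : Fin n => LinearMap.applyₗ (s j))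
    fun a b hab => LinearMap.ext_on_range hs fun j => congrFun hab j

end Groth.L04
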