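import Groth.Agent.L04.MatlisHull
import Mathlib.RingTheory.SimpleModule.InjectiveProjective
import Mathlib.RingTheory.Ideal.MinimalPrime.Noetherian
import Mathlib.Algebra.Category.ModuleCat.ChangeOfRings

/-!
# Coinduced injective hulls
-/

universe u v

namespace Groth.L04

open InjHull IsLocalRing

section Coind

variable {A B : Type u} [CommRing A] [CommRing B] [Algebra A B] {E : Type u} [AddCommGroup E]
  [Module A E] {H : Type u} [AddCommGroup H] [Module A H] [Module B H] [IsScalarTower A B H]

/-- The linear form `b ↦ ev (b • h)` attached to an element of a coinduced module. -/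
def coindToHom (ev : H →ₗ[A] E) (h : H) : B →ₗ[A] E :=
  ev ∘ₗ (LinearMap.toSpanSingleton B H h).restrictScalars A

@[simp] theorem coindToHom_apply (ev : H →ₗ[A] E) (h : H) (b : B) :
    coindToHom ev h b = ev (b • h) := rfl

variable {ev : H →ₗ[A] E} (hev : Function.Bijective (coindToHom (B := B) ev))

include hev

theorem coind_injective (hE : Module.Injective A E) : Module.Injective B H := by
  refine ⟨fun X Y _ _ _ _ i hi g => ?_⟩
  letI := Module.compHom X (algebraMap A B)
  letI := Module.compHom Y (algebraMap A B)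
  haveI : IsScalarTower A B X := IsScalarTower.of_algebraMap_smul fun _ _ => rfl
  haveI : IsScalarTower A B Y := IsScalarTower.of_algebraMap_smul fun _ _ => rfl
  obtain ⟨ψ, hψ⟩ := hE.out (i.restrictScalars A) hi (ev ∘ₗ g.restrictScalars A)
  choose G hG using fun y => hev.2 (ψ ∘ₗ (LinearMap.toSpanSingleton B Y y).restrictScalars A)
  refine ⟨{ toFun := G, map_add' := fun y z => ?_, map_smul' := fun c y => ?_ }, fun x => ?_⟩
  · apply hev.1
    refine LinearMap.ext fun b => ?_
    rw [hG, coindToHom_apply, smul_add, map_add, ← coindToHom_apply, ← coindToHom_apply, hG, hG]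
    simp
  · apply hev.1
    refine LinearMap.ext fun b => ?_
    rw [hG, coindToHom_apply, RingHom.id_apply, smul_smul, ← coindToHom_apply, hG]
    simp [smul_smul]
  · apply hev.1
    refine LinearMap.ext fun b => ?_
    show coindToHom ev (G (i x)) b = _
    rw [hG, coindToHom_apply]
    simp only [LinearMap.comp_apply, LinearMap.coe_restrictScalars,
      LinearMap.toSpanSingleton_apply, ← map_smul]
    exact hψ (b • x)

theorem coind_killed_iff {n : Ideal B} {h : H} :
    (∀ c ∈ n, c • h = 0) ↔ ∀ c ∈ n, coindToHom ev h c = 0 := by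
  refine ⟨fun hk c hc => by rw [coindToHom_apply, hk c hc, map_zero], fun hk c hc => ?_⟩
  apply hev.1
  refine LinearMap.ext fun b => ?_
  rw [coindToHom_apply, coindToHom_apply, smul_smul, smul_zero, map_zero]
  exact hk _ (n.mul_mem_left b hc)

variable [IsLocalRing A] [IsNoetherianRing A] {f : ResidueField A →ₗ[A] E} (hf : IsInjectiveHull f)

include hf

theorem exists_socle_coind (n : Ideal B) [n.IsMaximal] [Module.Finite A (B ⧸ n)] :
    ∃ g : (B ⧸ n) →ₗ[B] H, Function.Injective g ∧
      ∀ x : H, (∀ c ∈ n, c • x = 0) → x ∈ LinearMap.range g := by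
  letI : Field (B ⧸ n) := Ideal.Quotient.field n
  have hm : ∀ a ∈ maximalIdeal A, algebraMap A (B ⧸ n) a = 0 := by
    intro a ha
    have hmax : ((⊥ : Ideal (B ⧸ n)).comap (algebraMap A (B ⧸ n))).IsMaximal :=
      Ideal.isMaximal_comap_of_isIntegral_of_isMaximal _
    exact (Ideal.mem_bot).1 ((eq_maximalIdeal hmax).ge ha : a ∈ _)
  have hfl : IsFiniteLength A (B ⧸ n) := isFiniteLength_of_finite (N := 1) fun a ha x => by
    rw [Algebra.smul_def, hm a (by simpa using ha), zero_mul]
  let e := (Submodule.Quotient.restrictScalarsEquiv A n).symm.toLinearMap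
  let desc : (ψ : B →ₗ[A] E) → (∀ c ∈ n, ψ c = 0) → ((B ⧸ n) →ₗ[A] E) := fun ψ hψ =>
    (n.restrictScalars A).liftQ ψ (fun c hc => hψ c hc) ∘ₗ e
  have hdesc : ∀ (ψ : B →ₗ[A] E) (hψ : ∀ c ∈ n, ψ c = 0) (b : B),
      desc ψ hψ (Ideal.Quotient.mk n b) = ψ b := fun ψ hψ b => rfl
  obtain ⟨φ, hφ⟩ := exists_hom_ne_zero hf (x := (1 : B ⧸ n)) one_ne_zero
  obtain ⟨h₀, hh₀⟩ := hev.2 (φ ∘ₗ (Ideal.Quotient.mkₐ A n).toLinearMap)
  have hk₀ : ∀ c ∈ n, c • h₀ = 0 := (coind_killed_iff hev).2 fun c hc => by
    rw [hh₀]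
    simp [Ideal.Quotient.eq_zero_iff_mem.2 hc]
  have hne : h₀ ≠ 0 := fun h => hφ (by
    have := LinearMap.congr_fun hh₀ 1
    rw [coindToHom_apply, h, smul_zero, map_zero] at this
    simpa using this.symm)
  obtain ⟨g, hg, hg'⟩ := exists_hom_of_killed hne hk₀
  refine ⟨g, hg, fun x hx => ?_⟩
  let φ₀ := desc (coindToHom ev h₀) ((coind_killed_iff hev).1 hk₀)
  let μ : (B ⧸ n) →ₗ[A] ((B ⧸ n) →ₗ[A] E) :=
    (LinearMap.llcomp A (B ⧸ n) (B ⧸ n) E φ₀) ∘ₗ LinearMap.mul A (B ⧸ n)
  have hμ : Function.Injective μ := by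
    rw [← LinearMap.ker_eq_bot, eq_bot_iff]
    intro c hc
    rw [Submodule.mem_bot]
    by_contra hc0
    apply hne
    apply hev.1
    refine LinearMap.ext fun b => ?_
    have h1 := LinearMap.congr_fun (LinearMap.mem_ker.1 hc) (c⁻¹ * Ideal.Quotient.mk n b)
    simp only [μ, LinearMap.comp_apply, LinearMap.llcomp_apply, LinearMap.mul_apply',
      LinearMap.zero_apply, mul_inv_cancel_left₀ hc0, φ₀, hdesc] at h1
    rw [h1, coindToHom_apply, smul_zero, map_zero]
  have hb := bijective_of_length_le μ hμ hfl (length_hom_eq hf hfl).le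
  obtain ⟨c, hc⟩ := hb.2 (desc (coindToHom ev x) ((coind_killed_iff hev).1 hx))
  obtain ⟨c, rfl⟩ := Ideal.Quotient.mk_surjective c
  refine ⟨Ideal.Quotient.mk n c, ?_⟩
  rw [hg']
  apply hev.1
  refine LinearMap.ext fun b => ?_
  have h1 := LinearMap.congr_fun hc (Ideal.Quotient.mk n b)
  simp only [μ, LinearMap.comp_apply, LinearMap.llcomp_apply, LinearMap.mul_apply', φ₀, hdesc,
    ← map_mul] at h1
  rw [← h1, coindToHom_apply, coindToHom_apply, smul_smul, mul_comm]

theorem exists_isInjectiveHull_powTorsion [IsNoetherianRing B] (n : Ideal B) [n.IsMaximal]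
    [Module.Finite A (B ⧸ n)] :
    ∃ g : (B ⧸ n) →ₗ[B] powTorsion n H, IsInjectiveHull g := by
  obtain ⟨g, hg, hsoc⟩ := exists_socle_coind hev hf n
  let g' : (B ⧸ n) →ₗ[B] powTorsion n H := g.codRestrict _ fun x => mem_powTorsion.2
    ⟨1, fun a ha => by
      obtain ⟨b, rfl⟩ := Ideal.Quotient.mk_surjective x
      rw [← map_smul, ← Ideal.Quotient.mk_eq_mk, ← Submodule.Quotient.mk_smul,
        smul_eq_mul, (Submodule.Quotient.mk_eq_zero n).2 (n.mul_mem_right b (by simpa using ha)),
        map_zero]⟩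
  refine ⟨g', isInjectiveHull_of_injective (n := n) g' (fun a b hab => hg (congrArg Subtype.val hab))
    (injective_powTorsion (coind_injective hev hf.isInjective) n)
    (isPowerTorsion_powTorsion n H) fun x hx => ?_⟩
  obtain ⟨c, hc⟩ := hsoc x fun a ha => congrArg Subtype.val (hx a ha)
  exact ⟨c, Subtype.ext hc⟩

theorem exists_coind_killed [Module.Finite A B] (h : H) :
    ∃ N : ℕ, ∀ c ∈ ((maximalIdeal A).map (algebraMap A B)) ^ N, c • h = 0 := by
  classical
  obtain ⟨k, s, hs⟩ := Module.Finite.exists_fin (R := A) (M := B)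
  choose N hN using fun i => hull_isPowerTorsion hf (ev (s i • h))
  refine ⟨Finset.univ.sup N, fun c hc => ?_⟩
  have hle : (maximalIdeal A ^ Finset.univ.sup N).map (algebraMap A B) ≤
      LinearMap.ker (LinearMap.toSpanSingleton B H h) := by
    rw [Ideal.map_le_iff_le_comap]
    intro a ha
    show algebraMap A B a • h = 0
    apply hev.1
    have : (⊤ : Submodule A B) ≤
        LinearMap.ker (coindToHom ev (algebraMap A B a • h) : B →ₗ[A] E) := by
      rw [← hs, Submodule.span_le]
      rintro _ ⟨i, rfl⟩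
      show ev (s i • algebraMap A B a • h) = 0
      rw [smul_comm, algebraMap_smul, map_smul]
      exact hN i a (Ideal.pow_le_pow_right (Finset.le_sup (Finset.mem_univ i)) ha)
    refine LinearMap.ext fun b => ?_
    rw [show coindToHom ev (algebraMap A B a • h) b = 0 from this trivial, coindToHom_apply,
      smul_zero, map_zero]
  rw [Ideal.map_pow] at hle
  simpa using hle hc

end Coind

section Decomp

variable {A B : Type u} [CommRing A] [IsLocalRing A] [IsNoetherianRing A] [CommRing B] [Algebra A B]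
  [Module.Finite A B]

theorem maximalIdeal_map_le (n : Ideal B) [n.IsMaximal] :
    (maximalIdeal A).map (algebraMap A B) ≤ n := by
  rw [Ideal.map_le_iff_le_comap]
  exact (eq_maximalIdeal (Ideal.isMaximal_comap_of_isIntegral_of_isMaximal n)).ge

variable (A) in
include A in
theorem finite_maximalSpectrum : Finite (MaximalSpectrum B) := by
  haveI : IsNoetherianRing B := IsNoetherianRing.of_finite A B
  have hfin := Ideal.finite_minimalPrimes_of_isNoetherianRing B
    ((maximalIdeal A).map (algebraMap A B))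
  haveI := hfin.to_subtype
  refine Finite.of_injective (β := ((maximalIdeal A).map (algebraMap A B)).minimalPrimes)
    (fun n => ⟨n.asIdeal, ⟨⟨n.isMaximal.isPrime, ?_⟩, fun q hq hle => ?_⟩⟩)
    fun a b hab => MaximalSpectrum.ext (Subtype.mk.injEq _ _ _ _ |>.mp hab)
  · haveI := n.isMaximal; exact maximalIdeal_map_le n.asIdeal
  · haveI := hq.1
    have hc : q.comap (algebraMap A B) = maximalIdeal A :=
      le_antisymm (le_maximalIdeal (Ideal.IsPrime.comap _).ne_top)
        (Ideal.map_le_iff_le_comap.1 hq.2)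
    have hqm : q.IsMaximal := Ideal.isMaximal_of_isIntegral_of_isMaximal_comap q
      (hc ▸ maximalIdeal.isMaximal A)
    exact (hqm.eq_of_le n.isMaximal.ne_top hle).ge

theorem exists_iInf_pow_le (N : ℕ) : ∃ K : ℕ,
    (⨅ n : MaximalSpectrum B, n.asIdeal ^ K) ≤ ((maximalIdeal A).map (algebraMap A B)) ^ N := by
  classical
  haveI : IsNoetherianRing B := IsNoetherianRing.of_finite A B
  haveI := finite_maximalSpectrum A (B := B)
  haveI := Fintype.ofFinite (MaximalSpectrum B)
  obtain ⟨K, hK⟩ := Ideal.exists_radical_pow_le_of_fg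
    ((maximalIdeal A).map (algebraMap A B)) (IsNoetherian.noetherian _)
  refine ⟨K * N, ?_⟩
  have hco : ((Finset.univ : Finset (MaximalSpectrum B)) : Set (MaximalSpectrum B)).Pairwise
      fun i j => i.asIdeal ^ (K * N) ⊔ j.asIdeal ^ (K * N) = ⊤ := fun i _ j _ hij =>
    Ideal.pow_sup_pow_eq_top (i.isMaximal.coprime_of_ne j.isMaximal
      fun h => hij (MaximalSpectrum.ext h))
  have hprod : (⨅ n : MaximalSpectrum B, n.asIdeal ^ (K * N)) =
      (∏ n : MaximalSpectrum B, n.asIdeal) ^ (K * N) := by
    rw [← Finset.prod_pow, Ideal.prod_eq_iInf_of_pairwise_isCoprime]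
    · simp
    · intro i hi j hj hij
      exact Ideal.isCoprime_iff_sup_eq.2 (hco hi hj hij)
  rw [hprod, pow_mul]
  refine Ideal.pow_right_mono (le_trans (Ideal.pow_right_mono ?_ K) hK) N
  rw [Ideal.radical_eq_sInf]
  refine le_sInf ?_
  rintro q ⟨hq, hqp⟩
  haveI := hqp
  have hc : q.comap (algebraMap A B) = maximalIdeal A :=
    le_antisymm (le_maximalIdeal (Ideal.IsPrime.comap _).ne_top)
      (Ideal.map_le_iff_le_comap.1 hq)
  have hqm : q.IsMaximal := Ideal.isMaximal_of_isIntegral_of_isMaximal_comap q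
    (hc ▸ maximalIdeal.isMaximal A)
  exact le_trans Ideal.prod_le_inf (Finset.inf_le (Finset.mem_univ (⟨q, hqm⟩ : MaximalSpectrum B)))

variable (H : Type u) [AddCommGroup H] [Module B H]

variable (A) in
include A in
theorem iSupIndep_powTorsion : iSupIndep fun n : MaximalSpectrum B => powTorsion n.asIdeal H := by
  classical
  haveI := finite_maximalSpectrum A (B := B)
  haveI := Fintype.ofFinite (MaximalSpectrum B)
  intro i
  rw [Submodule.disjoint_def]
  intro x hxi hxs
  let P : Ideal B := (Finset.univ.erase i).inf fun n => n.asIdeal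
  have hsup : (⨆ (j) (_ : j ≠ i), powTorsion j.asIdeal H) ≤ powTorsion P H := by
    refine iSup₂_le fun j hj y hy => ?_
    obtain ⟨k, hk⟩ := mem_powTorsion.1 hy
    exact mem_powTorsion.2 ⟨k, fun a ha => hk a (Ideal.pow_right_mono
      (Finset.inf_le (Finset.mem_erase.2 ⟨hj, Finset.mem_univ j⟩)) k ha)⟩
  obtain ⟨a, ha⟩ := mem_powTorsion.1 hxi
  obtain ⟨b, hb⟩ := mem_powTorsion.1 (hsup hxs)
  have htop : i.asIdeal ⊔ P = ⊤ := by
    refine i.isMaximal.out.2 _ (lt_of_le_of_ne le_sup_left fun h => ?_)
    have hP : P ≤ i.asIdeal := h.ge.trans' le_sup_right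
    obtain ⟨j, hj, hji⟩ := i.isMaximal.isPrime.inf_le'.1 hP
    exact (Finset.mem_erase.1 hj).1 (MaximalSpectrum.ext (j.isMaximal.eq_of_le i.isMaximal.ne_top hji))
  obtain ⟨c, hc, d, hd, hcd⟩ := Submodule.mem_sup.1
    ((Ideal.pow_sup_pow_eq_top (m := a) (n := b) htop).ge trivial : (1 : B) ∈ _)
  rw [← one_smul B x, ← hcd, add_smul, ha c hc, hb d hd, add_zero]

theorem iSup_powTorsion_eq_top
    (hH : ∀ h : H, ∃ N : ℕ, ∀ c ∈ ((maximalIdeal A).map (algebraMap A B)) ^ N, c • h = 0) :
    (⨆ n : MaximalSpectrum B, powTorsion n.asIdeal H) = ⊤ := by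
  classical
  haveI := finite_maximalSpectrum A (B := B)
  haveI := Fintype.ofFinite (MaximalSpectrum B)
  rw [eq_top_iff]
  intro h _
  obtain ⟨N, hN⟩ := hH h
  obtain ⟨K, hK⟩ := exists_iInf_pow_le (A := A) (B := B) N
  have hmem : h ∈ Submodule.torsionBySet B H
      ((⨅ n ∈ (Finset.univ : Finset (MaximalSpectrum B)), n.asIdeal ^ K : Ideal B) : Set B) := by
    rw [Submodule.mem_torsionBySet_iff]
    rintro ⟨c, hc⟩
    exact hN c (hK (by simpa using hc))
  rw [← Submodule.iSup_torsionBySet_ideal_eq_torsionBySet_iInf] at hmem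
  · refine (iSup₂_le fun n _ => ?_ : (⨆ n ∈ (Finset.univ : Finset (MaximalSpectrum B)),
      Submodule.torsionBySet B H ((n.asIdeal ^ K : Ideal B) : Set B)) ≤ _) hmem
    exact le_trans (le_iSup (fun k : ℕ => Submodule.torsionBySet B H
      ((n.asIdeal ^ k : Ideal B) : Set B)) K) (le_iSup (fun n : MaximalSpectrum B => powTorsion n.asIdeal H) n)
  · intro i _ j _ hij
    exact Ideal.pow_sup_pow_eq_top (i.isMaximal.coprime_of_ne j.isMaximal
      fun h => hij (MaximalSpectrum.ext h))

end Decomp

section Coextend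

open CategoryTheory ModuleCat

variable {A B : Type u} [CommRing A] [CommRing B] [Algebra A B] {E : Type u} [AddCommGroup E]
  [Module A E]

noncomputable instance coextendModule :
    Module A ((coextendScalars (algebraMap A B)).obj (ModuleCat.of A E)) :=
  Module.compHom _ (algebraMap A B)

instance coextendTower :
    IsScalarTower A B ((coextendScalars (algebraMap A B)).obj (ModuleCat.of A E)) :=
  IsScalarTower.of_algebraMap_smul fun _ _ => rfl

/-- Evaluation at one. -/
noncomputable def coextendEval :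
    (coextendScalars (algebraMap A B)).obj (ModuleCat.of A E) →ₗ[A] E where
  toFun h := CoextendScalars.equiv (algebraMap A B) _ h (1 : B)
  map_add' _ _ := rfl
  map_smul' a h := by
    show CoextendScalars.equiv (algebraMap A B) _ h ((1 : B) * algebraMap A B a) = _
    rw [one_mul, RingHom.id_apply]
    have := (CoextendScalars.equiv (algebraMap A B) _ h).map_smul a (1 : B)
    rw [← mul_one (algebraMap A B a)]
    exact this

theorem coextendEval_bijective :
    Function.Bijective (coindToHom (B := B) (coextendEval (A := A) (B := B) (E := E))) := by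
  have happ : ∀ (h : (coextendScalars (algebraMap A B)).obj (ModuleCat.of A E)) (b : B),
      coindToHom coextendEval h b = CoextendScalars.equiv (algebraMap A B) _ h b := fun h b =>
    congrArg (CoextendScalars.equiv (algebraMap A B) _ h) (one_mul b)
  constructor
  · intro p q hpq
    refine CoextendScalars.ext (LinearMap.ext fun b => ?_)
    rw [← happ, ← happ, hpq]
  · intro ψ
    let h : (restrictScalars (algebraMap A B)).obj (ModuleCat.of B B) →ₗ[A] E :=
      { toFun := fun (b : B) => ψ b
        map_add' := fun (a b : B) => map_add ψ a b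
        map_smul' := fun a (b : B) => by
          show ψ (algebraMap A B a * b) = _
          rw [← Algebra.smul_def, map_smul]; rfl }
    exact ⟨h, LinearMap.ext fun b => happ h b⟩

end Coextend

theorem isInjectiveHull_field (k : Type u) [Field k] :
    ∃ f : ResidueField k →ₗ[k] k, IsInjectiveHull f := by
  have hb : Function.Bijective (Algebra.linearMap k (ResidueField k)) :=
    ⟨(algebraMap k (ResidueField k)).injective, residue_surjective⟩
  exact ⟨(LinearEquiv.ofBijective _ hb).symm.toLinearMap, isEssentialInj_linearEquiv _,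
    Module.injective_of_isSemisimpleRing k k⟩

end Groth.L04
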