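import Groth.Agent.L04.MatlisEnd
import Mathlib.Algebra.BigOperators.WithTop

/-!
# Criteria for injective hulls of residue fields, change of rings
-/

universe u v

namespace Groth.L04

open InjHull IsLocalRing

section General

variable {R : Type u} [CommRing R] {n : Ideal R} [n.IsMaximal] {H : Type u} [AddCommGroup H]
  [Module R H]

theorem exists_hom_of_killed {x : H} (hx : x ≠ 0) (hk : ∀ a ∈ n, a • x = 0) :
    ∃ g : (R ⧸ n) →ₗ[R] H, Function.Injective g ∧
      ∀ r : R, g (Ideal.Quotient.mk n r) = r • x := by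
  refine ⟨Submodule.liftQ n (LinearMap.toSpanSingleton R H x) fun a ha => by simpa using hk a ha,
    ?_, fun r => rfl⟩
  rw [← LinearMap.ker_eq_bot, eq_bot_iff]
  intro y hy
  obtain ⟨r, rfl⟩ := Submodule.mkQ_surjective n y
  rw [Submodule.mem_bot, Submodule.mkQ_apply, Submodule.Quotient.mk_eq_zero]
  by_contra hr
  obtain ⟨s, hs⟩ := Ideal.Quotient.maximal_ideal_iff_isField_quotient n |>.1 inferInstance
    |>.mul_inv_cancel (a := Ideal.Quotient.mk n r) (by rwa [Ne, Ideal.Quotient.eq_zero_iff_mem])
  obtain ⟨s, rfl⟩ := Ideal.Quotient.mk_surjective s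
  rw [← map_mul, ← map_one (Ideal.Quotient.mk n), Ideal.Quotient.mk_eq_mk_iff_sub_mem] at hs
  have h0 : r • x = 0 := hy
  have := hk _ hs
  rw [sub_smul, one_smul, mul_comm, mul_smul, h0, smul_zero, zero_sub, neg_eq_zero] at this
  exact hx this

omit [n.IsMaximal] in
theorem isInjectiveHull_of_injective {M : Type u} [AddCommGroup M] [Module R M] (g : M →ₗ[R] H)
    (hg : Function.Injective g) (hH : Module.Injective R H) (ht : LocCoh.IsPowerTorsion n H)
    (hsoc : ∀ x : H, (∀ a ∈ n, a • x = 0) → x ∈ LinearMap.range g) : IsInjectiveHull g := by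
  refine ⟨isEssentialInj_of_smul hg fun x hx => ?_, hH⟩
  obtain ⟨k, hk⟩ := ht x
  induction k with
  | zero => exact absurd (by simpa using hk 1 (by simp)) hx
  | succ k ih =>
    by_cases h : ∀ a ∈ n ^ k, a • x = 0
    · exact ih h
    · push Not at h
      obtain ⟨r, hr, hr0⟩ := h
      refine ⟨r, hsoc _ fun a ha => ?_, hr0⟩
      rw [← mul_smul]
      exact hk _ (by rw [pow_succ']; exact Ideal.mul_mem_mul ha hr)

omit [n.IsMaximal] in
/-- Maps out of a cyclic module. -/
def homQuotientEquiv (a : Ideal R) (H : Type v) [AddCommGroup H] [Module R H] :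
    ((R ⧸ a) →ₗ[R] H) ≃ₗ[R] LocCoh.torsionBy a H where
  toFun φ := ⟨φ (Submodule.Quotient.mk 1), (Submodule.mem_torsionBySet_iff _ _).2 fun c => by
    rw [← map_smul, ← Submodule.Quotient.mk_smul, smul_eq_mul, mul_one,
      (Submodule.Quotient.mk_eq_zero _).2 c.2, map_zero]⟩
  map_add' _ _ := rfl
  map_smul' _ _ := rfl
  invFun x := Submodule.liftQ a (LinearMap.toSpanSingleton R H x.1) fun c hc => by
    simpa using (Submodule.mem_torsionBySet_iff _ _).1 x.2 ⟨c, hc⟩
  left_inv φ := by
    ext
    simp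
  right_inv x := Subtype.ext (one_smul R _)

end General

theorem injective_of_flat {R S : Type u} [CommRing R] [CommRing S] [Algebra R S] [Module.Flat R S]
    {E : Type u} [AddCommGroup E] [Module S E] [Module R E] [IsScalarTower R S E]
    (hE : Module.Injective S E) : Module.Injective R E := by
  refine ⟨fun X Y _ _ _ _ i hi g => ?_⟩
  have hinj : Function.Injective (i.baseChange S) :=
    Module.Flat.lTensor_preserves_injective_linearMap i hi
  obtain ⟨h, hh⟩ := hE.out (i.baseChange S) hinj (LinearMap.liftBaseChange S g)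
  refine ⟨(h.restrictScalars R) ∘ₗ TensorProduct.mk R S Y 1, fun x => ?_⟩
  have := hh ((1 : S) ⊗ₜ[R] x)
  simpa using this

section Local

variable {R : Type u} [CommRing R] [IsLocalRing R] {H : Type u} [AddCommGroup H] [Module R H]

/-- A hom from the residue field with given value. -/
theorem exists_hom_residueField {x : H} (hx : x ≠ 0) (hk : ∀ a ∈ maximalIdeal R, a • x = 0) :
    ∃ g : ResidueField R →ₗ[R] H, Function.Injective g ∧
      ∀ r : R, g (residue R r) = r • x :=
  exists_hom_of_killed (n := maximalIdeal R) hx hk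

theorem exists_generator_socle
    (hs : Module.length R (ResidueField R →ₗ[R] H) = 1) :
    ∃ g : ResidueField R →ₗ[R] H, Function.Injective g ∧
      ∀ x : H, (∀ a ∈ maximalIdeal R, a • x = 0) → x ∈ LinearMap.range g := by
  have := Module.length_eq_one_iff.1 hs
  have : Nontrivial (ResidueField R →ₗ[R] H) := IsSimpleModule.nontrivial R _
  obtain ⟨g, hg⟩ := exists_ne (0 : ResidueField R →ₗ[R] H)
  have hg1 : g 1 ≠ 0 := fun h => hg (LinearMap.ext fun c => by
    obtain ⟨r, rfl⟩ := exists_smul_one_eq c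
    rw [map_smul, h, smul_zero, LinearMap.zero_apply])
  have hk : ∀ a ∈ maximalIdeal R, a • g 1 = 0 := fun a ha => by
    rw [← map_smul, smul_residueField_eq_zero ha, map_zero]
  refine ⟨g, ?_, fun x hx => ?_⟩
  · obtain ⟨g', hg', hg''⟩ := exists_hom_residueField hg1 hk
    suffices g = g' by rwa [this]
    refine LinearMap.ext fun c => ?_
    obtain ⟨r, rfl⟩ := exists_smul_one_eq c
    rw [map_smul, residue_smul_eq, hg'']
  · rcases eq_or_ne x 0 with rfl | hx0
    · exact zero_mem _
    obtain ⟨ψ, -, hψ⟩ := exists_hom_residueField hx0 hx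
    obtain ⟨r, hr⟩ := Submodule.mem_span_singleton.1
      ((IsSimpleModule.span_singleton_eq_top (R := R) hg).ge trivial : ψ ∈ _)
    exact ⟨r • (1 : ResidueField R), by
      rw [map_smul, ← LinearMap.smul_apply, hr, show (1 : ResidueField R) = residue R 1 from
        (map_one _).symm, hψ, one_smul]⟩

theorem isInjectiveHull_iff [IsNoetherianRing R] :
    (∃ f : ResidueField R →ₗ[R] H, IsInjectiveHull f) ↔
      (Module.Injective R H ∧ LocCoh.IsPowerTorsion (maximalIdeal R) H ∧
        IsSimpleModule R (ResidueField R →ₗ[R] H)) := by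
  refine ⟨fun ⟨f, hf⟩ => ⟨hf.isInjective, hull_isPowerTorsion hf,
    Module.length_eq_one_iff.1 (length_hom_residueField hf)⟩, fun ⟨h1, h2, h3⟩ => ?_⟩
  obtain ⟨g, hg, hg'⟩ := exists_generator_socle (Module.length_eq_one_iff.2 h3)
  exact ⟨g, isInjectiveHull_of_injective (n := maximalIdeal R) g hg h1 h2 hg'⟩

theorem isFiniteLength_of_pow_le [IsNoetherianRing R] {a : Ideal R} {N : ℕ}
    (h : maximalIdeal R ^ N ≤ a) : IsFiniteLength R (R ⧸ a) := by
  refine Module.length_ne_top_iff.1 (ne_top_of_le_ne_top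
    (Module.length_ne_top_iff.2 (isFiniteLength_quotient_pow N))
    (Module.length_le_of_surjective (Submodule.factor h) (Submodule.factor_surjective h)))

theorem isFiniteLength_of_finite [IsNoetherianRing R] {M : Type v} [AddCommGroup M] [Module R M]
    [Module.Finite R M] {N : ℕ} (h : ∀ a ∈ maximalIdeal R ^ N, ∀ x : M, a • x = 0) :
    IsFiniteLength R M := by
  obtain ⟨k, s, hs⟩ := Module.Finite.exists_fin (R := R) (M := M)
  let π : (Fin k → R ⧸ maximalIdeal R ^ N) →ₗ[R] M :=
    ∑ i, (Submodule.liftQ _ (LinearMap.toSpanSingleton R M (s i))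
      fun a ha => by simpa using h a ha (s i)) ∘ₗ LinearMap.proj i
  have hsurj : Function.Surjective π := by
    rw [← LinearMap.range_eq_top, ← top_le_iff, ← hs, Submodule.span_le]
    rintro _ ⟨i, rfl⟩
    refine ⟨Pi.single i (Submodule.Quotient.mk 1), ?_⟩
    simp only [π, LinearMap.sum_apply, LinearMap.comp_apply, LinearMap.proj_apply]
    rw [Finset.sum_eq_single i (fun j _ hj => by rw [Pi.single_eq_of_ne hj, map_zero]) (by simp),
      Pi.single_eq_same]
    exact one_smul R _
  refine Module.length_ne_top_iff.1 (ne_top_of_le_ne_top ?_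
    (Module.length_le_of_surjective π hsurj))
  rw [Module.length_pi_of_fintype]
  exact WithTop.sum_ne_top.2 fun i _ => Module.length_ne_top_iff.2 (isFiniteLength_quotient_pow N)

/-- Torsion, one-dimensional socle and large enough torsion parts give a hull. -/
theorem exists_isInjectiveHull_of_length [IsNoetherianRing R]
    (ht : LocCoh.IsPowerTorsion (maximalIdeal R) H) {g : ResidueField R →ₗ[R] H}
    (hg : Function.Injective g)
    (hsoc : ∀ x : H, (∀ a ∈ maximalIdeal R, a • x = 0) → x ∈ LinearMap.range g)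
    (hlen : ∀ N : ℕ, ∃ (a : Ideal R) (M : ℕ), maximalIdeal R ^ M ≤ a ∧ a ≤ maximalIdeal R ^ N ∧
      Module.length R (R ⧸ a) ≤ Module.length R ((R ⧸ a) →ₗ[R] H)) :
    IsInjectiveHull g := by
  obtain ⟨E, _, _, f, hf⟩ := exists_injectiveHull (R := R) (ResidueField R)
  obtain ⟨h, hh⟩ := hf.isInjective.out g hg f
  have hinj : Function.Injective h := injective_of_socle ht h fun x hx h0 => by
    obtain ⟨c, rfl⟩ := hsoc x hx
    rw [hh] at h0
    rw [hf.injective (h0.trans (map_zero f).symm), map_zero]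
  have hsurj : Function.Surjective h := fun y => by
    obtain ⟨N, hN⟩ := hull_isPowerTorsion hf y
    obtain ⟨a, M, hM, ha, hl⟩ := hlen N
    have hfl := isFiniteLength_of_pow_le hM
    have hc : Function.Injective (LinearMap.compRight R h : ((R ⧸ a) →ₗ[R] H) →ₗ[R] (R ⧸ a) →ₗ[R] E) := fun p q hpq =>
      LinearMap.ext fun z => hinj (LinearMap.congr_fun hpq z)
    have hb := bijective_of_length_le _ hc
      (Module.length_ne_top_iff.1 (ne_top_of_le_ne_top
        (Module.length_ne_top_iff.2 (isFiniteLength_hom hf hfl))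
        (Module.length_le_of_injective _ hc)))
      (by rw [length_hom_eq hf hfl]; exact hl)
    obtain ⟨ψ, hψ⟩ := hb.2 (Submodule.liftQ a (LinearMap.toSpanSingleton R E y)
      fun c hc' => by simpa using hN c (ha hc'))
    exact ⟨ψ (Submodule.Quotient.mk (p := a) 1),
      (LinearMap.congr_fun hψ (Submodule.Quotient.mk (p := a) 1)).trans (one_smul R y)⟩
  let e := LinearEquiv.ofBijective h ⟨hinj, hsurj⟩
  have : g = e.symm.toLinearMap ∘ₗ f := LinearMap.ext fun c => by
    apply e.injective
    rw [LinearMap.comp_apply, LinearEquiv.coe_coe, LinearEquiv.apply_symm_apply]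
    exact hh c
  rw [this]
  exact isInjectiveHull_equiv_comp hf _

theorem exists_isInjectiveHull_quotient [IsNoetherianRing R] (a : Ideal R) [IsLocalRing (R ⧸ a)]
    {f : ResidueField R →ₗ[R] H} (hf : IsInjectiveHull f) :
    ∃ g : ResidueField (R ⧸ a) →ₗ[R ⧸ a] (LocCoh.torsionBy a H), IsInjectiveHull g := by
  have hale : a ≤ maximalIdeal R := le_maximalIdeal fun h => by
    subst h
    exact false_of_nontrivial_of_subsingleton (R ⧸ (⊤ : Ideal R))
  have hmax : ∀ r : R, r ∈ maximalIdeal R → Ideal.Quotient.mk a r ∈ maximalIdeal (R ⧸ a) := by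
    intro r hr
    rw [mem_maximalIdeal] at hr ⊢
    intro hu
    obtain ⟨t, ht⟩ := isUnit_iff_exists_inv.1 hu
    obtain ⟨t, rfl⟩ := Ideal.Quotient.mk_surjective t
    rw [← map_mul, ← map_one (Ideal.Quotient.mk a), Ideal.Quotient.mk_eq_mk_iff_sub_mem] at ht
    apply (maximalIdeal.isMaximal R).ne_top
    rw [Ideal.eq_top_iff_one]
    have h1 : (1 : R) = r * t - (r * t - 1) := by ring
    rw [h1]
    exact sub_mem (Ideal.mul_mem_right t _ ((mem_maximalIdeal r).2 hr)) (hale ht)
  have hmax' : ∀ r : R, Ideal.Quotient.mk a r ∈ maximalIdeal (R ⧸ a) → r ∈ maximalIdeal R :=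
    fun r hr => (mem_maximalIdeal r).2 fun hu => (mem_maximalIdeal _).1 hr (hu.map _)
  have hinj : Module.Injective (R ⧸ a) (LocCoh.torsionBy a H) := by
    refine ⟨fun X Y _ _ _ _ i hi φ => ?_⟩
    letI := Module.compHom X (Ideal.Quotient.mk a)
    letI := Module.compHom Y (Ideal.Quotient.mk a)
    obtain ⟨ψ, hψ⟩ := hf.isInjective.out
      ({ toFun := i, map_add' := map_add i, map_smul' := fun r x => map_smul i (Ideal.Quotient.mk a r) x } : X →ₗ[R] Y)
      hi
      ({ toFun := fun x => (φ x : H)
         map_add' := fun x y => by simp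
         map_smul' := fun r x => by
           show ((φ (Ideal.Quotient.mk a r • x) : LocCoh.torsionBy a H) : H) = _
           rw [map_smul]; rfl } : X →ₗ[R] H)
    refine ⟨{ toFun := fun y => ⟨ψ y, (Submodule.mem_torsionBySet_iff _ _).2 fun c => ?_⟩
              map_add' := fun x y => Subtype.ext (map_add ψ x y)
              map_smul' := fun c y => ?_ }, fun x => Subtype.ext (hψ x)⟩
    · rw [← map_smul]
      have : (c : R) • y = Ideal.Quotient.mk a (c : R) • y := rfl
      rw [this, Ideal.Quotient.eq_zero_iff_mem.2 c.2, zero_smul, map_zero]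
    · obtain ⟨r, rfl⟩ := Ideal.Quotient.mk_surjective c
      exact Subtype.ext (map_smul ψ r y)
  have hx0 : f 1 ∈ LocCoh.torsionBy a H := (Submodule.mem_torsionBySet_iff _ _).2 fun c => by
    rw [← map_smul, smul_residueField_eq_zero (hale c.2), map_zero]
  obtain ⟨g, hg, hg'⟩ := exists_hom_residueField (R := R ⧸ a) (x := (⟨f 1, hx0⟩ : LocCoh.torsionBy a H))
    (fun h => hull_one_ne_zero hf (congrArg Subtype.val h)) fun c hc => by
      obtain ⟨r, rfl⟩ := Ideal.Quotient.mk_surjective c
      refine Subtype.ext ?_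
      show r • f 1 = 0
      rw [← map_smul, smul_residueField_eq_zero (hmax' r hc), map_zero]
  refine ⟨g, isInjectiveHull_of_injective (n := maximalIdeal (R ⧸ a)) g hg hinj (fun x => ?_)
    fun x hx => ?_⟩
  · obtain ⟨k, hk⟩ := hull_isPowerTorsion hf (x : H)
    refine ⟨k, fun c hc => ?_⟩
    have hle : maximalIdeal (R ⧸ a) ^ k ≤ (maximalIdeal R ^ k).map (Ideal.Quotient.mk a) := by
      rw [Ideal.map_pow]
      refine Ideal.pow_right_mono (fun c hc => ?_) k
      obtain ⟨r, rfl⟩ := Ideal.Quotient.mk_surjective c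
      exact Ideal.mem_map_of_mem _ (hmax' r hc)
    obtain ⟨r, hr, rfl⟩ := (Ideal.mem_map_iff_of_surjective _ Ideal.Quotient.mk_surjective).1 (hle hc)
    exact Subtype.ext (hk r hr)
  · obtain ⟨r, hr⟩ := exists_smul_of_killed hf (x := (x : H)) fun c hc =>
      congrArg Subtype.val (hx _ (hmax c hc))
    exact ⟨residue _ (Ideal.Quotient.mk a r), by rw [hg']; exact Subtype.ext hr.symm⟩

end Local

end Groth.L04
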