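import Groth.Agent.L04.MatlisHull
import Mathlib.RingTheory.LocalRing.Length
import Mathlib.RingTheory.AdicCompletion.Completeness

/-!
# Torsion modules and flat base change
-/

universe u v

namespace Groth.L04

open InjHull IsLocalRing TensorProduct

theorem mk_completion_bijective {R : Type u} [CommRing R] [IsLocalRing R] [IsNoetherianRing R]
    {I : Type u} [AddCommGroup I] [Module R I]
    (hI : LocCoh.IsPowerTorsion (maximalIdeal R) I) :
    Function.Bijective (TensorProduct.mk R (AdicCompletion (maximalIdeal R) R) I 1) := by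
  let B : AdicCompletion (maximalIdeal R) R →ₗ[R] I →ₗ[R] I :=
    { toFun := fun a => completionEnd hI a
      map_add' := fun a b => LinearMap.ext fun x => by
        obtain ⟨i, hi⟩ := hI x
        obtain ⟨r, hr, hx⟩ := completionAct_spec hI a x _ hi
        obtain ⟨s, hs, hx'⟩ := completionAct_spec hI b x _ hi
        show completionAct hI (a + b) x = completionAct hI a x + completionAct hI b x
        rw [hx, hx', completionAct_eq hI (a + b) hi (r := r + s)
          (by rw [map_add, map_add, hr, hs]), add_smul]
      map_smul' := fun c a => LinearMap.ext fun x => by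
        obtain ⟨i, hi⟩ := hI x
        obtain ⟨r, hr, hx⟩ := completionAct_spec hI a x _ hi
        show completionAct hI (c • a) x = c • completionAct hI a x
        rw [hx, completionAct_eq hI (c • a) hi (r := c * r)
          (by rw [map_smul, ← hr, map_mul, Algebra.smul_def]; rfl), mul_smul] }
  constructor
  · intro x y hxy
    have := congrArg (TensorProduct.lift B) hxy
    have h1 : ∀ z : I, completionAct hI 1 z = z := fun z => by
      obtain ⟨i, hi⟩ := hI z
      rw [completionAct_eq hI 1 hi (r := 1) (by rw [map_one, map_one]), one_smul]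
    simp only [TensorProduct.mk_apply, TensorProduct.lift.tmul] at this
    exact (h1 x).symm.trans (this.trans (h1 y))
  · intro t
    induction t using TensorProduct.induction_on with
    | zero => exact ⟨0, map_zero _⟩
    | add a b ha hb =>
      obtain ⟨x, rfl⟩ := ha
      obtain ⟨y, rfl⟩ := hb
      exact ⟨x + y, map_add _ _ _⟩
    | tmul a x =>
      obtain ⟨n, hn⟩ := hI x
      obtain ⟨r, hr⟩ := Ideal.Quotient.mk_surjective (AdicCompletion.evalₐ (maximalIdeal R) n a)
      refine ⟨r • x, ?_⟩
      have hmem : a - AdicCompletion.of (maximalIdeal R) R r ∈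
          maximalIdeal R ^ n • (⊤ : Submodule R (AdicCompletion (maximalIdeal R) R)) := by
        rw [AdicCompletion.pow_smul_top_eq_ker_eval (maximalIdeal R).fg_of_isNoetherianRing,
          LinearMap.mem_ker,
          ← AdicCompletion.factor_evalₐ_eq_eval (maximalIdeal R) _
            (le_of_eq (Ideal.mul_top _).symm),
          map_sub (AdicCompletion.evalₐ (maximalIdeal R) n), AdicCompletion.evalₐ_of, hr, sub_self,
          map_zero]
      have h0 : ∀ b ∈ maximalIdeal R ^ n • (⊤ : Submodule R (AdicCompletion (maximalIdeal R) R)),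
          b ⊗ₜ[R] x = 0 := fun b hb => by
        refine Submodule.smul_induction_on hb (fun c hc d _ => ?_) fun p q hp hq => ?_
        · rw [TensorProduct.smul_tmul, hn c hc, TensorProduct.tmul_zero]
        · rw [TensorProduct.add_tmul, hp, hq, add_zero]
      have := h0 _ hmem
      rw [TensorProduct.sub_tmul, sub_eq_zero] at this
      rw [TensorProduct.mk_apply, this, TensorProduct.tmul_smul, TensorProduct.smul_tmul',
        ← Algebra.algebraMap_eq_smul_one]
      rfl

section BaseChange

variable {A : Type u} [CommRing A] [IsLocalRing A] [IsNoetherianRing A]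
  {B : Type u} [CommRing B] [IsLocalRing B] [IsNoetherianRing B] [Algebra A B]
  [IsLocalHom (algebraMap A B)] [Module.Flat A B]

theorem exists_isInjectiveHull_baseChange
    (hm : (maximalIdeal A).map (algebraMap A B) = maximalIdeal B) {E : Type u} [AddCommGroup E]
    [Module A E] {f : ResidueField A →ₗ[A] E} (hf : IsInjectiveHull f) :
    ∃ g : ResidueField B →ₗ[B] TensorProduct A B E, IsInjectiveHull g := by
  have hinj : Function.Injective (f.lTensor B) :=
    Module.Flat.lTensor_preserves_injective_linearMap f hf.injective
  have hgen : ∀ t : B ⊗[A] ResidueField A, ∃ b : B, t = b ⊗ₜ[A] (1 : ResidueField A) := by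
    intro t
    induction t using TensorProduct.induction_on with
    | zero => exact ⟨0, by simp⟩
    | add a b ha hb =>
      obtain ⟨x, rfl⟩ := ha
      obtain ⟨y, rfl⟩ := hb
      exact ⟨x + y, (TensorProduct.add_tmul _ _ _).symm⟩
    | tmul b c =>
      obtain ⟨r, rfl⟩ := exists_smul_one_eq c
      exact ⟨r • b, (TensorProduct.smul_tmul r b (1 : ResidueField A)).symm⟩
  have hlen1 : Module.length B (B ⧸ (maximalIdeal A).map (algebraMap A B)) = 1 := by
    rw [hm]
    have : IsSimpleModule B (B ⧸ maximalIdeal B) :=
      isSimpleModule_iff_isCoatom.2 (maximalIdeal.isMaximal B).out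
    exact Module.length_eq_one B _
  have hne : (1 : B) ⊗ₜ[A] f 1 ≠ 0 := by
    intro h0
    have h1 : (1 : B) ⊗ₜ[A] (1 : ResidueField A) = 0 :=
      hinj (by rw [LinearMap.lTensor_tmul, h0, map_zero])
    have hsub : Subsingleton (B ⊗[A] ResidueField A) := subsingleton_of_forall_eq 0 fun t => by
      obtain ⟨b, rfl⟩ := hgen t
      rw [show b = b * 1 from (mul_one b).symm, ← smul_eq_mul b (1 : B),
        ← TensorProduct.smul_tmul', h1, smul_zero]
    have := IsLocalRing.length_baseChange A B (ResidueField A)
    rw [Module.length_eq_zero, hlen1, mul_one] at this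
    exact (Module.length_pos (R := A) (M := ResidueField A)).ne this
  have hkill : ∀ (N : ℕ) (x : E), (∀ a ∈ maximalIdeal A ^ N, a • x = 0) → ∀ b : B,
      ∀ c ∈ maximalIdeal B ^ N, c • (b ⊗ₜ[A] x) = 0 := by
    intro N x hx b c hc
    have hle : (maximalIdeal A ^ N).map (algebraMap A B) ≤
        LinearMap.ker (LinearMap.toSpanSingleton B _ (b ⊗ₜ[A] x)) := by
      rw [Ideal.map_le_iff_le_comap]
      intro a ha
      simp [algebraMap_smul, ← TensorProduct.tmul_smul, hx a ha]
    rw [Ideal.map_pow, hm] at hle
    simpa using hle hc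
  have ht : LocCoh.IsPowerTorsion (maximalIdeal B) (B ⊗[A] E) := by
    intro t
    induction t using TensorProduct.induction_on with
    | zero => exact ⟨0, fun a _ => smul_zero a⟩
    | tmul b x =>
      obtain ⟨N, hN⟩ := hull_isPowerTorsion hf x
      exact ⟨N, hkill N x hN b⟩
    | add a b ha hb =>
      obtain ⟨i, hi⟩ := ha
      obtain ⟨j, hj⟩ := hb
      exact ⟨max i j, fun c hc => by
        rw [smul_add, hi c (Ideal.pow_le_pow_right (le_max_left i j) hc),
          hj c (Ideal.pow_le_pow_right (le_max_right i j) hc), add_zero]⟩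
  have hk1 : ∀ c ∈ maximalIdeal B, c • ((1 : B) ⊗ₜ[A] f 1) = 0 := fun c hc =>
    hkill 1 (f 1) (fun a ha => by
      rw [← map_smul, smul_residueField_eq_zero (by simpa using ha), map_zero]) 1 c
      (by simpa using hc)
  obtain ⟨g, hg, hg'⟩ := exists_hom_residueField (R := B) hne hk1
  refine ⟨g, exists_isInjectiveHull_of_length ht hg (fun x hx => ?_) fun N => ?_⟩
  · classical
    obtain ⟨r, s, hs⟩ :=
      Submodule.fg_iff_exists_fin_generating_family.1 (maximalIdeal A).fg_of_isNoetherianRing
    let μ : E →ₗ[A] (Fin r → E) :=
      ∑ i, LinearMap.single A (fun _ : Fin r => E) i ∘ₗ (s i • LinearMap.id)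
    have hμ : ∀ e, μ e = fun i => s i • e := fun e => by
      simp only [μ, LinearMap.sum_apply, LinearMap.comp_apply, LinearMap.smul_apply,
        LinearMap.id_apply]
      exact Finset.univ_sum_single fun i => s i • e
    have hex : Function.Exact f μ := by
      intro e
      refine ⟨fun h0 => ?_, ?_⟩
      · refine mem_range_of_killed hf fun a ha => ?_
        have hle : maximalIdeal A ≤ LinearMap.ker (LinearMap.toSpanSingleton A E e) := by
          rw [← hs, Submodule.span_le]
          rintro _ ⟨i, rfl⟩
          simpa [hμ] using congrFun ((hμ e).symm.trans h0) i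
        simpa using hle ha
      · rintro ⟨c, rfl⟩
        rw [hμ]
        funext i
        rw [← map_smul, smul_residueField_eq_zero (hs.le (Submodule.subset_span ⟨i, rfl⟩)),
          map_zero, Pi.zero_apply]
    have h0 : μ.lTensor B x = 0 := by
      simp only [μ, ← LinearMap.coe_lTensorHom, map_sum, LinearMap.sum_apply]
      refine Finset.sum_eq_zero fun i _ => ?_
      simp only [LinearMap.coe_lTensorHom, LinearMap.lTensor_comp, LinearMap.comp_apply,
        LinearMap.lTensor_smul, LinearMap.smul_apply, LinearMap.lTensor_id, LinearMap.id_apply]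
      rw [← algebraMap_smul B (s i) x, hx _ (hm ▸ Ideal.mem_map_of_mem _
        (hs.le (Submodule.subset_span ⟨i, rfl⟩))), map_zero]
    obtain ⟨t, rfl⟩ := (Module.Flat.lTensor_exact B hex x).1 h0
    obtain ⟨b, rfl⟩ := hgen t
    exact ⟨residue B b, by
      rw [hg', LinearMap.lTensor_tmul, TensorProduct.smul_tmul', smul_eq_mul, mul_one]⟩
  · refine ⟨maximalIdeal B ^ N, N, le_rfl, le_rfl, ?_⟩
    let T := LocCoh.torsionBy (maximalIdeal A ^ N) E
    let ι : B ⊗[A] T →ₗ[B] LocCoh.torsionBy (maximalIdeal B ^ N) (B ⊗[A] E) :=
      (T.subtype.baseChange B).codRestrict _ fun t => by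
        rw [Submodule.mem_torsionBySet_iff]
        rintro ⟨c, hc⟩
        induction t using TensorProduct.induction_on with
        | zero => rw [map_zero, smul_zero]
        | tmul b x =>
          rw [LinearMap.baseChange_tmul]
          exact hkill N _ (fun a ha => (Submodule.mem_torsionBySet_iff _ _).1 x.2 ⟨a, ha⟩) b c hc
        | add a b ha hb => rw [map_add, smul_add, ha, hb, add_zero]
    have hι : Function.Injective ι := fun a b hab =>
      Module.Flat.lTensor_preserves_injective_linearMap (M := B) T.subtype
        T.injective_subtype (congrArg Subtype.val hab)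
    rw [(homQuotientEquiv _ _).length_eq]
    refine le_trans (le_of_eq ?_) (Module.length_le_of_injective ι hι)
    rw [IsLocalRing.length_baseChange, ← (homQuotientEquiv _ _).length_eq,
      length_hom_eq hf (isFiniteLength_quotient_pow N), ← IsLocalRing.length_baseChange,
      ← (Algebra.TensorProduct.quotIdealMapEquivTensorQuot B (maximalIdeal A ^ N)).toLinearEquiv.length_eq]
    rw [Ideal.map_pow, hm]

end BaseChange

end Groth.L04
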