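import Groth.Agent.S0357
import Groth.Agent.L17.MayerVietoris
import Groth.Agent.L17.AffineVanishing
import Groth.Agent.L07.FittStrict
import Groth.Agent.L22.GV.Sober

/-!
# Connectedness of the complement of an open of small cohomological dimension
-/

set_option autoImplicit false
universe u

open CategoryTheory CategoryTheory.Limits AlgebraicGeometry TopologicalSpace

noncomputable section

namespace Groth.L04.CohDimConn

/-- A closed subset with the dimension of the irreducible ambient space is everything. -/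
theorem surjective_of_dim_le {U Z : Type u} [TopologicalSpace U] [TopologicalSpace Z] [IrreducibleSpace U]
    {i : Z → U} (hi : Topology.IsClosedEmbedding i) {n : ℕ} (hU : topologicalKrullDim U ≤ n)
    (hZ : (n : WithBot ℕ∞) ≤ topologicalKrullDim Z) : Function.Surjective i := by
  by_contra hs
  obtain ⟨l, hl⟩ := Order.le_krullDim_iff.1 hZ
  let top : IrreducibleCloseds U := ⟨Set.univ, IrreducibleSpace.isIrreducible_univ U, isClosed_univ⟩
  let l' := LTSeries.map l (IrreducibleCloseds.map i hi.continuous)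
    (IrreducibleCloseds.map_strictMono_of_isInducing hi.isInducing)
  have hlast : l'.last < top := by
    refine lt_of_le_of_ne (Set.subset_univ _) fun h => hs fun y => ?_
    show y ∈ Set.range i
    rw [LTSeries.last_map] at h
    have h' : closure (i '' (l.last : Set Z)) = Set.univ := congrArg SetLike.coe h
    exact closure_minimal (Set.image_subset_range _ _) hi.isClosed_range (h'.symm ▸ Set.mem_univ y)
  have h := (Order.LTSeries.length_le_krullDim (l'.snoc top hlast)).trans hU
  simp only [RelSeries.snoc_length, l', LTSeries.map_length, hl] at h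
  have h' : n + 1 ≤ n := by exact_mod_cast h
  omega

variable {k : Type u} [Field k] {X : Scheme.{u}} (s : X ⟶ Spec (CommRingCat.of k)) [IsProper s] [IsIntegral X]

include s

/-- Top cohomology vanishes on a proper open subscheme of an integral proper scheme. -/
theorem subsingleton_top_open (U : X.Opens) (hU : U ≠ ⊤) {n : ℕ} (hn : 1 ≤ n) (hdim : topologicalKrullDim X = n)
    (M : (U : Scheme.{u}).Modules) (hM : Coh.IsCoh M) : Subsingleton (Coh.HH (U : Scheme.{u}) M n) := by
  haveI : IsLocallyNoetherian X := LocallyOfFiniteType.isLocallyNoetherian s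
  haveI : CompactSpace X := QuasiCompact.compactSpace_of_compactSpace s
  haveI : IsNoetherian X := {}
  haveI : QuasiCompact U.ι := inferInstance
  have hle : topologicalKrullDim (U : Scheme.{u}) ≤ n :=
    (U.ι.isOpenEmbedding.isInducing.topologicalKrullDim_le).trans hdim.le
  rcases isEmpty_or_nonempty (U : Scheme.{u}) with he | hne
  · haveI : NoetherianSpace (U : Scheme.{u}).toTopCat := U.ι.isOpenEmbedding.isInducing.noetherianSpace
    have h0 : topologicalKrullDim (U : Scheme.{u}) ≤ (0 : ℕ) := by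
      haveI : IsEmpty (IrreducibleCloseds ↥(U : Scheme.{u})) :=
        ⟨fun t => t.isIrreducible.nonempty.elim fun y _ => isEmptyElim y⟩
      rw [topologicalKrullDim, Order.krullDim_eq_bot]
      exact bot_le
    exact Groth.L22.GV.subsingleton_H' (X := (U : Scheme.{u}).toTopCat) h0 (Coh.toAb M) n hn
  rcases hle.lt_or_eq with hlt | heq
  · haveI : NoetherianSpace (U : Scheme.{u}).toTopCat := U.ι.isOpenEmbedding.isInducing.noetherianSpace
    have h0 : topologicalKrullDim (U : Scheme.{u}) ≤ ((n - 1 : ℕ) : WithBot ℕ∞) := by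
      obtain ⟨l, rfl⟩ : ∃ l, n = l + 1 := ⟨n - 1, by omega⟩
      refine iSup_le fun c => ?_
      have hc : ((c.length : ℕ) : WithBot ℕ∞) < ((l + 1 : ℕ) : WithBot ℕ∞) :=
        lt_of_le_of_lt (Order.LTSeries.length_le_krullDim c) hlt
      have hc' : c.length < l + 1 := by exact_mod_cast hc
      exact_mod_cast (show c.length ≤ l + 1 - 1 by omega)
    exact Groth.L22.GV.subsingleton_H' (X := (U : Scheme.{u}).toTopCat) h0 (Coh.toAb M) n (by omega)
  haveI : QuasiCompact (U.ι ≫ s) := inferInstance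
  refine (Groth.Agent.S0357.result k _ (U.ι ≫ s) n heq).2 (fun Z i _ _ hZ hp => hU ?_) M hM
  haveI := hp
  haveI : IrreducibleSpace ↥(U : Scheme.{u}) := by
    haveI : IsIntegral (U : Scheme.{u}) := isIntegral_of_isOpenImmersion U.ι
    infer_instance
  have hsur := surjective_of_dim_le i.isClosedEmbedding hle hZ.ge
  haveI : IsProper ((i ≫ U.ι) ≫ s) := by rwa [Category.assoc]
  haveI : IsProper (i ≫ U.ι) := IsProper.of_comp (i ≫ U.ι) s
  have hclosed : IsClosed (U : Set X) := by
    have h := (i ≫ U.ι).isClosedMap.isClosed_range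
    rw [Scheme.Hom.comp_base, TopCat.coe_comp, Set.range_comp, hsur.range_eq, Set.image_univ,
      Scheme.Opens.range_ι] at h
    exact h
  obtain ⟨y⟩ := hne
  exact Opens.ext (IsClopen.eq_univ ⟨hclosed, U.2⟩ ⟨_, y.2⟩)

theorem isConnected_compl {n : ℕ} (hn : 2 ≤ n) (hdim : topologicalKrullDim X = n) (U : X.Opens) (hUX : U ≠ ⊤)
    (hcd : ∀ F : (U : Scheme.{u}).Modules, Coh.IsCoh F → ∀ i : ℕ, n - 2 < i →
      Subsingleton (Coh.HH (U : Scheme.{u}) F i)) :
    _root_.IsConnected ((U : Set X)ᶜ) := by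
  refine ⟨Set.nonempty_compl.2 fun h => hUX (Opens.ext h), ?_⟩
  refine isPreconnected_closed_iff.2 fun t t' ht ht' hcov ⟨x, hxY, hxt⟩ ⟨y, hyY, hyt⟩ => ?_
  by_contra hne
  rw [Set.not_nonempty_iff_eq_empty] at hne
  let U₁ : X.Opens := ⟨((U : Set X)ᶜ ∩ t)ᶜ, (U.2.isClosed_compl.inter ht).isOpen_compl⟩
  let U₂ : X.Opens := ⟨((U : Set X)ᶜ ∩ t')ᶜ, (U.2.isClosed_compl.inter ht').isOpen_compl⟩
  have h1 : U₁ ≠ ⊤ := fun h => absurd (show x ∈ U₁ from h ▸ trivial) (fun hx => hx ⟨hxY, hxt⟩)
  have h2 : U₂ ≠ ⊤ := fun h => absurd (show y ∈ U₂ from h ▸ trivial) (fun hy => hy ⟨hyY, hyt⟩)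
  have hsup : U₁ ⊔ U₂ = ⊤ := by
    refine eq_top_iff.2 fun z _ => ?_
    by_cases h : z ∈ U₁
    · exact Or.inl h
    · refine Or.inr fun hz => ?_
      have h' := not_not.1 h
      exact (hne.subset ⟨hz.1, h'.2, hz.2⟩).elim
  have hinf : U₁ ⊓ U₂ = U := by
    ext z
    constructor
    · rintro ⟨ha, hb⟩
      by_contra hz
      exact (hcov hz).elim (fun h => ha ⟨hz, h⟩) (fun h => hb ⟨hz, h⟩)
    · exact fun hz => ⟨fun h => h.1 hz, fun h => h.1 hz⟩
  haveI : CompactSpace X := QuasiCompact.compactSpace_of_compactSpace s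
  obtain ⟨m, rfl⟩ : ∃ m, n = m + 1 := ⟨n - 1, by omega⟩
  haveI : Nonempty X := inferInstance
  have hvan : ∀ M : X.Modules, Coh.IsCoh M → Subsingleton (Coh.HH X M (m + 1)) := fun M hM => by
    have hz : ∀ V : X.Opens, ∀ j, Subsingleton (Coh.HH (V : Scheme.{u}) (M.restrict V.ι) j) →
        ∀ z : Groth.L17.HU (X := X.toTopCat) V (Coh.toAb M) j, z = 0 := fun V j hV z => by
      obtain ⟨e⟩ := Groth.L17.nonempty_hhon_equiv M V j
      haveI : Subsingleton (Coh.HHon X M V j) := hV
      exact e.symm.injective (Subsingleton.elim _ _)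
    have hU' : ∀ z : Groth.L17.HU (X := X.toTopCat) (U₁ ⊓ U₂) (Coh.toAb M) m, z = 0 := by
      rw [hinf]
      exact hz U m (hcd _ (Groth.L07.FittStrict.isCoh_restrict M hM U) m (by omega))
    haveI : Subsingleton (Groth.L17.HU (X := X.toTopCat) ⊤ (Coh.toAb M) (m + 1)) := by
      refine subsingleton_of_forall_eq 0 ?_
      rw [← hsup]
      exact Groth.L17.hu_sup_vanish hU'
        (hz U₁ _ (subsingleton_top_open s U₁ h1 (by omega) hdim _ (Groth.L07.FittStrict.isCoh_restrict M hM U₁)))
        (hz U₂ _ (subsingleton_top_open s U₂ h2 (by omega) hdim _ (Groth.L07.FittStrict.isCoh_restrict M hM U₂)))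
    exact (Groth.L17.hTopEquiv (X := X.toTopCat) (Coh.toAb M) (m + 1)).subsingleton
  exact (Groth.Agent.S0357.result k X s (m + 1) hdim).1 hvan X (𝟙 X) hdim (by rw [Category.id_comp]; infer_instance)

end Groth.L04.CohDimConn
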