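import Groth.Agent.L08.W2Lift
import Mathlib.Algebra.CharP.Lemmas
import Mathlib.Algebra.MvPolynomial.Division
import Mathlib.FieldTheory.Finite.Polynomial
import Mathlib.Algebra.MvPolynomial.Basic
import Mathlib.RingTheory.MvPolynomial.Basic
import Mathlib.RingTheory.Ideal.Quotient.Operations
import Mathlib.Algebra.Algebra.ZMod
import Mathlib.Tactic

/-!
# The quadric cone has no lift of Frobenius

A lift gives `C(x₁y₁, …, x_ny_n) ∈ (x^p, y^p, q) + A^p` where `p · C(T) = (∑T)^p - ∑T^p`; a linear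
functional on polynomials kills the right side and not the left.
-/

set_option autoImplicit false
universe u v

open MvPolynomial

namespace Groth.L04.ConeFLift

variable {p : ℕ} [hp : Fact p.Prime]

/-- Evaluation of integral polynomials. -/
noncomputable def ev {σ : Type*} {R : Type*} [CommRing R] (t : σ → R) : MvPolynomial σ ℤ →+* R :=
  eval₂Hom (Int.castRingHom R) t

theorem map_ev {σ : Type*} {R S : Type*} [CommRing R] [CommRing S] (f : R →+* S) (t : σ → R)
    (F : MvPolynomial σ ℤ) : f (ev t F) = ev (fun i => f (t i)) F := by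
  suffices h : f.comp (ev t) = ev fun i => f (t i) from RingHom.congr_fun h F
  exact MvPolynomial.ringHom_ext (fun a => by simp [ev]) fun i => by simp [ev]

/-- `((∑ T)^p - ∑ T^p) / p` exists. -/
theorem exists_C (n : ℕ) : ∃ F : MvPolynomial (Fin n) ℤ,
    (p : MvPolynomial (Fin n) ℤ) * F = (∑ i, X i) ^ p - ∑ i, X i ^ p := by
  have h : ((∑ i : Fin n, (X i : MvPolynomial (Fin n) ℤ)) ^ p - ∑ i, X i ^ p).map (Int.castRingHom (ZMod p)) = 0 := by
    simp [sum_pow_char]
  have h2 : (MvPolynomial.C (p : ℤ) : MvPolynomial (Fin n) ℤ) ∣ (∑ i, X i) ^ p - ∑ i, X i ^ p :=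
    (C_dvd_iff_zmod p _).mpr h
  obtain ⟨F, hF⟩ := h2
  exact ⟨F, by rw [hF, map_natCast]⟩

section Functional

variable {k : Type u} [Field k] [CharP k p] {n : ℕ}

/-- Keep monomials of weight zero: `x^a y^a ↦ t^a`. -/
noncomputable def diag : MvPolynomial (Fin n × Fin 2) k →ₗ[k] MvPolynomial (Fin n) k :=
  (basisMonomials (Fin n × Fin 2) k).constr k fun e =>
    if ∀ i, e (i, 0) = e (i, 1) then monomial (Finsupp.equivFunOnFinite.symm fun i => e (i, 0)) 1
    else 0

theorem diag_monomial (e : Fin n × Fin 2 →₀ ℕ) (c : k) :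
    diag (monomial e c) = if ∀ i, e (i, 0) = e (i, 1)
      then monomial (Finsupp.equivFunOnFinite.symm fun i => e (i, 0)) c else 0 := by
  have h1 : monomial e c = c • (basisMonomials (Fin n × Fin 2) k) e := by
    simp [coe_basisMonomials, smul_monomial]
  rw [h1, map_smul, diag, Module.Basis.constr_basis]
  split_ifs <;> simp [smul_monomial]

theorem diag_one : diag (1 : MvPolynomial (Fin n × Fin 2) k) = 1 := by
  rw [← MvPolynomial.C_1, C_apply, diag_monomial, if_pos (by simp)]
  rw [← MvPolynomial.C_1, C_apply]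
  congr 1
  congr 1
  ext i
  simp

theorem diag_xy_mul (i : Fin n) (f : MvPolynomial (Fin n × Fin 2) k) :
    diag (X (i, 0) * X (i, 1) * f) = X i * diag f := by
  classical
  induction f using MvPolynomial.induction_on' with
  | add a b ha hb => rw [mul_add, map_add, map_add, ha, hb, mul_add]
  | monomial e c =>
    rw [X, X, monomial_mul, monomial_mul, diag_monomial, diag_monomial, one_mul, one_mul]
    have key : (∀ j, (Finsupp.single (i, (0 : Fin 2)) 1 + Finsupp.single (i, (1 : Fin 2)) 1 + e : Fin n × Fin 2 →₀ ℕ) (j, 0) =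
        (Finsupp.single (i, (0 : Fin 2)) 1 + Finsupp.single (i, (1 : Fin 2)) 1 + e : Fin n × Fin 2 →₀ ℕ) (j, 1)) ↔
        ∀ j, e (j, 0) = e (j, 1) := by
      refine forall_congr' fun j => ?_
      by_cases hj : i = j
      · subst hj; simp
      · simp [hj]
    by_cases he : ∀ j, e (j, 0) = e (j, 1)
    · rw [if_pos (key.mpr he), if_pos he, X, monomial_mul, one_mul]
      congr 2
      ext j
      by_cases hj : i = j
      · subst hj; simp
      · simp [hj]
    · rw [if_neg (mt key.mp he), if_neg he, mul_zero]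

theorem diag_pow_mul (v : Fin n × Fin 2) (f : MvPolynomial (Fin n × Fin 2) k) :
    X v.1 ^ p ∣ diag (X v ^ p * f) := by
  classical
  induction f using MvPolynomial.induction_on' with
  | add a b ha hb => rw [mul_add, map_add]; exact dvd_add ha hb
  | monomial e c =>
    rw [show (X v : MvPolynomial (Fin n × Fin 2) k) ^ p * monomial e c = monomial (Finsupp.single v p + e) c by
      rw [X_pow_eq_monomial, monomial_mul, one_mul], diag_monomial]
    split_ifs with h
    · rw [X_pow_eq_monomial]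
      refine monomial_dvd_monomial.mpr ⟨Or.inr fun j => ?_, one_dvd _⟩
      obtain ⟨i, b⟩ := v
      by_cases hj : i = j
      · subst hj
        rw [Finsupp.single_eq_same, Finsupp.equivFunOnFinite_symm_apply_apply]
        fin_cases b
        · simp
        · rw [h i]; simp
      · simp [Finsupp.single_eq_of_ne (Ne.symm hj)]
    · exact dvd_zero _

/-- `t₀ ↦ U`, `t₁ ↦ V`, `t₂ ↦ -(U + V)`, other variables to `0`. -/
noncomputable def two (R : Type*) [CommRing R] (i : Fin n) : MvPolynomial (Fin 2) R :=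
  if (i : ℕ) = 0 then X 0 else if (i : ℕ) = 1 then X 1 else if (i : ℕ) = 2 then -(X 0 + X 1) else 0

theorem sum_two {R : Type*} [CommRing R] (hn : 3 ≤ n) (φ : MvPolynomial (Fin 2) R → MvPolynomial (Fin 2) R)
    (h0 : φ 0 = 0) :
    ∑ i : Fin n, φ (two R i) = φ (X 0) + φ (X 1) + φ (-(X 0 + X 1)) := by
  obtain ⟨m, rfl⟩ : ∃ m, n = m + 3 := ⟨n - 3, by omega⟩
  rw [Fin.sum_univ_succ, Fin.sum_univ_succ, Fin.sum_univ_succ]
  simp [two, h0, add_assoc, Nat.mod_eq_of_lt (by omega : 2 < m + 3)]

/-- The exponent `U^(p-1) V`. -/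
noncomputable def μ (p : ℕ) : Fin 2 →₀ ℕ := Finsupp.single 0 (p - 1) + Finsupp.single 1 1

theorem coeff_X_pow_mul_μ {R : Type*} [CommRing R] (j : Fin 2) (g : MvPolynomial (Fin 2) R)
    (hp' : 2 ≤ p) : coeff (μ p) (X j ^ p * g) = 0 := by
  classical
  rw [X_pow_eq_monomial, coeff_monomial_mul', if_neg]
  intro h
  have h2 := h j
  fin_cases j <;> simp [μ] at h2 <;> omega

variable (n) in
/-- The functional. -/
noncomputable def func : MvPolynomial (Fin n × Fin 2) k →ₗ[k] k :=
  lcoeff k (μ p) ∘ₗ (aeval (two k : Fin n → MvPolynomial (Fin 2) k)).toLinearMap ∘ₗ diag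

theorem func_q_mul (hn : 3 ≤ n) (f : MvPolynomial (Fin n × Fin 2) k) :
    func (p := p) n ((∑ i, X (i, 0) * X (i, 1)) * f) = 0 := by
  rw [func, LinearMap.comp_apply, LinearMap.comp_apply, Finset.sum_mul, map_sum diag,
    Finset.sum_congr rfl fun i _ => diag_xy_mul i f, ← Finset.sum_mul]
  show coeff (μ p) (aeval (two k) ((∑ i, X i) * diag f)) = 0
  rw [map_mul, map_sum, Finset.sum_congr rfl fun i _ => aeval_X (two k) i]
  have e := sum_two (R := k) hn id rfl
  simp only [id_eq] at e
  rw [e]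
  simp

theorem func_pow_mul (hn : 3 ≤ n) (v : Fin n × Fin 2) (f : MvPolynomial (Fin n × Fin 2) k) :
    func (p := p) n (X v ^ p * f) = 0 := by
  obtain ⟨g, hg⟩ := diag_pow_mul (p := p) v f
  show coeff (μ p) (aeval (two k) (diag (X v ^ p * f))) = 0
  rw [hg, map_mul, map_pow, aeval_X]
  have hp2 := hp.out.two_le
  unfold two
  split_ifs with a b c
  · exact coeff_X_pow_mul_μ 0 _ hp2
  · exact coeff_X_pow_mul_μ 1 _ hp2
  · rw [← neg_one_mul, mul_pow, add_pow_char, mul_assoc, add_mul, mul_add, coeff_add,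
      mul_left_comm, coeff_X_pow_mul_μ 0 _ hp2, mul_left_comm, coeff_X_pow_mul_μ 1 _ hp2, add_zero]
  · rw [zero_pow hp.out.ne_zero, zero_mul, coeff_zero]

theorem func_pow (f : MvPolynomial (Fin n × Fin 2) k) (hn : 3 ≤ n) :
    func (p := p) n (f ^ p) = 0 := by
  classical
  induction f using MvPolynomial.induction_on' with
  | add a b ha hb => rw [add_pow_char, map_add, ha, hb, add_zero]
  | monomial e c =>
    rcases Classical.em (e = 0) with rfl | he
    · rw [← C_apply, ← map_pow, C_eq_smul_one, map_smul]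
      show c ^ p • coeff (μ p) (aeval (two k : Fin n → _) (diag 1)) = 0
      rw [diag_one, map_one, coeff_one, if_neg, smul_zero]
      intro h
      have := DFunLike.congr_fun h 1
      simp [μ] at this
    · obtain ⟨v, hv⟩ := Finsupp.ne_iff.mp he
      have hv' : Finsupp.single v 1 ≤ e := Finsupp.single_le_iff.mpr (Nat.one_le_iff_ne_zero.mpr hv)
      rw [show monomial e c = X v * monomial (e - Finsupp.single v 1) c by
        rw [X, monomial_mul, one_mul, add_tsub_cancel_of_le hv'], mul_pow]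
      exact func_pow_mul hn v _

theorem diag_ev (F : MvPolynomial (Fin n) ℤ) (f : MvPolynomial (Fin n × Fin 2) k) :
    diag (ev (fun i => (X (i, 0) * X (i, 1) : MvPolynomial (Fin n × Fin 2) k)) F * f) =
      ev (fun i => (X i : MvPolynomial (Fin n) k)) F * diag f := by
  induction F using MvPolynomial.induction_on generalizing f with
  | C a =>
    simp only [ev, eval₂Hom_C, eq_intCast, map_intCast]
    rw [← zsmul_eq_mul, ← zsmul_eq_mul, map_zsmul]
  | add a b ha hb => rw [map_add, add_mul, map_add, ha, hb, map_add, add_mul]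
  | mul_X a i ih =>
    rw [map_mul (ev _), map_mul (ev _)]
    simp only [ev, eval₂Hom_X'] at ih ⊢
    rw [mul_assoc, ih, diag_xy_mul, mul_assoc]

theorem func_C (hp3 : 3 ≤ p) (hn : 3 ≤ n) {F : MvPolynomial (Fin n) ℤ}
    (hF : (p : MvPolynomial (Fin n) ℤ) * F = (∑ i, X i) ^ p - ∑ i, X i ^ p) :
    func (p := p) (k := k) n (ev (fun i => X (i, 0) * X (i, 1)) F) = 1 := by
  have h1 : coeff (μ p) (ev (two ℤ : Fin n → MvPolynomial (Fin 2) ℤ) F) = 1 := by
    have h2 := congrArg (coeff (μ p) ∘ ev (two ℤ : Fin n → MvPolynomial (Fin 2) ℤ)) hF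
    simp only [Function.comp_apply, map_mul, map_natCast, map_sub, map_pow, map_sum] at h2
    simp only [ev, eval₂Hom_X'] at h2
    have e1 := sum_two (R := ℤ) hn id rfl
    have e2 := sum_two (R := ℤ) hn (· ^ p) (zero_pow hp.out.ne_zero)
    simp only [id_eq] at e1 e2
    rw [e1, e2] at h2
    have hodd : Odd p := hp.out.odd_of_ne_two (by omega)
    simp only [id_eq, add_neg_cancel, zero_pow hp.out.ne_zero, zero_sub, Odd.neg_pow hodd] at h2
    rw [show -((X 0 : MvPolynomial (Fin 2) ℤ) ^ p + X 1 ^ p + -(X 0 + X 1) ^ p) =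
      (X 0 + X 1) ^ p - X 0 ^ p - X 1 ^ p by ring] at h2
    have hX : ∀ j : Fin 2, coeff (μ p) ((X j : MvPolynomial (Fin 2) ℤ) ^ p) = 0 := fun j => by
      simpa using coeff_X_pow_mul_μ (R := ℤ) j 1 hp.out.two_le
    have hbin : coeff (μ p) (((X 0 : MvPolynomial (Fin 2) ℤ) + X 1) ^ p) = (p : ℤ) := by
      classical
      rw [add_pow, coeff_sum, Finset.sum_eq_single (p - 1)]
      · rw [← map_natCast (MvPolynomial.C : ℤ →+* MvPolynomial (Fin 2) ℤ), mul_comm, coeff_C_mul,
          X_pow_eq_monomial, X_pow_eq_monomial, monomial_mul, one_mul,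
          show p - (p - 1) = 1 by omega, coeff_monomial, if_pos (show (Finsupp.single 0 (p - 1) + Finsupp.single 1 1 : Fin 2 →₀ ℕ) = μ p from rfl), mul_one,
          Nat.choose_symm (by omega : 1 ≤ p), Nat.choose_one_right]
      · intro m hm hne
        rw [← map_natCast (MvPolynomial.C : ℤ →+* MvPolynomial (Fin 2) ℤ), mul_comm, coeff_C_mul,
          X_pow_eq_monomial, X_pow_eq_monomial, monomial_mul, coeff_monomial, if_neg, mul_zero]
        intro h
        have := DFunLike.congr_fun h 0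
        simp [μ] at this
        omega
      · intro h
        exact absurd (Finset.mem_range.mpr (by omega)) h
    rw [coeff_sub, coeff_sub, hbin, hX, hX, sub_zero, sub_zero,
      ← map_natCast (MvPolynomial.C : ℤ →+* MvPolynomial (Fin 2) ℤ), coeff_C_mul] at h2
    exact mul_left_cancel₀ (Int.natCast_ne_zero.mpr hp.out.ne_zero) (h2.trans (mul_one _).symm)
  show coeff (μ p) (aeval (two k) (diag (ev (fun i => X (i, 0) * X (i, 1)) F))) = 1
  rw [← mul_one (ev (fun i => (X (i, 0) * X (i, 1) : MvPolynomial (Fin n × Fin 2) k)) F), diag_ev,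
    diag_one, mul_one]
  show coeff (μ p) ((aeval (two k : Fin n → _)).toRingHom (ev _ F)) = 1
  rw [map_ev]
  have h4 : ev (fun i => (aeval (two k : Fin n → MvPolynomial (Fin 2) k)).toRingHom (X i : MvPolynomial (Fin n) k)) F =
      MvPolynomial.map (Int.castRingHom k) (ev (two ℤ : Fin n → MvPolynomial (Fin 2) ℤ) F) := by
    rw [map_ev]
    refine congrArg (fun t : Fin n → MvPolynomial (Fin 2) k => ev t F) (funext fun i => ?_)
    show aeval (two k : Fin n → MvPolynomial (Fin 2) k) (X i) = _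
    rw [aeval_X]
    unfold two
    split_ifs <;> simp
  rw [h4, coeff_map, h1, map_one]

end Functional

/-- The quadric cone in `2n ≥ 6` variables has no lift of Frobenius. -/
theorem main (p : ℕ) [Fact p.Prime] (hp3 : 3 ≤ p) (k : Type u) [Field k] [CharP k p] [PerfectRing k p]
    (n : ℕ) (hn : 3 ≤ n) :
    ¬ FrobAlg.IsFLiftable p k
      (MvPolynomial (Fin n × Fin 2) k ⧸ Ideal.span
        {(∑ i : Fin n, MvPolynomial.X (i, (0 : Fin 2)) * MvPolynomial.X (i, (1 : Fin 2)) : MvPolynomial (Fin n × Fin 2) k)}) := by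
  rintro ⟨B, _, ι, π, Φ, hΦ⟩
  have h := hΦ.toIsLift
  obtain ⟨F, hF⟩ := exists_C (p := p) n
  let mk := Ideal.Quotient.mk (Ideal.span
    {(∑ i : Fin n, X (i, 0) * X (i, 1) : MvPolynomial (Fin n × Fin 2) k)})
  choose Z hZ using fun v => h.surj (mk (X v))
  have hΦZ : ∀ v, ∃ a, Φ (Z v) = Z v ^ p + L08.W2.jj h a := fun v => by
    obtain ⟨a, ha⟩ := L08.W2.exists_jj h (b := Φ (Z v) - Z v ^ p) (by
      rw [map_sub, hΦ.red, map_pow, sub_self])
    exact ⟨a, by rw [← ha, add_sub_cancel]⟩
  choose a ha using hΦZ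
  let T : Fin n → B := fun i => Z (i, 0) * Z (i, 1)
  have hS0 : π (∑ i, T i) = 0 := by
    rw [map_sum]
    simp only [T, map_mul, hZ]
    refine Eq.trans ?_ (Ideal.Quotient.eq_zero_iff_mem.mpr (Ideal.subset_span rfl) :
      mk (∑ i : Fin n, X (i, 0) * X (i, 1)) = 0)
    simp only [mk, map_sum, map_mul]
  obtain ⟨g, hg⟩ := L08.W2.exists_jj h hS0
  have hΦS : Φ (∑ i, T i) = L08.W2.jj h (g ^ p) := by
    obtain ⟨c, rfl⟩ := h.surj g
    rw [hg, L08.W2.jj_pi h, map_mul, map_natCast, ← L08.W2.jj_pi h, hΦ.red]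
  have hΦT : ∀ i, Φ (T i) = T i ^ p + L08.W2.jj h
      (mk (X (i, 0)) ^ p * a (i, 1) + mk (X (i, 1)) ^ p * a (i, 0)) := fun i => by
    show Φ (Z (i, 0) * Z (i, 1)) = (Z (i, 0) * Z (i, 1)) ^ p + _
    rw [map_mul, ha, ha, map_add (L08.W2.jj h), ← hZ (i, 0), ← hZ (i, 1), ← map_pow, ← map_pow,
      ← L08.W2.mul_jj h, ← L08.W2.mul_jj h]
    linear_combination L08.W2.jj_mul_jj h (a (i, 0)) (a (i, 1))
  have hSp : (∑ i, T i) ^ p = 0 := by
    rw [hg]
    exact pow_eq_zero_of_le (Fact.out : p.Prime).two_le (by rw [sq, L08.W2.jj_mul_jj h])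
  have hC : ∑ i, T i ^ p = - L08.W2.jj h (π (ev T F)) := by
    have h2 := congrArg (ev T) hF
    simp only [map_mul, map_natCast, map_sub, map_pow, map_sum] at h2
    simp only [ev, eval₂Hom_X'] at h2
    rw [hSp, zero_sub] at h2
    rw [L08.W2.jj_pi h]
    exact neg_eq_iff_eq_neg.mp h2.symm
  have key : g ^ p = -π (ev T F) +
      ∑ i, (mk (X (i, 0)) ^ p * a (i, 1) + mk (X (i, 1)) ^ p * a (i, 0)) := by
    apply L08.W2.jj_injective h
    rw [map_add, map_neg, map_sum, ← hC, ← hΦS, map_sum Φ, ← Finset.sum_add_distrib]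
    exact Finset.sum_congr rfl fun i _ => hΦT i
  obtain ⟨g', rfl⟩ := Ideal.Quotient.mk_surjective g
  choose a' ha' using fun v => Ideal.Quotient.mk_surjective (a v)
  rw [map_ev, show (fun i => π (T i)) = fun i => mk (X (i, 0) * X (i, 1)) from
    funext fun i => by simp [T, hZ], ← map_ev mk] at key
  simp only [← ha', ← map_pow, ← map_mul, ← map_add, ← map_sum, ← map_neg, mk] at key
  obtain ⟨f, hf⟩ := Ideal.mem_span_singleton.mp (Ideal.Quotient.eq.mp key)
  have hL := congrArg (func (p := p) (k := k) n) hf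
  rw [func_q_mul hn, map_sub, func_pow g' hn, map_add, map_neg, map_neg, func_C hp3 hn hF, map_sum,
    Finset.sum_eq_zero fun i _ => by rw [map_add, func_pow_mul hn, func_pow_mul hn, add_zero]] at hL
  simp at hL

end Groth.L04.ConeFLift
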