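import Groth.Agent.L01.PowSerReg
import Groth.Agent.L04.MatlisArtin
import Groth.Agent.L04.InjNoeth
import Mathlib.LinearAlgebra.Basis.VectorSpace
import Mathlib.Algebra.DirectSum.Finsupp
import Mathlib.Algebra.CharZero.Defs
import Mathlib.RingTheory.Derivation.Basic
import Mathlib.Tactic

/-!
# Torsion modules with connection over `k⟦x₁, …, x_d⟧`, characteristic zero

The socle map extends to an injective map `g : M → E^(J)`. The operator `∑ x_i D_i` acts on
`(0 : m^(l+1)) / (0 : m^l)` as the scalar `-(d + l)`; this gives surjectivity of `g` level by level.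
-/

set_option autoImplicit false
universe u

open MvPowerSeries InjHull

namespace Groth.L04.DTorsion

section Level

variable {k : Type u} [Field k] {d : ℕ} {M : Type u} [AddCommGroup M]
  [Module (MvPowerSeries (Fin d) k) M]

/-- Killed by all products of `l` variables. -/
def Lev : ℕ → M → Prop
  | 0, z => z = 0
  | l + 1, z => ∀ j : Fin d, Lev l ((MvPowerSeries.X j : MvPowerSeries (Fin d) k) • z)

theorem lev_zero : ∀ l : ℕ, Lev (k := k) (d := d) l (0 : M)
  | 0 => rfl
  | l + 1 => fun j => by rw [smul_zero]; exact lev_zero l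

theorem lev_add : ∀ (l : ℕ) {a b : M}, Lev (k := k) (d := d) l a → Lev (k := k) (d := d) l b →
    Lev (k := k) (d := d) l (a + b)
  | 0, a, b, ha, hb => by
    show a + b = 0
    rw [show a = 0 from ha, show b = 0 from hb, add_zero]
  | l + 1, a, b, ha, hb => fun j => by rw [smul_add]; exact lev_add l (ha j) (hb j)

theorem lev_smul : ∀ (l : ℕ) {a : M} (c : MvPowerSeries (Fin d) k), Lev (k := k) (d := d) l a →
    Lev (k := k) (d := d) l (c • a)
  | 0, a, c, ha => by
    show c • a = 0
    rw [show a = 0 from ha, smul_zero]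
  | l + 1, a, c, ha => fun j => by rw [smul_comm]; exact lev_smul l c (ha j)

theorem lev_one_iff {z : M} : Lev (k := k) (d := d) 1 z ↔
    ∀ a ∈ IsLocalRing.maximalIdeal (MvPowerSeries (Fin d) k), a • z = 0 := by
  refine ⟨fun h a ha => ?_, fun h j => h _ ?_⟩
  · rw [Groth.L01.PowSerReg.maximalIdeal_eq] at ha
    induction ha using Submodule.span_induction with
    | mem b hb => obtain ⟨j, rfl⟩ := hb; exact h j
    | zero => exact zero_smul _ z
    | add a b _ _ ha hb => rw [add_smul, ha, hb, add_zero]
    | smul c a _ ha => rw [smul_eq_mul, mul_smul, ha, smul_zero]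
  · rw [Groth.L01.PowSerReg.maximalIdeal_eq]
    exact Ideal.subset_span ⟨j, rfl⟩

theorem exists_lev (hM : LocCoh.IsPowerTorsion (IsLocalRing.maximalIdeal (MvPowerSeries (Fin d) k)) M)
    (z : M) : ∃ l, Lev (k := k) (d := d) l z := by
  obtain ⟨n, hn⟩ := hM z
  refine ⟨n, ?_⟩
  induction n generalizing z with
  | zero => show z = 0; simpa using hn 1 (by simp)
  | succ n ih =>
    intro j
    refine ih _ fun a ha => ?_
    rw [← mul_smul]
    refine hn _ ?_
    rw [pow_succ]
    refine Ideal.mul_mem_mul ha ?_
    rw [Groth.L01.PowSerReg.maximalIdeal_eq]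
    exact Ideal.subset_span ⟨j, rfl⟩

variable (θ : Fin d → Derivation k (MvPowerSeries (Fin d) k) (MvPowerSeries (Fin d) k))
  (hθ : ∀ i j : Fin d, θ i (MvPowerSeries.X j) = if i = j then 1 else 0)
  (D : Fin d → M →+ M)
  (hD : ∀ (i : Fin d) (f : MvPowerSeries (Fin d) k) (z : M), D i (f • z) = θ i f • z + f • D i z)

/-- `∑ x_i D_i + c`. -/
noncomputable def euler (c : ℕ) (z : M) : M :=
  (∑ i, (MvPowerSeries.X i : MvPowerSeries (Fin d) k) • D i z) + (c : MvPowerSeries (Fin d) k) • z

include hθ hD in
theorem X_smul_D (i j : Fin d) (z : M) :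
    (MvPowerSeries.X j : MvPowerSeries (Fin d) k) • D i z =
      D i ((MvPowerSeries.X j : MvPowerSeries (Fin d) k) • z) - (if i = j then z else 0) := by
  rw [hD, hθ]
  split_ifs <;> simp

include hθ hD in
theorem lev_euler : ∀ (l : ℕ) {z : M}, Lev (k := k) (d := d) (l + 1) z →
    Lev (k := k) (d := d) l (euler (k := k) D (d + l) z)
  | 0, z, hz => by
    show euler (k := k) D (d + 0) z = 0
    have h : ∀ i, (MvPowerSeries.X i : MvPowerSeries (Fin d) k) • D i z = -z := fun i => by
      rw [X_smul_D θ hθ D hD, show (MvPowerSeries.X i : MvPowerSeries (Fin d) k) • z = 0 from hz i,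
        map_zero, if_pos rfl, zero_sub]
    rw [euler, Finset.sum_congr rfl fun i _ => h i, Finset.sum_const, Finset.card_univ,
      Fintype.card_fin, add_zero, Nat.cast_smul_eq_nsmul, smul_neg, neg_add_cancel]
  | l + 1, z, hz => by
    intro j
    have e : (MvPowerSeries.X j : MvPowerSeries (Fin d) k) • euler (k := k) D (d + (l + 1)) z =
        euler (k := k) D (d + l) ((MvPowerSeries.X j : MvPowerSeries (Fin d) k) • z) := by
      have h1 : ∀ i, (MvPowerSeries.X j : MvPowerSeries (Fin d) k) • (MvPowerSeries.X i : MvPowerSeries (Fin d) k) • D i z =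
          (MvPowerSeries.X i : MvPowerSeries (Fin d) k) • D i ((MvPowerSeries.X j : MvPowerSeries (Fin d) k) • z) -
            (if i = j then (MvPowerSeries.X j : MvPowerSeries (Fin d) k) • z else 0) := fun i => by
        rw [smul_comm, X_smul_D θ hθ D hD, smul_sub]
        congr 1
        split_ifs with h
        · rw [h]
        · rw [smul_zero]
      rw [euler, euler, smul_add, Finset.smul_sum, Finset.sum_congr rfl fun i _ => h1 i,
        Finset.sum_sub_distrib, Finset.sum_ite_eq', if_pos (Finset.mem_univ j), smul_comm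
        (MvPowerSeries.X j : MvPowerSeries (Fin d) k), ← add_assoc d, Nat.cast_add_one, add_smul,
        one_smul]
      abel
    rw [e]
    exact lev_euler l (hz j)

variable {N : Type u} [AddCommGroup N] [Module (MvPowerSeries (Fin d) k) N]

include hθ hD in
theorem lev_mem_range [CharZero k] (g : M →ₗ[MvPowerSeries (Fin d) k] N) (hg : Function.Injective g)
    (hsoc : ∀ y : N, Lev (k := k) (d := d) 1 y → y ∈ LinearMap.range g) :
    ∀ (l : ℕ) (y : N), Lev (k := k) (d := d) l y → y ∈ LinearMap.range g := by
  have hlev : ∀ (l : ℕ) (z : M), Lev (k := k) (d := d) l (g z) → Lev (k := k) (d := d) l z := by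
    intro l
    induction l with
    | zero => intro z hz; exact hg (hz.trans (map_zero g).symm)
    | succ l ih => intro z hz j; exact ih _ (by rw [map_smul]; exact hz j)
  have hlev' : ∀ (l : ℕ) (z : M), Lev (k := k) (d := d) l z → Lev (k := k) (d := d) l (g z) := by
    intro l
    induction l with
    | zero => intro z hz; exact (congrArg g hz).trans (map_zero g)
    | succ l ih => intro z hz j; rw [← map_smul]; exact ih _ (hz j)
  intro l
  induction l with
  | zero => intro y hy; exact ⟨0, (map_zero g).trans (hy : y = 0).symm⟩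
  | succ l ih =>
    intro y hy
    rcases l with _ | l
    · exact hsoc y hy
    choose z hz using fun j => ih _ (hy j)
    have hzl : ∀ j, Lev (k := k) (d := d) (l + 1) (z j) := fun j => hlev _ _ (by rw [hz j]; exact hy j)
    have hcomm : ∀ i j, (MvPowerSeries.X j : MvPowerSeries (Fin d) k) • z i =
        (MvPowerSeries.X i : MvPowerSeries (Fin d) k) • z j := fun i j => hg (by
      rw [map_smul, map_smul, hz, hz, smul_comm])
    let c : MvPowerSeries (Fin d) k := MvPowerSeries.C (-((l + 1 : ℕ) : k)⁻¹)
    have hθc : ∀ i, θ i c = 0 := fun i => by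
      have : c = algebraMap k (MvPowerSeries (Fin d) k) (-((l + 1 : ℕ) : k)⁻¹) := rfl
      rw [this]
      exact (θ i).map_algebraMap _
    have hc : c * ((l + 1 : ℕ) : MvPowerSeries (Fin d) k) = -1 := by
      simp only [c]
      rw [← map_natCast (MvPowerSeries.C : k →+* MvPowerSeries (Fin d) k), ← map_mul, neg_mul,
        inv_mul_cancel₀ (Nat.cast_ne_zero.mpr (Nat.succ_ne_zero l)), map_neg, map_one]
    let z₀ : M := c • ∑ i, D i (z i)
    have hz₀ : ∀ j, Lev (k := k) (d := d) l
        (z j + (-1 : MvPowerSeries (Fin d) k) • (MvPowerSeries.X j : MvPowerSeries (Fin d) k) • z₀) := by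
      intro j
      have h1 : (MvPowerSeries.X j : MvPowerSeries (Fin d) k) • ∑ i, D i (z i) =
          euler (k := k) D (d + l) (z j) - ((l + 1 : ℕ) : MvPowerSeries (Fin d) k) • z j := by
        have h2 : ∀ i, (MvPowerSeries.X j : MvPowerSeries (Fin d) k) • D i (z i) =
            (MvPowerSeries.X i : MvPowerSeries (Fin d) k) • D i (z j) + z j - (if i = j then z j else 0) := fun i => by
          have e := X_smul_D θ hθ D hD i i (z j)
          rw [if_pos rfl, eq_sub_iff_add_eq] at e
          rw [X_smul_D θ hθ D hD, hcomm i j, ← e]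
          congr 1
          split_ifs with h
          · rw [h]
          · rfl
        rw [euler, Finset.smul_sum, Finset.sum_congr rfl fun i _ => h2 i, Finset.sum_sub_distrib,
          Finset.sum_add_distrib, Finset.sum_ite_eq', if_pos (Finset.mem_univ j), Finset.sum_const,
          Finset.card_univ, Fintype.card_fin, Nat.cast_add, Nat.cast_add_one, add_smul, add_smul,
          Nat.cast_smul_eq_nsmul, one_smul]
        abel
      have e2 : z j + (-1 : MvPowerSeries (Fin d) k) • (MvPowerSeries.X j : MvPowerSeries (Fin d) k) • z₀ =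
          (-c) • euler (k := k) D (d + l) (z j) := by
        simp only [z₀]
        rw [smul_comm (MvPowerSeries.X j : MvPowerSeries (Fin d) k) c, h1, smul_sub c, ← mul_smul c, hc,
          neg_smul, neg_smul, one_smul, one_smul, neg_smul]
        abel
      rw [e2]
      exact lev_smul l _ (lev_euler θ hθ D hD l (hzl j))
    have hy' : Lev (k := k) (d := d) (l + 1) (y + (-1 : MvPowerSeries (Fin d) k) • g z₀) := fun j => by
      rw [smul_add, smul_comm, ← hz j, ← map_smul, ← map_smul, ← map_add]
      exact hlev' l _ (hz₀ j)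
    obtain ⟨w, hw⟩ := ih _ hy'
    exact ⟨w + z₀, by rw [map_add, hw, neg_smul, one_smul, neg_add_cancel_right]⟩

end Level

theorem main (k : Type u) [Field k] [CharZero k] (d : ℕ) (E : Type u) [AddCommGroup E]
    [Module (MvPowerSeries (Fin d) k) E]
    (e : IsLocalRing.ResidueField (MvPowerSeries (Fin d) k) →ₗ[MvPowerSeries (Fin d) k] E)
    (he : IsInjectiveHull e)
    (θ : Fin d → Derivation k (MvPowerSeries (Fin d) k) (MvPowerSeries (Fin d) k))
    (hθ : ∀ i j : Fin d, θ i (MvPowerSeries.X j) = if i = j then 1 else 0)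
    (M : Type u) [AddCommGroup M] [Module (MvPowerSeries (Fin d) k) M]
    (hM : LocCoh.IsPowerTorsion (IsLocalRing.maximalIdeal (MvPowerSeries (Fin d) k)) M)
    (D : Fin d → M →+ M)
    (hD : ∀ (i : Fin d) (f : MvPowerSeries (Fin d) k) (z : M), D i (f • z) = θ i f • z + f • D i z) :
    ∃ J : Type u, Nonempty (M ≃ₗ[MvPowerSeries (Fin d) k] (J →₀ E)) := by
  classical
  haveI : IsNoetherianRing (MvPowerSeries (Fin d) k) := by
    haveI := Groth.L01.PowSerReg.isRegularLocalRing k d
    infer_instance
  let R := MvPowerSeries (Fin d) k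
  let m := IsLocalRing.maximalIdeal R
  letI : Module k M := Module.compHom M (algebraMap k R)
  haveI : IsScalarTower k R M := IsScalarTower.of_algebraMap_smul fun _ _ => rfl
  let S : Submodule R M := LocCoh.torsionBy m M
  have hS : ∀ {z : M}, z ∈ S ↔ ∀ a ∈ m, a • z = 0 := fun {z} => by
    rw [Submodule.mem_torsionBySet_iff]; exact ⟨fun h a ha => h ⟨a, ha⟩, fun h a => h a a.2⟩
  have hconst : ∀ (r : R) (z : M), z ∈ S → r • z = algebraMap k R (MvPowerSeries.constantCoeff r) • z := by
    intro r z hz
    rw [← sub_eq_zero, ← sub_smul]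
    refine hS.1 hz _ ?_
    rw [IsLocalRing.mem_maximalIdeal, mem_nonunits_iff, MvPowerSeries.isUnit_iff_constantCoeff]
    simp [R, MvPowerSeries.algebraMap_apply]
  let b := Module.Basis.ofVectorSpace k ↥(S.restrictScalars k)
  let ι := Module.Basis.ofVectorSpaceIndex k ↥(S.restrictScalars k)
  have he1 : ∀ a ∈ m, a • e 1 = 0 := fun a ha => by
    rw [← map_smul, Groth.L04.smul_residueField_eq_zero ha, map_zero]
  have hconst' : ∀ (r : R), r • e 1 = algebraMap k R (MvPowerSeries.constantCoeff r) • e 1 := by
    intro r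
    rw [← sub_eq_zero, ← sub_smul]
    refine he1 _ ?_
    rw [IsLocalRing.mem_maximalIdeal, mem_nonunits_iff, MvPowerSeries.isUnit_iff_constantCoeff]
    simp [R, MvPowerSeries.algebraMap_apply]
  let φ : ↥S →ₗ[R] (ι →₀ E) :=
    { toFun := fun z => (b.repr ⟨z.1, z.2⟩).mapRange (fun c => algebraMap k R c • e 1) (by simp)
      map_add' := fun z w => by
        ext i
        have : (⟨(z + w : ↥S).1, (z + w).2⟩ : ↥(S.restrictScalars k)) = ⟨z.1, z.2⟩ + ⟨w.1, w.2⟩ := rfl
        rw [Finsupp.add_apply, Finsupp.mapRange_apply, this, map_add, Finsupp.add_apply, map_add,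
          add_smul, Finsupp.mapRange_apply, Finsupp.mapRange_apply]
      map_smul' := fun r z => by
        ext i
        have : (⟨(r • z : ↥S).1, (r • z).2⟩ : ↥(S.restrictScalars k)) =
            MvPowerSeries.constantCoeff r • (⟨z.1, z.2⟩ : ↥(S.restrictScalars k)) :=
          Subtype.ext (hconst r z.1 z.2)
        rw [RingHom.id_apply, Finsupp.smul_apply, Finsupp.mapRange_apply, this, map_smul,
          Finsupp.smul_apply, smul_eq_mul, map_mul, mul_smul, Finsupp.mapRange_apply]
        rw [smul_comm r, hconst' r, smul_comm] }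
  have he_inj : ∀ c : k, algebraMap k R c • e 1 = 0 → c = 0 := by
    intro c hc
    by_contra h
    exact Groth.L04.hull_one_ne_zero he (((Ne.isUnit h).map (algebraMap k R)).smul_eq_zero.1 hc)
  have hφ : Function.Injective φ := by
    rw [injective_iff_map_eq_zero]
    intro z hz
    have h0 : b.repr ⟨z.1, z.2⟩ = 0 := Finsupp.ext fun i => he_inj _ (by
      simpa [φ] using congrArg (fun t : ι →₀ E => t i) hz)
    exact Subtype.ext (congrArg Subtype.val ((LinearEquiv.map_eq_zero_iff b.repr).1 h0))
  let q : (ι →₀ E) ≃ₗ[R] DirectSum ι (fun _ => E) := finsuppLEquivDirectSum R E ι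
  obtain ⟨g₀, hg₀⟩ := (Module.Baer.of_injective
    (Groth.L04.injective_directSum (R := R) (E := fun _ : ι => E) fun _ => he.isInjective)).extension_property
    S.subtype (Submodule.injective_subtype _) (q.toLinearMap ∘ₗ φ)
  let g : M →ₗ[R] (ι →₀ E) := q.symm.toLinearMap ∘ₗ g₀
  have hg : ∀ z : ↥S, g z = φ z := fun z => by
    show q.symm (g₀ (S.subtype z)) = φ z
    rw [← LinearMap.comp_apply g₀, hg₀, LinearMap.comp_apply, LinearEquiv.coe_coe, LinearEquiv.symm_apply_apply]
  have hginj : Function.Injective g := Groth.L04.injective_of_socle hM g fun x hx hgx => by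
    have := hφ (((hg ⟨x, hS.2 hx⟩).symm.trans hgx).trans (map_zero φ).symm)
    exact congrArg Subtype.val this
  have hsoc : ∀ y : ι →₀ E, Lev (k := k) (d := d) 1 y → y ∈ LinearMap.range g := by
    intro y hy
    rw [lev_one_iff] at hy
    have hy' : ∀ i, ∃ c : k, algebraMap k R c • e 1 = y i := fun i => by
      obtain ⟨r, hr⟩ := Groth.L04.exists_smul_of_killed he (x := y i) fun a ha => by
        rw [← Finsupp.smul_apply, hy a ha, Finsupp.zero_apply]
      exact ⟨_, (hconst' r).symm.trans hr.symm⟩
    choose c hc using hy'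
    let v : ι →₀ k := Finsupp.onFinset y.support c fun i hi => by
      rw [Finsupp.mem_support_iff]
      intro h
      exact hi (he_inj _ ((hc i).trans h))
    refine ⟨((b.repr.symm v : ↥(S.restrictScalars k)) : M), ?_⟩
    rw [hg ⟨_, (b.repr.symm v).2⟩]
    ext i
    simp [φ, v, hc]
  refine ⟨ι, ⟨LinearEquiv.ofBijective g ⟨hginj, fun y => ?_⟩⟩⟩
  have hE : LocCoh.IsPowerTorsion m (ι →₀ E) := by
    intro y
    induction y using Finsupp.induction_linear with
    | zero => exact ⟨0, fun a _ => smul_zero a⟩
    | add a c ha hc =>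
      obtain ⟨i, hi⟩ := ha
      obtain ⟨j, hj⟩ := hc
      exact ⟨max i j, fun r hr => by
        rw [smul_add, hi r (Ideal.pow_le_pow_right (le_max_left i j) hr),
          hj r (Ideal.pow_le_pow_right (le_max_right i j) hr), add_zero]⟩
    | single i x =>
      obtain ⟨n, hn⟩ := Groth.L04.hull_isPowerTorsion he x
      exact ⟨n, fun a ha => by rw [Finsupp.smul_single, hn a ha, Finsupp.single_zero]⟩
  obtain ⟨l, hl⟩ := exists_lev hE y
  exact lev_mem_range θ hθ D hD g hginj hsoc l y hl

end Groth.L04.DTorsion
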