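import Groth.Agent.L04.MatlisArtin
import Mathlib.RingTheory.AdicCompletion.Algebra

/-!
# The endomorphisms of the injective hull of the residue field, Matlis duality
-/

universe u v

namespace Groth.L04

open InjHull IsLocalRing

variable {R : Type u} [CommRing R] [IsLocalRing R] {E : Type u} [AddCommGroup E] [Module R E]
  {f : ResidueField R →ₗ[R] E}

theorem isFiniteLength_quotient_pow [IsNoetherianRing R] (n : ℕ) :
    IsFiniteLength R (R ⧸ maximalIdeal R ^ n) := by
  rcases n with _ | n
  · have : Subsingleton (R ⧸ maximalIdeal R ^ 0) :=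
      Ideal.Quotient.subsingleton_iff.2 (by rw [pow_zero, Ideal.one_eq_top])
    exact .of_subsingleton
  · have hart : IsArtinianRing (R ⧸ maximalIdeal R ^ (n + 1)) :=
      quotient_artinian_of_mem_minimalPrimes_of_isLocalRing (maximalIdeal R ^ (n + 1))
        ⟨⟨inferInstance, Ideal.pow_le_self n.succ_ne_zero⟩,
          fun q hq _ => hq.1.le_of_pow_le hq.2⟩
    rw [isFiniteLength_iff_isNoetherian_isArtinian]
    exact ⟨inferInstance,
      isArtinian_of_surjective_algebraMap (R := R ⧸ maximalIdeal R ^ (n + 1)) Ideal.Quotient.mk_surjective⟩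

/-- An element annihilates the part of the hull killed by `m ^ n` only if it is in `m ^ n`. -/
theorem mem_pow_of_smul_eq_zero (hf : IsInjectiveHull f) {n : ℕ} {r : R}
    (h : ∀ x : E, (∀ a ∈ maximalIdeal R ^ n, a • x = 0) → r • x = 0) :
    r ∈ maximalIdeal R ^ n := by
  by_contra hr
  obtain ⟨ψ, hψ⟩ := exists_hom_ne_zero hf (x := Ideal.Quotient.mk (maximalIdeal R ^ n) r)
    (by rwa [Ne, Ideal.Quotient.eq_zero_iff_mem])
  apply hψ
  have hk : ∀ a ∈ maximalIdeal R ^ n, a • ψ (Ideal.Quotient.mk (maximalIdeal R ^ n) 1) = 0 := by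
    intro a ha
    rw [← map_smul, ← Ideal.Quotient.mk_eq_mk, ← Submodule.Quotient.mk_smul, smul_eq_mul, mul_one,
      (Submodule.Quotient.mk_eq_zero _).2 ha, map_zero]
  have := h _ hk
  rw [← map_smul, ← Ideal.Quotient.mk_eq_mk, ← Submodule.Quotient.mk_smul, smul_eq_mul,
    mul_one] at this
  exact this

/-- An endomorphism of the hull is multiplication by some element on the part killed by `m ^ n`. -/
theorem exists_smul_eq_end [IsNoetherianRing R] (hf : IsInjectiveHull f) (φ : Module.End R E)
    (n : ℕ) : ∃ r : R, ∀ x : E, (∀ a ∈ maximalIdeal R ^ n, a • x = 0) → φ x = r • x := by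
  obtain ⟨c, hc⟩ := (applyₗ_bijective_of_isFiniteLength hf (isFiniteLength_quotient_pow n)).2
    (φ ∘ₗ LinearMap.applyₗ (Ideal.Quotient.mk (maximalIdeal R ^ n) 1))
  obtain ⟨r, rfl⟩ := Ideal.Quotient.mk_surjective c
  refine ⟨r, fun x hx => ?_⟩
  let ψ : (R ⧸ maximalIdeal R ^ n) →ₗ[R] E :=
    Submodule.liftQ _ (LinearMap.toSpanSingleton R E x) fun a ha => by simpa using hx a ha
  have := LinearMap.congr_fun hc ψ
  simpa [ψ, ← Ideal.Quotient.mk_eq_mk] using this.symm

section Completion

variable [IsNoetherianRing R] (hf : IsInjectiveHull f)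

theorem factor_evalₐ {I : Ideal R} {m n : ℕ} (hmn : m ≤ n) (a : AdicCompletion I R) :
    Ideal.Quotient.factor (Ideal.pow_le_pow_right hmn) (AdicCompletion.evalₐ I n a) =
      AdicCompletion.evalₐ I m a := by
  induction a using AdicCompletion.induction_on with
  | h x =>
    rw [AdicCompletion.evalₐ_mk, AdicCompletion.evalₐ_mk, Ideal.Quotient.factor_mk]
    exact AdicCompletion.Ideal.mk_eq_mk I hmn x

section Act

variable {M : Type v} [AddCommGroup M] [Module R M]
  (hT : LocCoh.IsPowerTorsion (maximalIdeal R) M)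

/-- The action of the completion on a torsion module. -/
noncomputable def completionAct (a : AdicCompletion (maximalIdeal R) R) (x : M) : M :=
  (Ideal.Quotient.mk_surjective
    (AdicCompletion.evalₐ (maximalIdeal R) (hT x).choose a)).choose • x

theorem completionAct_eq (a : AdicCompletion (maximalIdeal R) R) {x : M} {k : ℕ}
    (hk : ∀ b ∈ maximalIdeal R ^ k, b • x = 0) {r : R}
    (hr : Ideal.Quotient.mk (maximalIdeal R ^ k) r = AdicCompletion.evalₐ _ k a) :
    completionAct hT a x = r • x := by
  set n := (hT x).choose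
  have hn : ∀ b ∈ maximalIdeal R ^ n, b • x = 0 := (hT x).choose_spec
  set s := (Ideal.Quotient.mk_surjective
    (AdicCompletion.evalₐ (maximalIdeal R) n a)).choose with hs
  have hs' : Ideal.Quotient.mk (maximalIdeal R ^ n) s = AdicCompletion.evalₐ _ n a :=
    (Ideal.Quotient.mk_surjective _).choose_spec
  show s • x = r • x
  rw [← sub_eq_zero, ← sub_smul]
  rcases le_total n k with h | h
  · refine hn _ ((Ideal.Quotient.mk_eq_mk_iff_sub_mem _ _).1 ?_)
    rw [hs', ← factor_evalₐ h a, ← hr, Ideal.Quotient.factor_mk]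
  · refine hk _ ((Ideal.Quotient.mk_eq_mk_iff_sub_mem _ _).1 ?_)
    rw [hr, ← factor_evalₐ h a, ← hs', Ideal.Quotient.factor_mk]

theorem completionAct_spec (a : AdicCompletion (maximalIdeal R) R) (x : M) (k : ℕ)
    (hk : ∀ b ∈ maximalIdeal R ^ k, b • x = 0) :
    ∃ r : R, Ideal.Quotient.mk (maximalIdeal R ^ k) r = AdicCompletion.evalₐ _ k a ∧
      completionAct hT a x = r • x := by
  obtain ⟨r, hr⟩ := Ideal.Quotient.mk_surjective (AdicCompletion.evalₐ (maximalIdeal R) k a)
  exact ⟨r, hr, completionAct_eq hT a hk hr⟩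

/-- The action of the completion as a linear map. -/
noncomputable def completionEnd (a : AdicCompletion (maximalIdeal R) R) : Module.End R M where
  toFun := completionAct hT a
  map_add' x y := by
    obtain ⟨i, hi⟩ := hT x
    obtain ⟨j, hj⟩ := hT y
    have hi' : ∀ b ∈ maximalIdeal R ^ (max i j), b • x = 0 := fun b hb =>
      hi b (Ideal.pow_le_pow_right (le_max_left i j) hb)
    have hj' : ∀ b ∈ maximalIdeal R ^ (max i j), b • y = 0 := fun b hb =>
      hj b (Ideal.pow_le_pow_right (le_max_right i j) hb)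
    obtain ⟨r, hr, hx⟩ := completionAct_spec hT a x _ hi'
    rw [hx, completionAct_eq hT a hj' hr, completionAct_eq hT a
      (fun b hb => by rw [smul_add, hi' b hb, hj' b hb, add_zero]) hr, smul_add]
  map_smul' c x := by
    obtain ⟨i, hi⟩ := hT x
    obtain ⟨r, hr, hx⟩ := completionAct_spec hT a x _ hi
    rw [hx, completionAct_eq hT a (fun b hb => by rw [smul_comm, hi b hb, smul_zero]) hr,
      smul_comm]
    rfl

end Act

/-- The completion maps to the endomorphism ring of the hull. -/
noncomputable def completionToEnd :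
    AdicCompletion (maximalIdeal R) R →ₐ[R] Module.End R E where
  toFun := completionEnd (hull_isPowerTorsion hf)
  map_one' := LinearMap.ext fun x => by
    obtain ⟨i, hi⟩ := hull_isPowerTorsion hf x
    show completionAct (hull_isPowerTorsion hf) 1 x = x
    rw [completionAct_eq (hull_isPowerTorsion hf) 1 hi (r := 1) (by rw [map_one, map_one]), one_smul]
  map_mul' a b := LinearMap.ext fun x => by
    obtain ⟨i, hi⟩ := hull_isPowerTorsion hf x
    obtain ⟨s, hs, hx⟩ := completionAct_spec (hull_isPowerTorsion hf) b x _ hi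
    have hsx : ∀ c ∈ maximalIdeal R ^ i, c • (s • x) = 0 := fun c hc => by
      rw [smul_comm, hi c hc, smul_zero]
    obtain ⟨r, hr, hx'⟩ := completionAct_spec (hull_isPowerTorsion hf) a (s • x) _ hsx
    show completionAct (hull_isPowerTorsion hf) (a * b) x = completionAct (hull_isPowerTorsion hf) a (completionAct (hull_isPowerTorsion hf) b x)
    rw [hx, hx', completionAct_eq (hull_isPowerTorsion hf) (a * b) hi (r := r * s) (by rw [map_mul, map_mul, hr, hs]),
      mul_smul]
  map_zero' := LinearMap.ext fun x => by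
    obtain ⟨i, hi⟩ := hull_isPowerTorsion hf x
    show completionAct (hull_isPowerTorsion hf) 0 x = 0
    rw [completionAct_eq (hull_isPowerTorsion hf) 0 hi (r := 0) (by rw [map_zero, map_zero]), zero_smul]
  map_add' a b := LinearMap.ext fun x => by
    obtain ⟨i, hi⟩ := hull_isPowerTorsion hf x
    obtain ⟨r, hr, hx⟩ := completionAct_spec (hull_isPowerTorsion hf) a x _ hi
    obtain ⟨s, hs, hx'⟩ := completionAct_spec (hull_isPowerTorsion hf) b x _ hi
    show completionAct (hull_isPowerTorsion hf) (a + b) x = completionAct (hull_isPowerTorsion hf) a x + completionAct (hull_isPowerTorsion hf) b x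
    rw [hx, hx', completionAct_eq (hull_isPowerTorsion hf) (a + b) hi (r := r + s) (by rw [map_add, map_add, hr, hs]),
      add_smul]
  commutes' c := LinearMap.ext fun x => by
    obtain ⟨i, hi⟩ := hull_isPowerTorsion hf x
    show completionAct (hull_isPowerTorsion hf) (algebraMap R _ c) x = c • x
    exact completionAct_eq (hull_isPowerTorsion hf) _ hi (r := c) (by rw [AlgHom.commutes]; rfl)

theorem completionToEnd_bijective : Function.Bijective (completionToEnd hf) := by
  refine ⟨(injective_iff_map_eq_zero _).2 fun a ha => AdicCompletion.ext_evalₐ fun n => ?_,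
    fun φ => ?_⟩
  · obtain ⟨r, hr⟩ := Ideal.Quotient.mk_surjective (AdicCompletion.evalₐ (maximalIdeal R) n a)
    rw [map_zero, ← hr, Ideal.Quotient.eq_zero_iff_mem]
    refine mem_pow_of_smul_eq_zero hf fun x hx => ?_
    rw [← completionAct_eq (hull_isPowerTorsion hf) a hx hr]
    exact LinearMap.congr_fun ha x
  · choose r hr using exists_smul_eq_end hf φ
    have hcauchy : ∀ n, r n ≡ r (n + 1) [SMOD (maximalIdeal R ^ n • ⊤ : Submodule R R)] := by
      intro n
      rw [SModEq.sub_mem, smul_eq_mul, Ideal.mul_top]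
      refine mem_pow_of_smul_eq_zero hf fun x hx => ?_
      rw [sub_smul, ← hr n x hx,
        ← hr (n + 1) x (fun b hb => hx b (Ideal.pow_le_pow_right n.le_succ hb)), sub_self]
    refine ⟨AdicCompletion.mk _ R (AdicCompletion.AdicCauchySequence.mk (maximalIdeal R) R r hcauchy),
      LinearMap.ext fun x => ?_⟩
    obtain ⟨i, hi⟩ := hull_isPowerTorsion hf x
    show completionAct (hull_isPowerTorsion hf) _ x = φ x
    rw [hr i x hi]
    exact completionAct_eq (hull_isPowerTorsion hf) _ hi (by rw [AdicCompletion.evalₐ_mk]; rfl)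

/-- The endomorphism ring of the hull is the completion. -/
noncomputable def endEquivCompletion :
    Module.End R E ≃ₐ[R] AdicCompletion (maximalIdeal R) R :=
  (AlgEquiv.ofBijective _ (completionToEnd_bijective hf)).symm

include hf

theorem algebraMap_end_bijective [IsAdicComplete (maximalIdeal R) R] :
    Function.Bijective (algebraMap R (Module.End R E)) := by
  rw [← (completionToEnd hf).comp_algebraMap, RingHom.coe_comp]
  exact (completionToEnd_bijective hf).comp (AdicCompletion.of_bijective (maximalIdeal R) R)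

theorem exists_smul_eq_of_complete [IsAdicComplete (maximalIdeal R) R] (φ : E →ₗ[R] E) :
    ∃ r : R, ∀ x, φ x = r • x := by
  obtain ⟨r, hr⟩ := (algebraMap_end_bijective hf).2 φ
  exact ⟨r, fun x => by rw [← hr]; rfl⟩

end Completion

section Duality

variable [IsNoetherianRing R] [IsAdicComplete (maximalIdeal R) R] (hf : IsInjectiveHull f)

include hf

theorem applyₗ_pi_surjective (n : ℕ) : Function.Surjective
    (LinearMap.applyₗ : (Fin n → R) →ₗ[R] ((Fin n → R) →ₗ[R] E) →ₗ[R] E) := by
  intro η
  have hsmul : ∀ i, ∃ r : R, ∀ e : E,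
      η (LinearMap.toSpanSingleton R E e ∘ₗ LinearMap.proj i) = r • e := fun i =>
    exists_smul_eq_of_complete hf (η ∘ₗ (LinearMap.lcomp R E (LinearMap.proj (R := R)
      (φ := fun _ : Fin n => R) i)) ∘ₗ (LinearMap.ringLmapEquivSelf R R E).symm.toLinearMap) 
  choose v hv using hsmul
  refine ⟨v, LinearMap.ext fun ψ => ?_⟩
  have hψ : ψ = ∑ i, LinearMap.toSpanSingleton R E (ψ (Pi.single i 1)) ∘ₗ LinearMap.proj i := by
    refine LinearMap.ext fun w => ?_
    conv_lhs => rw [pi_eq_sum_univ' w]
    simp [map_sum]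
  rw [LinearMap.applyₗ_apply_apply]
  conv_rhs => rw [hψ]
  conv_lhs => rw [pi_eq_sum_univ' v]
  simp only [map_sum, map_smul, hv]

theorem applyₗ_bijective_of_finite (M : Type u) [AddCommGroup M] [Module R M]
    [Module.Finite R M] :
    Function.Bijective (LinearMap.applyₗ : M →ₗ[R] (M →ₗ[R] E) →ₗ[R] E) := by
  refine ⟨applyₗ_injective hf M, fun ξ => ?_⟩
  obtain ⟨n, π, hπ⟩ := Module.Finite.exists_fin' R M
  have hinj : Function.Injective (LinearMap.lcomp R E π) := fun a b hab =>
    LinearMap.ext fun x => by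
      obtain ⟨w, rfl⟩ := hπ x
      exact LinearMap.congr_fun hab w
  obtain ⟨η, hη⟩ := hf.isInjective.out (LinearMap.lcomp R E π) hinj ξ
  obtain ⟨v, rfl⟩ := applyₗ_pi_surjective hf n η
  exact ⟨π v, LinearMap.ext fun ψ => hη ψ⟩

theorem finite_hom_and_bijective_of_isArtinian (M : Type u) [AddCommGroup M] [Module R M]
    [IsArtinian R M] :
    Module.Finite R (M →ₗ[R] E) ∧
      Function.Bijective (LinearMap.applyₗ : M →ₗ[R] (M →ₗ[R] E) →ₗ[R] E) := by
  haveI : Module.Finite (R ⧸ maximalIdeal R) (LocCoh.torsionBy (maximalIdeal R) M) :=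
    socle_finite_of_isArtinian
  obtain ⟨g, hg⟩ := exists_embedding_pi hf isPowerTorsion_of_isArtinian _ rfl (M := M)
  generalize Module.finrank (R ⧸ maximalIdeal R) (LocCoh.torsionBy (maximalIdeal R) M) = n at g
  let q : Fin n → (M →ₗ[R] E) := fun i => LinearMap.proj i ∘ₗ g
  have hlin : ∀ h : (Fin n → E) →ₗ[R] E, ∃ c : Fin n → R, ∀ w, h w = ∑ i, c i • w i := by
    intro h
    choose c hc using fun i =>
      exists_smul_eq_of_complete hf (h ∘ₗ LinearMap.single R (fun _ : Fin n => E) i)
    refine ⟨c, fun w => ?_⟩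
    conv_lhs => rw [← Finset.univ_sum_single w]
    rw [map_sum]
    exact Finset.sum_congr rfl fun i _ => hc i (w i)
  have hgen : ∀ ψ : M →ₗ[R] E, ∃ c : Fin n → R, ψ = ∑ i, c i • q i := by
    intro ψ
    obtain ⟨h, hh⟩ := hf.isInjective.out g hg ψ
    obtain ⟨c, hc⟩ := hlin h
    exact ⟨c, LinearMap.ext fun m => by simp [q, ← hh, hc]⟩
  refine ⟨Module.Finite.of_surjective (Fintype.linearCombination R q) fun ψ => ?_,
    applyₗ_injective hf M, fun ξ => ?_⟩
  · obtain ⟨c, rfl⟩ := hgen ψ
    exact ⟨c, by simp [Fintype.linearCombination_apply]⟩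
  · have hmem : (fun i => ξ (q i)) ∈ LinearMap.range g := by
      by_contra hne
      obtain ⟨h, hh⟩ := exists_hom_ne_zero hf
        (x := (LinearMap.range g).mkQ fun i => ξ (q i))
        (by simpa [Submodule.Quotient.mk_eq_zero] using hne)
      obtain ⟨c, hc⟩ := hlin (h ∘ₗ (LinearMap.range g).mkQ)
      apply hh
      rw [← LinearMap.comp_apply, hc]
      have hz : ∑ i, c i • q i = 0 := LinearMap.ext fun m => by
        have := hc (g m)
        rw [LinearMap.comp_apply, show (LinearMap.range g).mkQ (g m) = 0 from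
          (Submodule.Quotient.mk_eq_zero _).2 ⟨m, rfl⟩, map_zero] at this
        simpa [q] using this.symm
      rw [show ∑ i, c i • ξ (q i) = ξ (∑ i, c i • q i) by simp [map_sum], hz, map_zero]
    obtain ⟨m, hm⟩ := hmem
    refine ⟨m, LinearMap.ext fun ψ => ?_⟩
    obtain ⟨c, rfl⟩ := hgen ψ
    rw [LinearMap.applyₗ_apply_apply, map_sum, LinearMap.sum_apply]
    refine Finset.sum_congr rfl fun i _ => ?_
    rw [map_smul, LinearMap.smul_apply]
    exact congrArg (c i • ·) (congrFun hm i)

end Duality

end Groth.L04
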