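import Groth.Agent.L04.Reflexive
import Groth.Agent.L04.MatlisEnd
import Groth.Prelude.Def_FlatCA
import Groth.Prelude.Def_EGA4b
import Mathlib.RingTheory.Localization.BaseChange
import Mathlib.RingTheory.FiniteLength
import Mathlib.RingTheory.AdicCompletion.Noetherian
import Mathlib.RingTheory.Filtration

/-! Flatness from a closed fibre of positive depth along a closed subset off which the module is flat. -/

set_option autoImplicit false

universe u

open scoped TensorProduct

open TensorProduct

namespace Groth.L04.FibFlat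

variable {A B : Type u} [CommRing A] [CommRing B] [Algebra A B]
  (M : Type u) [AddCommGroup M] [Module B M] [Module A M] [IsScalarTower A B M]

theorem finite_tensor [Module.Finite B M] (N : Type u) [AddCommGroup N] [Module A N] [Module.Finite A N] :
    Module.Finite B (M ⊗[A] N) := by
  obtain ⟨S, hS⟩ := (inferInstance : Module.Finite A N).fg_top
  let f : (S → M) →ₗ[B] M ⊗[A] N :=
    ∑ s : S, ((AlgebraTensorModule.mk A B M N).flip (s : N)) ∘ₗ (LinearMap.proj s)
  refine Module.Finite.of_surjective f fun t => ?_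
  induction t using TensorProduct.induction_on with
  | zero => exact ⟨0, map_zero f⟩
  | tmul m n =>
    obtain ⟨c, hc⟩ := Submodule.mem_span_finset'.1 (hS.ge (Submodule.mem_top (x := n)))
    refine ⟨fun s => c s • m, ?_⟩
    rw [← hc, tmul_sum]
    simp [f, LinearMap.sum_apply, smul_tmul]
  | add a b ha hb =>
    obtain ⟨x, rfl⟩ := ha
    obtain ⟨y, rfl⟩ := hb
    exact ⟨x + y, map_add f x y⟩

theorem nonempty_tensor_quotient_equiv (I : Ideal A) :
    Nonempty ((M ⧸ (I.map (algebraMap A B) • (⊤ : Submodule B M))) ≃ₗ[B] M ⊗[A] (A ⧸ I)) := by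
  let P : Submodule B M := I.map (algebraMap A B) • ⊤
  let φ : M →ₗ[B] M ⊗[A] (A ⧸ I) := (AlgebraTensorModule.mk A B M (A ⧸ I)).flip 1
  have hP : P ≤ LinearMap.ker φ := by
    refine Submodule.smul_le.2 fun b hb m _ => ?_
    rw [LinearMap.mem_ker]
    have : I.map (algebraMap A B) ≤ LinearMap.ker (LinearMap.toSpanSingleton B _ (φ m)) := by
      rw [Ideal.map_le_iff_le_comap]
      intro a ha
      rw [Ideal.mem_comap, LinearMap.mem_ker, LinearMap.toSpanSingleton_apply, algebraMap_smul]
      change a • (m ⊗ₜ[A] (1 : A ⧸ I)) = 0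
      rw [← tmul_smul, Algebra.smul_def, mul_one, Ideal.Quotient.algebraMap_eq,
        Ideal.Quotient.eq_zero_iff_mem.2 ha, tmul_zero]
    rw [map_smul]
    exact LinearMap.mem_ker.1 (this hb)
  let ψ : M ⊗[A] (A ⧸ I) →ₗ[A] M ⧸ P := TensorProduct.lift (LinearMap.flip
    (I.liftQ (LinearMap.toSpanSingleton A (M →ₗ[A] M ⧸ P) ((P.mkQ).restrictScalars A)) (fun a ha => by
      refine LinearMap.ext fun m => ?_
      change a • P.mkQ m = 0
      rw [← algebraMap_smul B a, ← map_smul]
      exact (Submodule.Quotient.mk_eq_zero _).2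
        (Submodule.smul_mem_smul (Ideal.mem_map_of_mem _ ha) Submodule.mem_top))))
  refine ⟨LinearEquiv.ofBijective (P.liftQ φ hP) ⟨?_, fun t => ?_⟩⟩
  · rw [← LinearMap.ker_eq_bot]
    refine Submodule.ker_liftQ_eq_bot _ _ _ fun m hm => ?_
    have h := congrArg ψ (LinearMap.mem_ker.1 hm)
    rw [map_zero] at h
    refine (Submodule.Quotient.mk_eq_zero P).1 (Eq.trans ?_ h)
    change P.mkQ m = (1 : A) • P.mkQ m
    rw [one_smul]
  · induction t using TensorProduct.induction_on with
    | zero => exact ⟨0, map_zero _⟩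
    | tmul m y =>
      obtain ⟨a, rfl⟩ := Submodule.mkQ_surjective I y
      refine ⟨Submodule.Quotient.mk (a • m), ?_⟩
      change (a • m) ⊗ₜ[A] (1 : A ⧸ I) = m ⊗ₜ[A] Submodule.Quotient.mk a
      rw [smul_tmul, Algebra.smul_def, mul_one, Ideal.Quotient.algebraMap_eq]
      rfl
    | add x y hx hy =>
      obtain ⟨u, hu⟩ := hx
      obtain ⟨v, hv⟩ := hy
      exact ⟨u + v, by rw [map_add, hu, hv]⟩

variable [IsNoetherianRing A] [IsNoetherianRing B] [IsLocalRing A] (J : Ideal B) [Module.Finite B M]

theorem lTensor_injective_of_depth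
    (hU : ∀ q : PrimeSpectrum B, ¬ J ≤ q.asIdeal → FlatCA.FlatAt A q.asIdeal M)
    {N N' : Type u} [AddCommGroup N] [Module A N] [Module.Finite A N] [AddCommGroup N'] [Module A N']
    (f : N →ₗ[A] N') (hf : Function.Injective f) (hN : 1 ≤ LocCoh.idealDepth J (M ⊗[A] N)) :
    Function.Injective (f.lTensor M) := by
  haveI := finite_tensor (A := A) (B := B) M N
  refine (injective_iff_map_eq_zero _).2 fun x hx => eq_zero_of_off J hN fun q hq => ?_
  haveI : Module.Flat A (LocalizedModule q.asIdeal.primeCompl M) := hU q hq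
  let mk := LocalizedModule.mkLinearMap q.asIdeal.primeCompl M
  have key : ∀ y : M ⊗[A] N, f.lTensor (LocalizedModule q.asIdeal.primeCompl M)
      (AlgebraTensorModule.rTensor A N mk y) = AlgebraTensorModule.rTensor A N' mk (f.lTensor M y) := by
    intro y
    induction y using TensorProduct.induction_on with
    | zero => simp
    | tmul m n => rfl
    | add a b ha hb => simp only [map_add, ha, hb]
  have h0 : AlgebraTensorModule.rTensor A N mk x = 0 :=
    Module.Flat.lTensor_preserves_injective_linearMap f hf (by rw [key, hx, map_zero, map_zero])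
  obtain ⟨s, hs⟩ := (IsLocalizedModule.eq_zero_iff q.asIdeal.primeCompl (AlgebraTensorModule.rTensor A N mk)).1 h0
  exact ⟨s, s.2, hs⟩

theorem le_idealDepth_tensor_finiteLength
    (hU : ∀ q : PrimeSpectrum B, ¬ J ≤ q.asIdeal → FlatCA.FlatAt A q.asIdeal M)
    (k : ℕ) (hk : 1 ≤ k) (h : (k : ℕ∞) ≤ LocCoh.idealDepth J (EGA4.FibMod A B M))
    {N : Type u} [AddCommGroup N] [Module A N] (hN : IsFiniteLength A N) :
    (k : ℕ∞) ≤ LocCoh.idealDepth J (M ⊗[A] N) := by
  induction hN with
  | @of_subsingleton N _ _ _ =>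
    haveI : Subsingleton (M ⊗[A] N) := subsingleton_of_forall_eq 0 fun t => by
      induction t using TensorProduct.induction_on with
      | zero => rfl
      | tmul m n => rw [Subsingleton.elim n 0, tmul_zero]
      | add a b ha hb => rw [ha, hb, add_zero]
    rw [idealDepth_eq_top (Subsingleton.elim _ _)]
    exact le_top
  | @of_simple_quotient N _ _ N₀ _ hN₀ ih =>
    haveI : Module.Finite A N := by
      haveI : IsNoetherian A N := (isFiniteLength_iff_isNoetherian_isArtinian.1 (IsFiniteLength.of_simple_quotient hN₀)).1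
      infer_instance
    haveI : Module.Finite A N₀ := Module.Finite.of_fg (IsNoetherian.noetherian _)
    haveI := finite_tensor (A := A) (B := B) M N₀
    haveI := finite_tensor (A := A) (B := B) M N
    haveI := finite_tensor (A := A) (B := B) M (N ⧸ N₀)
    obtain ⟨P, hP, ⟨e⟩⟩ := isSimpleModule_iff_quot_maximal.1 (inferInstance : IsSimpleModule A (N ⧸ N₀))
    obtain rfl := IsLocalRing.eq_maximalIdeal hP
    obtain ⟨e'⟩ := nonempty_tensor_quotient_equiv (B := B) M (IsLocalRing.maximalIdeal A)
    have hq : (k : ℕ∞) ≤ LocCoh.idealDepth J (M ⊗[A] (N ⧸ N₀)) := by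
      rw [← idealDepth_congr (e'.trans (AlgebraTensorModule.congr (LinearEquiv.refl B M) e.symm))]
      exact h
    exact le_idealDepth_mid (I := J) (f := AlgebraTensorModule.lTensor B M N₀.subtype)
      (g := AlgebraTensorModule.lTensor B M N₀.mkQ)
      (lTensor_injective_of_depth M J hU N₀.subtype N₀.injective_subtype
        (le_trans (by exact_mod_cast hk) ih))
      (LinearMap.lTensor_surjective M N₀.mkQ_surjective)
      (lTensor_exact M (LinearMap.exact_subtype_mkQ N₀) N₀.mkQ_surjective) ih hq

theorem flat_of_finiteLength [IsLocalRing B] [IsLocalHom (algebraMap A B)]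
    (h : ∀ {N N' : Type u} [AddCommGroup N] [Module A N] [AddCommGroup N'] [Module A N']
      (f : N →ₗ[A] N'), Function.Injective f → IsFiniteLength A N' → Function.Injective (f.lTensor M)) :
    Module.Flat A M := by
  rw [Module.Flat.iff_lTensor_injective']
  intro I
  haveI := finite_tensor (A := A) (B := B) M I
  refine (injective_iff_map_eq_zero _).2 fun x hx => ?_
  let m := IsLocalRing.maximalIdeal A
  haveI : IsHausdorff (m.map (algebraMap A B)) (M ⊗[A] I) :=
    IsHausdorff.of_le_jacobson _ _ (by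
      rw [IsLocalRing.jacobson_eq_maximalIdeal _ bot_ne_top]
      exact IsLocalRing.map_maximalIdeal_le _)
  refine IsHausdorff.haus' (I := m.map (algebraMap A B)) x fun k => ?_
  rw [SModEq.sub_mem, sub_zero]
  obtain ⟨c, hc⟩ := m.exists_pow_inf_eq_pow_smul (I : Submodule A A)
  let n := k + c
  let K : Submodule A I := Submodule.comap I.subtype (m ^ n : Ideal A)
  have hK : K ≤ m ^ k • (⊤ : Submodule A I) := by
    intro y hy
    have h1 : (y : A) ∈ m ^ n • (⊤ : Submodule A A) ⊓ I :=
      ⟨by rw [smul_eq_mul, Ideal.mul_top]; exact hy, y.2⟩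
    rw [hc n (by omega)] at h1
    have h2 : (y : A) ∈ m ^ k • (I : Submodule A A) :=
      Submodule.smul_mono (Ideal.pow_le_pow_right (by omega)) inf_le_right h1
    have h3 : (y : A) ∈ Submodule.map I.subtype (m ^ k • (⊤ : Submodule A I)) := by
      rw [Submodule.map_smul'', Submodule.map_top, Submodule.range_subtype]
      exact h2
    obtain ⟨z, hz, hzy⟩ := h3
    rwa [← Subtype.ext hzy]
  let f : (I ⧸ K) →ₗ[A] A ⧸ m ^ n := Submodule.mapQ K (m ^ n) I.subtype le_rfl
  have hf : Function.Injective f := by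
    rw [← LinearMap.ker_eq_bot]
    exact Submodule.ker_liftQ_eq_bot _ _ _ (by rw [LinearMap.ker_comp, Submodule.ker_mkQ])
  have hinj := h f hf (isFiniteLength_quotient_pow (R := A) n)
  have hq : K.mkQ.lTensor M x = 0 := by
    apply hinj
    rw [map_zero, ← LinearMap.comp_apply, ← LinearMap.lTensor_comp,
      show f ∘ₗ K.mkQ = (m ^ n).mkQ ∘ₗ I.subtype from rfl,
      LinearMap.lTensor_comp, LinearMap.comp_apply, hx, map_zero]
  obtain ⟨y, rfl⟩ := ((lTensor_exact M (LinearMap.exact_subtype_mkQ K) K.mkQ_surjective) x).mp hq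
  clear hq hx
  induction y using TensorProduct.induction_on with
  | zero => simp
  | tmul a z =>
    rw [LinearMap.lTensor_tmul]
    change a ⊗ₜ[A] (z : I) ∈ _
    have hz := hK z.2
    generalize (z : ↥I) = z' at hz
    refine Submodule.smul_induction_on hz (fun r hr w _ => ?_) (fun u v hu hv => ?_)
    · rw [TensorProduct.tmul_smul, ← algebraMap_smul B r]
      exact Submodule.smul_mem_smul (Ideal.map_pow (algebraMap A B) m k ▸ Ideal.mem_map_of_mem _ hr) Submodule.mem_top
    · rw [TensorProduct.tmul_add]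
      exact add_mem hu hv
  | add u v hu hv =>
    rw [map_add]
    exact add_mem hu hv

theorem flat_of_depth [IsLocalRing B] [IsLocalHom (algebraMap A B)]
    (hU : ∀ q : PrimeSpectrum B, ¬ J ≤ q.asIdeal → FlatCA.FlatAt A q.asIdeal M)
    (h : 1 ≤ LocCoh.idealDepth J (EGA4.FibMod A B M)) : Module.Flat A M := by
  refine flat_of_finiteLength (B := B) M fun {N N'} _ _ _ _ f hf hN' => ?_
  obtain ⟨h1, h2⟩ := isFiniteLength_iff_isNoetherian_isArtinian.1 hN'
  haveI := h1
  haveI := h2
  haveI : IsNoetherian A N := isNoetherian_of_injective f hf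
  haveI : IsArtinian A N := isArtinian_of_injective f hf
  have hN : IsFiniteLength A N := isFiniteLength_iff_isNoetherian_isArtinian.2 ⟨inferInstance, inferInstance⟩
  exact lTensor_injective_of_depth M J hU f hf
    (by simpa using le_idealDepth_tensor_finiteLength M J hU 1 le_rfl (by simpa using h) hN)

theorem two_le_idealDepth_quotient_pow
    (hU : ∀ q : PrimeSpectrum B, ¬ J ≤ q.asIdeal → FlatCA.FlatAt A q.asIdeal M)
    (h : 2 ≤ LocCoh.idealDepth J (EGA4.FibMod A B M)) (n : ℕ) :
    2 ≤ LocCoh.idealDepth J (M ⧸ ((EGA4.mB A B) ^ n • (⊤ : Submodule B M))) := by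
  obtain ⟨e⟩ := nonempty_tensor_quotient_equiv (B := B) M (IsLocalRing.maximalIdeal A ^ n)
  haveI := finite_tensor (A := A) (B := B) M (A ⧸ IsLocalRing.maximalIdeal A ^ n)
  have h2 := le_idealDepth_tensor_finiteLength M J hU 2 one_le_two (by exact_mod_cast h)
    (isFiniteLength_quotient_pow (R := A) n)
  rw [EGA4.mB, ← Ideal.map_pow, idealDepth_congr e]
  exact_mod_cast h2

end Groth.L04.FibFlat
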