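import Groth.Agent.L04.FibFlat
import Groth.Agent.L04.LC.Depth
import Groth.Agent.L04.LC.Torsion
import Groth.Agent.L01.FlatCx.Seq
import Groth.Agent.L20.FibreFT
import Mathlib.Algebra.Module.LocalizedModule.Exact

/-! Four-term sequences of finite modules, flat off `V(J)`, over a local homomorphism. -/

set_option autoImplicit false
set_option maxHeartbeats 400000

universe u

open scoped TensorProduct

open TensorProduct

namespace Groth.L04.FibFlat

variable {A B : Type u} [CommRing A] [CommRing B] [IsNoetherianRing A] [IsNoetherianRing B]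
  [IsLocalRing A] [IsLocalRing B] [Algebra A B] [IsLocalHom (algebraMap A B)] (J : Ideal B)

omit [IsNoetherianRing A] [IsLocalRing A] [IsLocalRing B] [IsLocalHom (algebraMap A B)] in
/-- An element killed off `V(J)` is `J`-power torsion. -/
theorem isPowerTorsion_of_off {M : Type u} [AddCommGroup M] [Module B M]
    (hx : ∀ (x : M) (p : PrimeSpectrum B), ¬ J ≤ p.asIdeal → ∃ s : B, s ∉ p.asIdeal ∧ s • x = 0) :
    LocCoh.IsPowerTorsion J M := fun x => by
  have hle : J ≤ (Ideal.torsionOf B M x).radical := by
    rw [Ideal.radical_eq_sInf]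
    refine le_sInf fun q hq => ?_
    by_contra hI
    obtain ⟨s, hs, hsx⟩ := hx x ⟨q, hq.2⟩ hI
    exact hs (hq.1 ((Ideal.mem_torsionOf_iff x s).2 hsx))
  obtain ⟨n, hn⟩ := Ideal.exists_pow_le_of_le_radical_of_fg hle (IsNoetherian.noetherian J)
  exact ⟨n, fun a ha => (Ideal.mem_torsionOf_iff x a).1 (hn ha)⟩

section Three

variable {X Y Z : Type u} [AddCommGroup X] [Module B X] [Module A X] [IsScalarTower A B X]
  [AddCommGroup Y] [Module B Y] [Module A Y] [IsScalarTower A B Y]
  [AddCommGroup Z] [Module B Z] [Module A Z] [IsScalarTower A B Z]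
  (i : X →ₗ[B] Y) (p : Y →ₗ[B] Z) (hi : Function.Injective i) (hip : Function.Exact i p)
  (hp : Function.Surjective p)

include hi hip hp

omit [IsNoetherianRing A] [IsNoetherianRing B] [IsLocalRing A] [IsLocalRing B]
  [IsLocalHom (algebraMap A B)] in
theorem flatAt_left (q : Ideal B) [q.IsPrime] [Module.Flat A Y] (hZ : FlatCA.FlatAt A q Z) :
    FlatCA.FlatAt A q X := by
  haveI : Module.Flat A (LocalizedModule q.primeCompl Y) :=
    Groth.L20.FibreCrit.flat_localizedModule_of_flat q.primeCompl
  haveI : Module.Flat A (LocalizedModule q.primeCompl Z) := hZ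
  exact Groth.L01.FlatCx.flat_left
    (f := (LocalizedModule.map q.primeCompl i).restrictScalars A)
    (g := (LocalizedModule.map q.primeCompl p).restrictScalars A)
    (LocalizedModule.map_injective q.primeCompl i hi) (LocalizedModule.map_surjective q.primeCompl p hp)
    (LocalizedModule.map_exact q.primeCompl i p hip)

omit [IsNoetherianRing A] [IsNoetherianRing B] [IsLocalRing A] [IsLocalRing B]
  [IsLocalHom (algebraMap A B)] in
theorem killed_off_of_rTensor_eq_zero (hZ : ∀ q : PrimeSpectrum B, ¬ J ≤ q.asIdeal → FlatCA.FlatAt A q.asIdeal Z)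
    (N : Type u) [AddCommGroup N] [Module A N] {x : X ⊗[A] N}
    (hx : AlgebraTensorModule.rTensor A N i x = 0) (q : PrimeSpectrum B) (hq : ¬ J ≤ q.asIdeal) :
    ∃ s : B, s ∉ q.asIdeal ∧ s • x = 0 := by
  haveI : Module.Flat A (LocalizedModule q.asIdeal.primeCompl Z) := hZ q hq
  let mX := LocalizedModule.mkLinearMap q.asIdeal.primeCompl X
  let mY := LocalizedModule.mkLinearMap q.asIdeal.primeCompl Y
  let iq := (LocalizedModule.map q.asIdeal.primeCompl i).restrictScalars A
  have hinj : Function.Injective (iq.rTensor N) :=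
    Groth.L01.FlatCx.rTensor_injective_of_flat_quot
      (g := (LocalizedModule.map q.asIdeal.primeCompl p).restrictScalars A)
      (LocalizedModule.map_injective q.asIdeal.primeCompl i hi)
      (LocalizedModule.map_surjective q.asIdeal.primeCompl p hp)
      (LocalizedModule.map_exact q.asIdeal.primeCompl i p hip) N
  have key : ∀ y : X ⊗[A] N, iq.rTensor N (AlgebraTensorModule.rTensor A N mX y) =
      AlgebraTensorModule.rTensor A N mY (AlgebraTensorModule.rTensor A N i y) := by
    intro y
    induction y using TensorProduct.induction_on with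
    | zero => simp
    | tmul m n =>
      change iq (mX m) ⊗ₜ[A] n = mY (i m) ⊗ₜ[A] n
      congr 1
      exact IsLocalizedModule.map_apply q.asIdeal.primeCompl mX mY i m
    | add a b ha hb => simp only [map_add, ha, hb]
  have h0 : AlgebraTensorModule.rTensor A N mX x = 0 :=
    hinj (by rw [key, hx, map_zero, map_zero])
  obtain ⟨s, hs⟩ := (IsLocalizedModule.eq_zero_iff q.asIdeal.primeCompl
    (AlgebraTensorModule.rTensor A N mX)).1 h0
  exact ⟨s, s.2, hs⟩

omit [IsNoetherianRing A] [IsLocalRing A] [IsLocalRing B] [IsLocalHom (algebraMap A B)] in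
theorem rTensor_injective_of_depth [Module.Finite B X]
    (hZ : ∀ q : PrimeSpectrum B, ¬ J ≤ q.asIdeal → FlatCA.FlatAt A q.asIdeal Z)
    (N : Type u) [AddCommGroup N] [Module A N] [Module.Finite A N]
    (hX : 1 ≤ LocCoh.idealDepth J (X ⊗[A] N)) :
    Function.Injective (AlgebraTensorModule.rTensor A N i) := by
  haveI := finite_tensor (A := A) (B := B) X N
  exact (injective_iff_map_eq_zero _).2 fun x hx =>
    eq_zero_of_off J hX (killed_off_of_rTensor_eq_zero J i p hi hip hp hZ N hx)

end Three

section Fib

variable (M : Type u) [AddCommGroup M] [Module B M] [Module A M] [IsScalarTower A B M]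

omit [IsNoetherianRing A] [IsNoetherianRing B] [IsLocalRing B] [IsLocalHom (algebraMap A B)] in
theorem idealDepth_fibMod :
    LocCoh.idealDepth J (EGA4.FibMod A B M) = LocCoh.idealDepth J (M ⊗[A] (A ⧸ IsLocalRing.maximalIdeal A)) := by
  obtain ⟨e⟩ := nonempty_tensor_quotient_equiv (B := B) M (IsLocalRing.maximalIdeal A)
  exact idealDepth_congr e

end Fib

variable {F E0 E1 G : Type u}
  [AddCommGroup F] [Module B F] [Module A F] [IsScalarTower A B F] [Module.Finite B F]
  [AddCommGroup E0] [Module B E0] [Module A E0] [IsScalarTower A B E0] [Module.Finite B E0] [Module.Flat A E0]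
  [AddCommGroup E1] [Module B E1] [Module A E1] [IsScalarTower A B E1] [Module.Finite B E1] [Module.Flat A E1]
  [AddCommGroup G] [Module B G] [Module A G] [IsScalarTower A B G] [Module.Finite B G]
  (f : F →ₗ[B] E0) (u : E0 →ₗ[B] E1) (v : E1 →ₗ[B] G)
  (hf : Function.Injective f) (hfu : Function.Exact f u) (huv : Function.Exact u v) (hv : Function.Surjective v)
  (hGU : ∀ q : PrimeSpectrum B, ¬ J ≤ q.asIdeal → FlatCA.FlatAt A q.asIdeal G)

omit [IsNoetherianRing A] [IsNoetherianRing B] [IsLocalRing A] [IsLocalRing B] [IsLocalHom (algebraMap A B)] in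
include huv hv hGU in
theorem flatAt_range : ∀ q : PrimeSpectrum B, ¬ J ≤ q.asIdeal → FlatCA.FlatAt A q.asIdeal (LinearMap.range u) :=
  fun q hq => flatAt_left (LinearMap.range u).subtype v (LinearMap.range u).injective_subtype
    (LinearMap.exact_iff.2 (by rw [Submodule.range_subtype]; exact LinearMap.exact_iff.1 huv)) hv q.asIdeal (hGU q hq)

omit [IsNoetherianRing A] [IsNoetherianRing B] [IsLocalRing A] [IsLocalRing B] [IsLocalHom (algebraMap A B)] in
include hf hfu huv hv hGU in
theorem flatAt_kernel : ∀ q : PrimeSpectrum B, ¬ J ≤ q.asIdeal → FlatCA.FlatAt A q.asIdeal F :=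
  fun q hq => flatAt_left f u.rangeRestrict hf
    (LinearMap.exact_iff.2 (by rw [LinearMap.ker_rangeRestrict]; exact LinearMap.exact_iff.1 hfu))
    u.surjective_rangeRestrict q.asIdeal (flatAt_range J u v huv hv hGU q hq)

include hf hfu huv hv in
theorem flat_of_flat_coker [Module.Flat A G] : Module.Flat A F := by
  haveI : Module.Flat A (LinearMap.range u) :=
    Groth.L01.FlatCx.flat_left (f := ((LinearMap.range u).subtype).restrictScalars A)
      (g := v.restrictScalars A) (LinearMap.range u).injective_subtype hv
      (LinearMap.exact_iff.2 (by rw [Submodule.range_subtype]; exact LinearMap.exact_iff.1 huv) : Function.Exact (LinearMap.range u).subtype v)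
  exact Groth.L01.FlatCx.flat_left (f := f.restrictScalars A) (g := u.rangeRestrict.restrictScalars A) hf
    u.surjective_rangeRestrict
    (LinearMap.exact_iff.2 (by rw [LinearMap.ker_rangeRestrict]; exact LinearMap.exact_iff.1 hfu) : Function.Exact f u.rangeRestrict)

include hf hfu huv hv in
theorem two_le_fibMod_of_flat [Module.Flat A G] (h0 : 2 ≤ LocCoh.idealDepth J (EGA4.FibMod A B E0))
    (h1 : 1 ≤ LocCoh.idealDepth J (EGA4.FibMod A B E1)) :
    2 ≤ LocCoh.idealDepth J (EGA4.FibMod A B F) := by
  rw [idealDepth_fibMod] at h0 h1 ⊢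
  set k := A ⧸ IsLocalRing.maximalIdeal A
  have hex1 : Function.Exact (LinearMap.range u).subtype v :=
    LinearMap.exact_iff.2 (by rw [Submodule.range_subtype]; exact LinearMap.exact_iff.1 huv)
  have hex0 : Function.Exact f u.rangeRestrict :=
    LinearMap.exact_iff.2 (by rw [LinearMap.ker_rangeRestrict]; exact LinearMap.exact_iff.1 hfu)
  haveI : Module.Flat A (LinearMap.range u) :=
    Groth.L01.FlatCx.flat_left (f := ((LinearMap.range u).subtype).restrictScalars A)
      (g := v.restrictScalars A) (LinearMap.range u).injective_subtype hv hex1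
  haveI := finite_tensor (A := A) (B := B) F k
  haveI := finite_tensor (A := A) (B := B) E0 k
  haveI := finite_tensor (A := A) (B := B) E1 k
  haveI := finite_tensor (A := A) (B := B) G k
  haveI := finite_tensor (A := A) (B := B) (LinearMap.range u) k
  have hZ : ((1 : ℕ) : ℕ∞) ≤ LocCoh.idealDepth J ((LinearMap.range u) ⊗[A] k) :=
    le_idealDepth_left (I := J) (n := 0) (f := AlgebraTensorModule.rTensor A k (LinearMap.range u).subtype)
      (g := AlgebraTensorModule.rTensor A k v)
      (Groth.L01.FlatCx.rTensor_injective_of_flat_quot (f := ((LinearMap.range u).subtype).restrictScalars A) (g := v.restrictScalars A)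
        (LinearMap.range u).injective_subtype hv hex1 k)
      (LinearMap.rTensor_surjective k (g := v.restrictScalars A) hv) (rTensor_exact k (f := ((LinearMap.range u).subtype).restrictScalars A) (g := v.restrictScalars A) hex1 hv)
      (by simpa using h1) (by simp)
  exact le_idealDepth_left (I := J) (n := 1) (f := AlgebraTensorModule.rTensor A k f)
    (g := AlgebraTensorModule.rTensor A k u.rangeRestrict)
    (Groth.L01.FlatCx.rTensor_injective_of_flat_quot (f := f.restrictScalars A) (g := u.rangeRestrict.restrictScalars A)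
      hf u.surjective_rangeRestrict hex0 k)
    (LinearMap.rTensor_surjective k (g := u.rangeRestrict.restrictScalars A) u.surjective_rangeRestrict)
    (rTensor_exact k (f := f.restrictScalars A) (g := u.rangeRestrict.restrictScalars A) hex0 u.surjective_rangeRestrict)
    (by simpa using h0) (by simpa using hZ)

include hf hfu huv hv hGU in
theorem flat_of_two_le_fibMod (h0 : 2 ≤ LocCoh.idealDepth J (EGA4.FibMod A B E0))
    (hF : 2 ≤ LocCoh.idealDepth J (EGA4.FibMod A B F)) : Module.Flat A G := by
  rw [idealDepth_fibMod] at h0 hF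
  set k := A ⧸ IsLocalRing.maximalIdeal A
  have hex1 : Function.Exact (LinearMap.range u).subtype v :=
    LinearMap.exact_iff.2 (by rw [Submodule.range_subtype]; exact LinearMap.exact_iff.1 huv)
  have hex0 : Function.Exact f u.rangeRestrict :=
    LinearMap.exact_iff.2 (by rw [LinearMap.ker_rangeRestrict]; exact LinearMap.exact_iff.1 hfu)
  have hZU := flatAt_range J u v huv hv hGU
  haveI := finite_tensor (A := A) (B := B) F k
  haveI := finite_tensor (A := A) (B := B) E0 k
  haveI := finite_tensor (A := A) (B := B) (LinearMap.range u) k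
  have hinj : Function.Injective (AlgebraTensorModule.rTensor A k f) :=
    rTensor_injective_of_depth J f u.rangeRestrict hf hex0 u.surjective_rangeRestrict hZU k
      (one_le_two.trans hF)
  have hZ : ((1 : ℕ) : ℕ∞) ≤ LocCoh.idealDepth J ((LinearMap.range u) ⊗[A] k) :=
    le_idealDepth_right (I := J) (n := 1) (f := AlgebraTensorModule.rTensor A k f)
      (g := AlgebraTensorModule.rTensor A k u.rangeRestrict) hinj
      (LinearMap.rTensor_surjective k (g := u.rangeRestrict.restrictScalars A) u.surjective_rangeRestrict)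
      (rTensor_exact k (f := f.restrictScalars A) (g := u.rangeRestrict.restrictScalars A) hex0 u.surjective_rangeRestrict)
      (by simpa using hF) (by simpa using one_le_two.trans h0)
  have hZ' : 1 ≤ LocCoh.idealDepth J (EGA4.FibMod A B (LinearMap.range u)) := by
    rw [idealDepth_fibMod]; simpa using hZ
  refine flat_of_finiteLength (B := B) G fun {N N'} _ _ _ _ i hi hN' => ?_
  obtain ⟨hNo, hAr⟩ := isFiniteLength_iff_isNoetherian_isArtinian.1 hN'
  haveI := hNo
  haveI := hAr
  let Q := N' ⧸ LinearMap.range i
  have hinjQ : Function.Injective (AlgebraTensorModule.rTensor A Q (LinearMap.range u).subtype) :=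
    rTensor_injective_of_depth J (LinearMap.range u).subtype v (LinearMap.range u).injective_subtype
      hex1 hv hGU Q (by
        simpa using le_idealDepth_tensor_finiteLength (LinearMap.range u) J hZU 1 le_rfl
          (by simpa using hZ') (N := Q) (isFiniteLength_iff_isNoetherian_isArtinian.2 ⟨inferInstance, inferInstance⟩))
  let ι := ((LinearMap.range u).subtype).restrictScalars A
  let v' := v.restrictScalars A
  refine (injective_iff_map_eq_zero _).2 fun g hg => ?_
  obtain ⟨e, rfl⟩ := LinearMap.rTensor_surjective N (g := v') hv g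
  rw [← LinearMap.comp_apply, LinearMap.lTensor_comp_rTensor, ← LinearMap.rTensor_comp_lTensor,
    LinearMap.comp_apply] at hg
  obtain ⟨z, hz⟩ := ((rTensor_exact N' (f := ι) (g := v') hex1 hv) _).1 hg
  have hzQ : (LinearMap.range i).mkQ.lTensor (LinearMap.range u) z = 0 := by
    refine hinjQ ?_
    rw [map_zero]
    change ι.rTensor Q ((LinearMap.range i).mkQ.lTensor _ z) = 0
    rw [← LinearMap.comp_apply, LinearMap.rTensor_comp_lTensor, ← LinearMap.lTensor_comp_rTensor,
      LinearMap.comp_apply, hz, ← LinearMap.comp_apply, ← LinearMap.lTensor_comp,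
      LinearMap.range_mkQ_comp, LinearMap.lTensor_zero, LinearMap.zero_apply]
  obtain ⟨z₁, rfl⟩ := ((lTensor_exact _ (LinearMap.exact_map_mkQ_range i) (Submodule.mkQ_surjective _)) z).1 hzQ
  rw [← LinearMap.comp_apply, LinearMap.rTensor_comp_lTensor, ← LinearMap.lTensor_comp_rTensor,
    LinearMap.comp_apply] at hz
  have he := Module.Flat.lTensor_preserves_injective_linearMap (M := E1) i hi hz
  rw [← he]
  exact (rTensor_exact N (f := ι) (g := v') hex1 hv).apply_apply_eq_zero z₁

include hf hfu huv hv hGU in
theorem flat_of_H_two (h0 : 2 ≤ LocCoh.idealDepth J (EGA4.FibMod A B E0))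
    (h1 : 1 ≤ LocCoh.idealDepth J (EGA4.FibMod A B E1))
    (hH2 : Subsingleton (LocCoh.H J 2 (EGA4.FibMod A B F))) : Module.Flat A G := by
  rw [idealDepth_fibMod] at h0 h1
  set k := A ⧸ IsLocalRing.maximalIdeal A
  have hex1 : Function.Exact (LinearMap.range u).subtype v :=
    LinearMap.exact_iff.2 (by rw [Submodule.range_subtype]; exact LinearMap.exact_iff.1 huv)
  have hex0 : Function.Exact f u.rangeRestrict :=
    LinearMap.exact_iff.2 (by rw [LinearMap.ker_rangeRestrict]; exact LinearMap.exact_iff.1 hfu)
  have hZU := flatAt_range J u v huv hv hGU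
  haveI := finite_tensor (A := A) (B := B) F k
  haveI := finite_tensor (A := A) (B := B) E0 k
  haveI := finite_tensor (A := A) (B := B) E1 k
  haveI := finite_tensor (A := A) (B := B) G k
  let fk := AlgebraTensorModule.rTensor A k f
  let pk := AlgebraTensorModule.rTensor A k u.rangeRestrict
  let ik := AlgebraTensorModule.rTensor A k (LinearMap.range u).subtype
  let vk := AlgebraTensorModule.rTensor A k v
  have hp0 : Function.Surjective pk := LinearMap.rTensor_surjective k (g := u.rangeRestrict.restrictScalars A) u.surjective_rangeRestrict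
  have hv1 : Function.Surjective vk := LinearMap.rTensor_surjective k (g := v.restrictScalars A) hv
  have e0 : Function.Exact fk pk :=
    rTensor_exact k (f := f.restrictScalars A) (g := u.rangeRestrict.restrictScalars A) hex0 u.surjective_rangeRestrict
  have e1 : Function.Exact ik vk := rTensor_exact k (f := ((LinearMap.range u).subtype).restrictScalars A) (g := v.restrictScalars A) hex1 hv
  have hE0 := (LC.le_idealDepth_iff_H J (E0 ⊗[A] k) 2).1 (by simpa using h0)
  have hE1 := (LC.le_idealDepth_iff_H J (E1 ⊗[A] k) 1).1 (by simpa using h1)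
  have hT : LocCoh.IsPowerTorsion J (LinearMap.ker fk) := isPowerTorsion_of_off J fun x q hq => by
    obtain ⟨s, hs, hsx⟩ := killed_off_of_rTensor_eq_zero J f u.rangeRestrict hf hex0
      u.surjective_rangeRestrict hZU k (x := x.1) x.2 q hq
    exact ⟨s, hs, Subtype.ext hsx⟩
  have hW : LocCoh.IsPowerTorsion J (LinearMap.ker ik) := isPowerTorsion_of_off J fun x q hq => by
    obtain ⟨s, hs, hsx⟩ := killed_off_of_rTensor_eq_zero J (LinearMap.range u).subtype v
      (LinearMap.range u).injective_subtype hex1 hv hGU k (x := x.1) x.2 q hq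
    exact ⟨s, hs, Subtype.ext hsx⟩
  have hH2' : Subsingleton (LocCoh.H J 2 (F ⊗[A] k)) := by
    obtain ⟨e⟩ := nonempty_tensor_quotient_equiv (B := B) F (IsLocalRing.maximalIdeal A)
    exact (((localCohomology J 2).mapIso e.toModuleIso).toLinearEquiv).symm.toEquiv.subsingleton
  have hI0 : Subsingleton (LocCoh.H J 2 (LinearMap.range fk)) :=
    LC.subsingleton_H_right J (LC.ses_shortExact (LinearMap.ker fk).subtype fk.rangeRestrict
      (LinearMap.ker fk).injective_subtype fk.surjective_rangeRestrict
      (LinearMap.exact_iff.2 (by rw [LinearMap.ker_rangeRestrict, Submodule.range_subtype])))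
      2 hH2' (LC.subsingleton_H_pos_of_isPowerTorsion J (by norm_num) _ hT)
  have hZ : Subsingleton (LocCoh.H J 1 ((LinearMap.range u) ⊗[A] k)) :=
    LC.subsingleton_H_right J (LC.ses_shortExact (LinearMap.range fk).subtype pk
      (LinearMap.range fk).injective_subtype hp0
      (LinearMap.exact_iff.2 (by rw [Submodule.range_subtype]; exact LinearMap.exact_iff.1 e0)))
      1 (hE0 1 one_lt_two) hI0
  have hI1 : Subsingleton (LocCoh.H J 1 (LinearMap.range ik)) :=
    LC.subsingleton_H_right J (LC.ses_shortExact (LinearMap.ker ik).subtype ik.rangeRestrict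
      (LinearMap.ker ik).injective_subtype ik.surjective_rangeRestrict
      (LinearMap.exact_iff.2 (by rw [LinearMap.ker_rangeRestrict, Submodule.range_subtype])))
      1 hZ (LC.subsingleton_H_pos_of_isPowerTorsion J (by norm_num) _ hW)
  have hG : Subsingleton (LocCoh.H J 0 (G ⊗[A] k)) :=
    LC.subsingleton_H_right J (LC.ses_shortExact (LinearMap.range ik).subtype vk
      (LinearMap.range ik).injective_subtype hv1
      (LinearMap.exact_iff.2 (by rw [Submodule.range_subtype]; exact LinearMap.exact_iff.1 e1)))
      0 (hE1 0 one_pos) hI1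
  refine flat_of_depth G J hGU ?_
  rw [idealDepth_fibMod]
  simpa using (LC.le_idealDepth_iff_H J (G ⊗[A] k) 1).2 fun i hi => by
    obtain rfl : i = 0 := by omega
    exact hG

end Groth.L04.FibFlat
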