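import Groth.Agent.L04.Depth2
import Groth.Agent.L02.FibDepth.Semi
import Groth.Prelude.Def_EGA4b
import Mathlib.RingTheory.Localization.BaseChange
import Mathlib.RingTheory.Localization.LocalizationLocalization
import Mathlib.Algebra.Module.LocalizedModule.Submodule

/-! Depth of fibre stalks along a closed subset, at a point and at its generalisations in the fibre. -/

set_option autoImplicit false
set_option linter.style.haveILetI false

universe u

open IsLocalRing TensorProduct

namespace Groth.L04.FibStalk

variable {R : Type u} [CommRing R]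

theorem exists_semi_localized (q : Ideal R) [q.IsPrime] (M : Type u) [AddCommGroup M] [Module R M]
    (P : Ideal (Localization.AtPrime q)) [P.IsPrime] :
    ∃ E : L02.FibDepth.Semi (Localization.AtPrime (P.comap (algebraMap R (Localization.AtPrime q))))
      (LocalizedModule (P.comap (algebraMap R (Localization.AtPrime q))).primeCompl M)
      (Localization.AtPrime P) (LocalizedModule P.primeCompl (LocalizedModule q.primeCompl M)),
      ∀ (r : R) (x : _), E.e (r • x) = r • E.e x := by
  let S := Localization.AtPrime q
  let p := P.comap (algebraMap R S)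
  let T := Localization.AtPrime P
  haveI : IsScalarTower R S T := IsScalarTower.of_algebraMap_eq' rfl
  haveI : IsLocalization p.primeCompl T :=
    IsLocalization.isLocalization_isLocalization_atPrime_isLocalization q.primeCompl T P
  let f : M →ₗ[R] LocalizedModule P.primeCompl (LocalizedModule q.primeCompl M) :=
    ((LocalizedModule.mkLinearMap P.primeCompl (LocalizedModule q.primeCompl M)).restrictScalars R) ∘ₗ
      LocalizedModule.mkLinearMap q.primeCompl M
  haveI : IsLocalizedModule p.primeCompl f :=
    (isLocalizedModule_iff_isBaseChange p.primeCompl T f).2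
      ((IsLocalizedModule.isBaseChange q.primeCompl S (LocalizedModule.mkLinearMap q.primeCompl M)).comp
        (IsLocalizedModule.isBaseChange P.primeCompl T
          (LocalizedModule.mkLinearMap P.primeCompl (LocalizedModule q.primeCompl M))))
  let ε : Localization.AtPrime p ≃ₐ[R] T := IsLocalization.algEquiv p.primeCompl _ _
  let g := IsLocalizedModule.linearEquiv p.primeCompl (LocalizedModule.mkLinearMap p.primeCompl M) f
  refine ⟨{ φ := ε.toRingEquiv.toRingHom, surj := ε.surjective, e := g.toAddEquiv, map_smul := fun x m => ?_ },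
    fun r x => g.map_smul r x⟩
  obtain ⟨r, s, rfl⟩ := IsLocalization.exists_mk'_eq p.primeCompl x
  have hu := (Module.End.isUnit_iff _).1 (IsLocalizedModule.map_units f s)
  refine hu.1 ?_
  rw [Module.algebraMap_end_apply, Module.algebraMap_end_apply]
  change (s : R) • g (IsLocalization.mk' (Localization.AtPrime p) r s • m) =
    (s : R) • (ε (IsLocalization.mk' (Localization.AtPrime p) r s) • g m)
  rw [← g.map_smul, ← smul_assoc (s : R) (ε _) (g m), ← map_smul ε, ← smul_assoc,
    Algebra.smul_def (s : R) (IsLocalization.mk' (Localization.AtPrime p) r s),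
    IsLocalization.mk'_spec', algebraMap_smul, g.map_smul, AlgEquiv.commutes, algebraMap_smul]

variable [IsNoetherianRing R]

theorem idealDepth_mono {I I' : Ideal R} (h : I ≤ I') (M : Type u) [AddCommGroup M] [Module R M]
    [Module.Finite R M] : LocCoh.idealDepth I M ≤ LocCoh.idealDepth I' M := by
  rw [idealDepth_eq_iInf_depth I, idealDepth_eq_iInf_depth I']
  exact le_iInf₂ fun p hp => iInf₂_le p (h.trans hp)

theorem le_idealDepth_localized (I q : Ideal R) [q.IsPrime] (M : Type u) [AddCommGroup M] [Module R M]
    [Module.Finite R M] (k : ℕ∞)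
    (h : ∀ (p : Ideal R) [p.IsPrime], p ≤ q → I ≤ p →
      k ≤ LocCoh.depth (Localization.AtPrime p) (LocalizedModule p.primeCompl M)) :
    k ≤ LocCoh.idealDepth (I.map (algebraMap R (Localization.AtPrime q))) (LocalizedModule q.primeCompl M) := by
  haveI : Module.Finite (Localization.AtPrime q) (LocalizedModule q.primeCompl M) :=
    Module.Finite.of_isLocalizedModule q.primeCompl (LocalizedModule.mkLinearMap q.primeCompl M)
  rw [idealDepth_eq_iInf_depth]
  refine le_iInf₂ fun P hP => ?_
  obtain ⟨E, -⟩ := exists_semi_localized q M P.asIdeal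
  rw [← E.depth_eq]
  refine h _ ?_ (Ideal.map_le_iff_le_comap.1 hP)
  conv_rhs => rw [← IsLocalization.AtPrime.comap_maximalIdeal (Localization.AtPrime q) q]
  exact Ideal.comap_mono (le_maximalIdeal P.isPrime.ne_top)

theorem idealDepth_le_depth (I q : Ideal R) [q.IsPrime] (hI : I ≤ q) (M : Type u) [AddCommGroup M]
    [Module R M] [Module.Finite R M] :
    LocCoh.idealDepth (I.map (algebraMap R (Localization.AtPrime q))) (LocalizedModule q.primeCompl M) ≤
      LocCoh.depth (Localization.AtPrime q) (LocalizedModule q.primeCompl M) := by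
  haveI : Module.Finite (Localization.AtPrime q) (LocalizedModule q.primeCompl M) :=
    Module.Finite.of_isLocalizedModule q.primeCompl (LocalizedModule.mkLinearMap q.primeCompl M)
  exact idealDepth_mono (Ideal.map_le_iff_le_comap.2
    (hI.trans (IsLocalization.AtPrime.comap_maximalIdeal (Localization.AtPrime q) q).ge)) _

section Fib

variable {A B : Type u} [CommRing A] [CommRing B] [Algebra A B] (F : Type u) [AddCommGroup F] [Module B F]

theorem nonempty_localizedQuotient (I : Ideal B) (q : Ideal B) [q.IsPrime] :
    Nonempty (LocalizedModule q.primeCompl (F ⧸ (I • (⊤ : Submodule B F))) ≃ₗ[Localization.AtPrime q]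
      LocalizedModule q.primeCompl F ⧸ (I.map (algebraMap B (Localization.AtPrime q)) •
        (⊤ : Submodule (Localization.AtPrime q) (LocalizedModule q.primeCompl F)))) :=
  ⟨(localizedQuotientEquiv _ _).symm ≪≫ₗ
    Submodule.quotEquivOfEq _ _ (by rw [Submodule.localized,
      Submodule.localized'_smul, Ideal.localized'_eq_map, Submodule.localized'_top])⟩

variable [IsNoetherianRing B]

theorem idealDepth_fibLocMod (q : Ideal B) [q.IsPrime] [Module.Finite B F] :
    LocCoh.idealDepth (q.map (algebraMap B (EGA4.FibLocRing A B q))) (EGA4.FibLocMod A B q F) =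
      LocCoh.depth (Localization.AtPrime q) (LocalizedModule q.primeCompl
        (F ⧸ ((q.comap (algebraMap A B)).map (algebraMap A B) • (⊤ : Submodule B F)))) := by
  obtain ⟨e⟩ := nonempty_localizedQuotient F ((q.comap (algebraMap A B)).map (algebraMap A B)) q
  haveI : Module.Finite (Localization.AtPrime q) (LocalizedModule q.primeCompl F) :=
    Module.Finite.of_isLocalizedModule q.primeCompl (LocalizedModule.mkLinearMap q.primeCompl F)
  rw [LocCoh.depth, idealDepth_congr e, Ideal.map_map, ← IsScalarTower.algebraMap_eq]
  haveI : IsScalarTower (Localization.AtPrime q) (EGA4.FibLocRing A B q) (EGA4.FibLocMod A B q F) := by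
    refine ⟨fun r s x => ?_⟩
    obtain ⟨s, rfl⟩ := Ideal.Quotient.mk_surjective s
    obtain ⟨x, rfl⟩ := Submodule.mkQ_surjective _ x
    exact congrArg Submodule.Quotient.mk (smul_assoc r s x)
  haveI : Module.Finite (EGA4.FibLocRing A B q) (EGA4.FibLocMod A B q F) :=
    Module.Finite.of_restrictScalars_finite (Localization.AtPrime q) _ _
  rw [idealDepth_eq_idealDepth_map_of_finite (B := EGA4.FibLocRing A B q) (maximalIdeal (Localization.AtPrime q))
    (EGA4.FibLocMod A B q F)]
  congr 1
  rw [← Localization.AtPrime.map_eq_maximalIdeal, Ideal.map_map, ← IsScalarTower.algebraMap_eq]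

theorem le_idealDepth_fibre_localized (J q : Ideal B) [q.IsPrime] [Module.Finite B F] (k : ℕ∞)
    (h : ∀ (q' : Ideal B) [q'.IsPrime], q' ≤ q → J ≤ q' →
      k ≤ LocCoh.idealDepth (q'.map (algebraMap B (EGA4.FibLocRing A B q'))) (EGA4.FibLocMod A B q' F)) :
    k ≤ LocCoh.idealDepth (J.map (algebraMap B (Localization.AtPrime q))) (LocalizedModule q.primeCompl
      (F ⧸ ((q.comap (algebraMap A B)).map (algebraMap A B) • (⊤ : Submodule B F)))) := by
  refine le_idealDepth_localized J q _ k fun q' _ hq' hJ => ?_
  by_cases hc : q'.comap (algebraMap A B) = q.comap (algebraMap A B)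
  · rw [← hc, ← idealDepth_fibLocMod]
    exact h q' hq' hJ
  · obtain ⟨a, ha, haq'⟩ := Set.not_subset.1 fun hle : ((q.comap (algebraMap A B) : Ideal A) : Set A) ⊆
      ((q'.comap (algebraMap A B) : Ideal A) : Set A) => hc (le_antisymm (Ideal.comap_mono hq') hle)
    haveI : Subsingleton (LocalizedModule q'.primeCompl
        (F ⧸ ((q.comap (algebraMap A B)).map (algebraMap A B) • (⊤ : Submodule B F)))) :=
      LocalizedModule.subsingleton_iff.2 fun x => by
        obtain ⟨x, rfl⟩ := Submodule.mkQ_surjective _ x
        exact ⟨algebraMap A B a, haq', by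
          rw [← map_smul, Submodule.mkQ_apply, Submodule.Quotient.mk_eq_zero]
          exact Submodule.smul_mem_smul (Ideal.mem_map_of_mem _ ha) Submodule.mem_top⟩
    rw [LocCoh.depth, idealDepth_eq_top (Subsingleton.elim _ _)]
    exact le_top

theorem le_idealDepth_fibLocMod_of_localized {J q : Ideal B} [q.IsPrime] [Module.Finite B F] (hJ : J ≤ q)
    {k : ℕ∞} (h : k ≤ LocCoh.idealDepth (J.map (algebraMap B (Localization.AtPrime q)))
      (LocalizedModule q.primeCompl (F ⧸ ((q.comap (algebraMap A B)).map (algebraMap A B) • (⊤ : Submodule B F))))) :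
    k ≤ LocCoh.idealDepth (q.map (algebraMap B (EGA4.FibLocRing A B q))) (EGA4.FibLocMod A B q F) := by
  rw [idealDepth_fibLocMod]
  exact h.trans (idealDepth_le_depth J q hJ _)

end Fib

end Groth.L04.FibStalk
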