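import Groth.Agent.L04.FibStalk
import Groth.Agent.L04.FibFlat
import Groth.Agent.L04.DepthLoc
import Mathlib.RingTheory.IsTensorProduct
import Mathlib.LinearAlgebra.Basis.VectorSpace

/-! The depth of fibre stalks does not drop under base change. -/

set_option autoImplicit false
set_option maxHeartbeats 800000
set_option linter.style.haveILetI false

universe u

open IsLocalRing TensorProduct RingTheory.Sequence
open scoped Pointwise

namespace Groth.L04.FibStalk

variable {A B : Type u} [CommRing A] [CommRing B] [Algebra A B]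
  {A' B' : Type u} [CommRing A'] [CommRing B'] [Algebra A A'] [Algebra B B'] [Algebra A' B'] [Algebra A B']
  [IsScalarTower A B B'] [IsScalarTower A A' B'] [Algebra.IsPushout A B A' B']

/-- A module over the residue field of a prime, seen over the base ring. -/
def IsFieldLike (p : Ideal A) (N : Type u) [AddCommGroup N] [Module A N] : Prop :=
  (∀ a ∈ p, ∀ x : N, a • x = 0) ∧ ∀ a ∉ p, Function.Bijective fun x : N => a • x

theorem rTensor_injective_of_isFieldLike (p : Ideal A) [p.IsPrime] {N N' : Type u} [AddCommGroup N] [Module A N]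
    [AddCommGroup N'] [Module A N'] (hN : IsFieldLike p N) (hN' : IsFieldLike p N') (g : N →ₗ[A] N')
    (hg : Function.Injective g) (X : Type u) [AddCommGroup X] [Module A X] :
    Function.Injective (g.rTensor X) := by
  classical
  have key : ∀ (W : Type u) [AddCommGroup W] [Module A W], IsFieldLike p W →
      ∃ (_ : Module p.ResidueField W), IsScalarTower A p.ResidueField W := by
    intro W _ _ hW
    letI : Module (A ⧸ p) W := Module.IsTorsionBySet.module (fun x a => hW.1 a a.2 x)
    haveI : IsScalarTower A (A ⧸ p) W := Module.IsTorsionBySet.isScalarTower _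
    have hu : ∀ s : nonZeroDivisors (A ⧸ p), IsUnit (algebraMap (A ⧸ p) (Module.End (A ⧸ p) W) s) := by
      rintro ⟨s, hs⟩
      obtain ⟨a, rfl⟩ := Ideal.Quotient.mk_surjective s
      rw [Module.End.isUnit_iff]
      refine hW.2 a fun ha => nonZeroDivisors.ne_zero hs (Ideal.Quotient.eq_zero_iff_mem.2 ha)
    haveI : IsLocalizedModule (nonZeroDivisors (A ⧸ p)) (LinearMap.id : W →ₗ[A ⧸ p] W) :=
      ⟨hu, fun y => ⟨(y, 1), one_smul _ y⟩, fun {a b} h => ⟨1, by simpa using h⟩⟩
    letI : Module p.ResidueField W :=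
      IsLocalizedModule.module (nonZeroDivisors (A ⧸ p)) (LinearMap.id : W →ₗ[A ⧸ p] W)
    haveI : IsScalarTower (A ⧸ p) p.ResidueField W :=
      IsLocalizedModule.isScalarTower_module (nonZeroDivisors (A ⧸ p)) (LinearMap.id : W →ₗ[A ⧸ p] W)
    exact ⟨‹_›, IsScalarTower.to₁₃₄ A (A ⧸ p) p.ResidueField W⟩
  obtain ⟨i, hi⟩ := key N hN
  obtain ⟨i', hi'⟩ := key N' hN'
  letI := i; haveI := hi; letI := i'; haveI := hi'
  have hlin : ∀ (x : p.ResidueField) (n : N), g (x • n) = x • g n := by
    intro x n
    obtain ⟨a, ⟨s, hs⟩, rfl⟩ := IsLocalization.exists_mk'_eq (nonZeroDivisors (A ⧸ p)) x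
    obtain ⟨a, rfl⟩ := Ideal.Quotient.mk_surjective a
    obtain ⟨s, rfl⟩ := Ideal.Quotient.mk_surjective s
    have hsp : s ∉ p := fun h => nonZeroDivisors.ne_zero hs (Ideal.Quotient.eq_zero_iff_mem.2 h)
    have hspec : s • IsLocalization.mk' p.ResidueField (Ideal.Quotient.mk p a)
        (⟨Ideal.Quotient.mk p s, hs⟩ : nonZeroDivisors (A ⧸ p)) = algebraMap A p.ResidueField a := by
      rw [Algebra.smul_def, IsScalarTower.algebraMap_apply A (A ⧸ p) p.ResidueField s,
        IsScalarTower.algebraMap_apply A (A ⧸ p) p.ResidueField a]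
      exact IsLocalization.mk'_spec' p.ResidueField (Ideal.Quotient.mk p a)
        (⟨Ideal.Quotient.mk p s, hs⟩ : nonZeroDivisors (A ⧸ p))
    refine (hN'.2 s hsp).1 ?_
    set c := IsLocalization.mk' p.ResidueField (Ideal.Quotient.mk p a)
        (⟨Ideal.Quotient.mk p s, hs⟩ : nonZeroDivisors (A ⧸ p)) with hc
    show s • g (c • n) = s • (c • g n)
    rw [← g.map_smul, ← smul_assoc, ← smul_assoc, hspec, algebraMap_smul, algebraMap_smul, g.map_smul]
  let gk : N →ₗ[p.ResidueField] N' := { toFun := g, map_add' := g.map_add, map_smul' := hlin }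
  obtain ⟨r, hr⟩ := LinearMap.exists_leftInverse_of_injective gk (LinearMap.ker_eq_bot.2 hg)
  refine Function.LeftInverse.injective (g := (r.restrictScalars A).rTensor X) fun z => ?_
  rw [← LinearMap.comp_apply, ← LinearMap.rTensor_comp,
    show (r.restrictScalars A) ∘ₗ g = LinearMap.id from LinearMap.ext fun x => LinearMap.congr_fun hr x,
    LinearMap.rTensor_id, LinearMap.id_apply]

variable (p' : Ideal A')

theorem exists_fibre_tensor_equiv :
    Nonempty ((B' ⧸ p'.map (algebraMap A' B')) ≃ₗ[B] B ⊗[A] (A' ⧸ p')) := by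
  let e := Algebra.IsPushout.equiv A B A' B'
  let g : B' →ₗ[B] B ⊗[A] (A' ⧸ p') :=
    (AlgebraTensorModule.lTensor B B ((p'.restrictScalars A).mkQ)) ∘ₗ e.symm.toLinearEquiv.toLinearMap
  have hg : Function.Surjective g :=
    (LinearMap.lTensor_surjective B (Submodule.mkQ_surjective _)).comp e.symm.surjective
  have he : ∀ (b : B) (a : A'), e (b ⊗ₜ a) = b • algebraMap A' B' a := fun b a => by
    rw [Algebra.IsPushout.equiv_tmul, Algebra.smul_def]
  have hker : LinearMap.ker g = (p'.map (algebraMap A' B')).restrictScalars B := by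
    refine le_antisymm (fun z hz => ?_) fun z hz => ?_
    · obtain ⟨w, hw⟩ := (lTensor_exact B (LinearMap.exact_subtype_mkQ (p'.restrictScalars A))
        (Submodule.mkQ_surjective _) (e.symm z)).mp hz
      rw [← e.apply_symm_apply z, ← hw]
      clear hw
      induction w using TensorProduct.induction_on with
      | zero => simp
      | tmul b a =>
        rw [LinearMap.lTensor_tmul, he]
        exact Submodule.smul_of_tower_mem _ b (Ideal.mem_map_of_mem _ a.2)
      | add x y hx hy => rw [map_add, map_add]; exact add_mem hx hy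
    · have hle : ∀ a ∈ p', ∀ z : B', g (algebraMap A' B' a * z) = 0 := by
        intro a ha z
        obtain ⟨w, rfl⟩ := e.surjective z
        induction w using TensorProduct.induction_on with
        | zero => simp
        | tmul b a' =>
          have : algebraMap A' B' a * e (b ⊗ₜ a') = e (b ⊗ₜ (a * a')) := by
            rw [he, he, map_mul, mul_smul_comm]
          show (p'.restrictScalars A).mkQ.lTensor B (e.symm _) = 0
          rw [this, e.symm_apply_apply, LinearMap.lTensor_tmul, Submodule.mkQ_apply,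
            show Submodule.Quotient.mk (p := p'.restrictScalars A) (a * a') = 0 from (Submodule.Quotient.mk_eq_zero _).2 (Ideal.mul_mem_right a' p' ha), TensorProduct.tmul_zero]
        | add x y hx hy => rw [map_add, mul_add, map_add, hx, hy, add_zero]
      let K : Ideal B' :=
        { carrier := {z | ∀ c, g (c * z) = 0}
          add_mem' := fun hx hy c => by rw [mul_add, map_add, hx c, hy c, add_zero]
          zero_mem' := fun c => by rw [mul_zero, map_zero]
          smul_mem' := fun d z hz c => by rw [smul_eq_mul, ← mul_assoc]; exact hz (c * d) }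
      have : p'.map (algebraMap A' B') ≤ K := Ideal.map_le_iff_le_comap.2 fun a ha c => by
        rw [mul_comm]; exact hle a ha c
      exact LinearMap.mem_ker.2 (by simpa using this hz 1)
  exact ⟨(Submodule.Quotient.restrictScalarsEquiv B (p'.map (algebraMap A' B'))).symm ≪≫ₗ
    Submodule.quotEquivOfEq _ _ hker.symm ≪≫ₗ g.quotKerEquivOfSurjective hg ≪≫ₗ
    LinearEquiv.refl B _⟩

theorem isWeaklyRegular_fibre_tensor (p : Ideal A) [p.IsPrime] : ∀ (rs : List B) (N : Type u) [AddCommGroup N]
    [Module B N] [Module A N] [IsScalarTower A B N], IsFieldLike p N → IsWeaklyRegular N rs →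
    IsWeaklyRegular ((B' ⧸ p'.map (algebraMap A' B')) ⊗[B] N) rs
  | [], _, _, _, _, _, _, _ => IsWeaklyRegular.nil B _
  | x :: rs, N, _, _, _, _, hN, h => by
    rw [isWeaklyRegular_cons_iff] at h ⊢
    obtain ⟨e⟩ := exists_fibre_tensor_equiv (A := A) (B := B) (B' := B') p'
    let Φ : (B' ⧸ p'.map (algebraMap A' B')) ⊗[B] N ≃ₗ[B] N ⊗[A] (A' ⧸ p') :=
      TensorProduct.comm B _ N ≪≫ₗ TensorProduct.congr (LinearEquiv.refl B N) e ≪≫ₗ
        AlgebraTensorModule.cancelBaseChange A B B N (A' ⧸ p')
    refine ⟨fun y z hyz => Φ.injective ?_, ?_⟩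
    · let gx : N →ₗ[A] N := (LinearMap.lsmul B N x).restrictScalars A
      have key : ∀ w : N ⊗[A] (A' ⧸ p'), gx.rTensor (A' ⧸ p') w = x • w := by
        intro w
        induction w using TensorProduct.induction_on with
        | zero => simp
        | tmul n a => rfl
        | add a b ha hb => rw [map_add, smul_add, ha, hb]
      refine rTensor_injective_of_isFieldLike p hN hN gx h.1 (A' ⧸ p') ?_
      rw [key, key, ← Φ.map_smul, ← Φ.map_smul]
      exact congrArg Φ hyz
    · refine ((QuotSMulTop.tensorQuotSMulTopEquivQuotSMulTop x (B' ⧸ p'.map (algebraMap A' B')) N).isWeaklyRegular_congr rs).1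
        (isWeaklyRegular_fibre_tensor p rs (QuotSMulTop x N) ⟨fun a ha w => ?_, fun a ha => ⟨fun w w' hw => ?_, fun w => ?_⟩⟩ h.2)
      · obtain ⟨w, rfl⟩ := Submodule.mkQ_surjective _ w
        change Submodule.Quotient.mk (a • w) = 0
        rw [hN.1 a ha w]
        exact Submodule.Quotient.mk_zero _
      · obtain ⟨w, rfl⟩ := Submodule.mkQ_surjective _ w
        obtain ⟨w', rfl⟩ := Submodule.mkQ_surjective _ w'
        replace hw : Submodule.Quotient.mk (a • w) = Submodule.Quotient.mk (p := x • (⊤ : Submodule B N)) (a • w') := hw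
        rw [Submodule.Quotient.eq] at hw
        obtain ⟨v, -, hv⟩ := (Submodule.mem_smul_pointwise_iff_exists _ _ _).1 hw
        obtain ⟨v, rfl⟩ := (hN.2 a ha).2 v
        rw [Submodule.mkQ_apply, Submodule.mkQ_apply, Submodule.Quotient.eq]
        refine (Submodule.mem_smul_pointwise_iff_exists _ _ _).2 ⟨v, trivial, (hN.2 a ha).1 ?_⟩
        show a • x • v = a • (w - w')
        rw [smul_sub, ← hv, smul_comm]
      · obtain ⟨w, rfl⟩ := Submodule.mkQ_surjective _ w
        obtain ⟨v, rfl⟩ := (hN.2 a ha).2 w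
        exact ⟨Submodule.Quotient.mk v, rfl⟩

section Main

variable [IsNoetherianRing B] [IsNoetherianRing B'] (M : Type u) [AddCommGroup M] [Module B M]
  [Module.Finite B M]

omit [IsNoetherianRing B] [IsNoetherianRing B'] [Module.Finite B M] in
theorem nonempty_fibre_baseChange_equiv :
    Nonempty (((B' ⊗[B] M) ⧸ (p'.map (algebraMap A' B') • (⊤ : Submodule B' (B' ⊗[B] M)))) ≃ₗ[B']
      (B' ⧸ p'.map (algebraMap A' B')) ⊗[B] M) :=
  ⟨(quotTensorEquivQuotSMul (B' ⊗[B] M) (p'.map (algebraMap A' B'))).symm ≪≫ₗ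
    AlgebraTensorModule.cancelBaseChange B B' B' (B' ⧸ p'.map (algebraMap A' B')) M⟩

theorem le_idealDepth_fibLocMod_baseChange (q' : Ideal B') [q'.IsPrime] {k : ℕ∞}
    (hk : k ≤ LocCoh.idealDepth ((q'.comap (algebraMap B B')).map
        (algebraMap B (EGA4.FibLocRing A B (q'.comap (algebraMap B B')))))
      (EGA4.FibLocMod A B (q'.comap (algebraMap B B')) M)) :
    k ≤ LocCoh.idealDepth (q'.map (algebraMap B' (EGA4.FibLocRing A' B' q')))
      (EGA4.FibLocMod A' B' q' (B' ⊗[B] M)) := by
  let q := q'.comap (algebraMap B B')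
  let p := q.comap (algebraMap A B)
  let p₁ := q'.comap (algebraMap A' B')
  let C := B' ⧸ p₁.map (algebraMap A' B')
  letI : Module A M := Module.compHom M (algebraMap A B)
  haveI : IsScalarTower A B M := IsScalarTower.of_algebraMap_smul fun _ _ => rfl
  let Mb := M ⧸ (p.map (algebraMap A B) • (⊤ : Submodule B M))
  let N := LocalizedModule q.primeCompl Mb
  let mk := LocalizedModule.mkLinearMap q.primeCompl Mb
  rw [idealDepth_fibLocMod] at hk ⊢
  refine hk.trans ?_
  change LocCoh.depth (Localization.AtPrime q) N ≤ _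
  let W := LocalizedModule q'.primeCompl (C ⊗[B] N)
  let g₁ : C ⊗[B] Mb →ₗ[B'] C ⊗[B] N := AlgebraTensorModule.lTensor B' C mk
  haveI hg₁ : IsLocalizedModule q.primeCompl (g₁.restrictScalars B) := by
    haveI : IsLocalizedModule q.primeCompl (mk.rTensor C) :=
      IsLocalizedModule.rTensor (R := B) (A := B) (N := C) q.primeCompl mk
    have he : g₁.restrictScalars B =
        ((TensorProduct.comm B N C).toLinearMap ∘ₗ mk.rTensor C) ∘ₗ (TensorProduct.comm B C Mb).toLinearMap :=
      TensorProduct.ext' fun c m => rfl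
    rw [he, IsLocalizedModule.comp_iff_of_bijective_right _ _ (TensorProduct.comm B C Mb).bijective,
      IsLocalizedModule.comp_iff_of_bijective_left _ _ (TensorProduct.comm B N C).bijective]
    infer_instance
  let mk' := LocalizedModule.mkLinearMap q'.primeCompl (C ⊗[B] N)
  have hq : ∀ t : q.primeCompl, algebraMap B B' t ∈ q'.primeCompl := fun t => t.2
  haveI : IsLocalizedModule q'.primeCompl (mk' ∘ₗ g₁) :=
    { map_units := IsLocalizedModule.map_units mk'
      surj := fun z => by
        obtain ⟨⟨w, t⟩, hw⟩ := IsLocalizedModule.surj q'.primeCompl mk' z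
        obtain ⟨⟨w₀, s⟩, hs⟩ := IsLocalizedModule.surj q.primeCompl (g₁.restrictScalars B) w
        refine ⟨⟨w₀, ⟨algebraMap B B' s, hq s⟩ * t⟩, ?_⟩
        rw [LinearMap.comp_apply, mul_smul, hw, Submonoid.smul_def, ← map_smul]
        refine congrArg mk' ?_
        rw [algebraMap_smul]
        exact hs
      exists_of_eq := fun {x y} h => by
        obtain ⟨t, ht⟩ := IsLocalizedModule.exists_of_eq (S := q'.primeCompl) (f := mk') h
        rw [Submonoid.smul_def, Submonoid.smul_def, ← map_smul, ← map_smul] at ht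
        obtain ⟨s, hs⟩ := IsLocalizedModule.exists_of_eq (S := q.primeCompl) (f := g₁.restrictScalars B) ht
        refine ⟨⟨algebraMap B B' s, hq s⟩ * t, ?_⟩
        rw [mul_smul, mul_smul]
        simp only [Submonoid.smul_def, algebraMap_smul]
        exact hs }
  obtain ⟨e₁⟩ := nonempty_fibre_baseChange_equiv (B := B) (B' := B') p₁ M
  let π : C ⊗[B] M →ₗ[B'] C ⊗[B] Mb := AlgebraTensorModule.lTensor B' C (Submodule.mkQ _)
  have hπ : Function.Bijective π := by
    refine ⟨(injective_iff_map_eq_zero π).2 fun z hz => ?_, LinearMap.lTensor_surjective C (Submodule.mkQ_surjective _)⟩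
    obtain ⟨w, rfl⟩ := (lTensor_exact C (LinearMap.exact_subtype_mkQ _) (Submodule.mkQ_surjective _) z).mp hz
    clear hz
    induction w using TensorProduct.induction_on with
    | zero => simp
    | add a b ha hb => rw [map_add, ha, hb, add_zero]
    | tmul c m =>
      rw [LinearMap.lTensor_tmul]
      refine Submodule.smul_induction_on (p := fun v => c ⊗ₜ[B] v = 0) m.2 (fun r hr v _ => ?_)
        (fun a b ha hb => by rw [TensorProduct.tmul_add, ha, hb, add_zero])
      rw [← TensorProduct.smul_tmul]
      suffices h0 : r • c = 0 by rw [h0, TensorProduct.zero_tmul]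
      obtain ⟨c, rfl⟩ := Ideal.Quotient.mk_surjective c
      rw [Algebra.smul_def, IsScalarTower.algebraMap_apply B B' C, Ideal.Quotient.algebraMap_eq, ← map_mul]
      refine Ideal.Quotient.eq_zero_iff_mem.2 (Ideal.mul_mem_right _ _ ?_)
      refine (Ideal.map_le_iff_le_comap.2 fun a ha => ?_ :
        p.map (algebraMap A B) ≤ (p₁.map (algebraMap A' B')).comap (algebraMap B B')) hr
      rw [Ideal.mem_comap, Ideal.mem_comap, ← IsScalarTower.algebraMap_apply, IsScalarTower.algebraMap_apply A A' B']
      refine Ideal.mem_map_of_mem _ ?_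
      show algebraMap A' B' (algebraMap A A' a) ∈ q'
      rw [← IsScalarTower.algebraMap_apply, IsScalarTower.algebraMap_apply A B B']
      exact ha
  let eM : ((B' ⊗[B] M) ⧸ (p₁.map (algebraMap A' B') • (⊤ : Submodule B' (B' ⊗[B] M)))) ≃ₗ[B'] C ⊗[B] Mb :=
    e₁ ≪≫ₗ LinearEquiv.ofBijective π hπ
  haveI : IsLocalizedModule q'.primeCompl ((mk' ∘ₗ g₁) ∘ₗ eM.toLinearMap) :=
    (IsLocalizedModule.comp_iff_of_bijective_right _ eM.toLinearMap eM.bijective).2 inferInstance
  let mk₂ := LocalizedModule.mkLinearMap q'.primeCompl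
    ((B' ⊗[B] M) ⧸ (p₁.map (algebraMap A' B') • (⊤ : Submodule B' (B' ⊗[B] M))))
  let eW := IsLocalizedModule.linearEquiv q'.primeCompl mk₂ ((mk' ∘ₗ g₁) ∘ₗ eM.toLinearMap)
  rw [show LocCoh.depth (Localization.AtPrime q') _ = _ from
    idealDepth_congr (M' := W) (LinearEquiv.extendScalarsOfIsLocalization q'.primeCompl (Localization.AtPrime q') eW)]
  by_cases htop : maximalIdeal (Localization.AtPrime q) • (⊤ : Submodule (Localization.AtPrime q) N) = ⊤
  · haveI : Subsingleton N := by
      haveI : Module.Finite (Localization.AtPrime q) N := Module.Finite.of_isLocalizedModule q.primeCompl mk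
      rw [← Submodule.subsingleton_iff (Localization.AtPrime q)]
      exact subsingleton_of_bot_eq_top (Submodule.eq_bot_of_le_smul_of_le_jacobson_bot _ _ Module.Finite.fg_top
        htop.ge (maximalIdeal_le_jacobson _)).symm
    haveI : Subsingleton (C ⊗[B] N) := inferInstance
    haveI : Subsingleton W := LocalizedModule.subsingleton_iff.2 fun x => ⟨1, one_mem _, Subsingleton.elim _ _⟩
    exact le_top.trans_eq (idealDepth_eq_top (Subsingleton.elim _ _)).symm
  refine ENat.forall_natCast_le_iff_le.1 fun n hn => ?_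
  obtain ⟨rs, rfl, hrs, hI⟩ := exists_of_le_idealDepth htop hn
  obtain ⟨bs, hbs, hassoc⟩ : ∃ bs : List B, (∀ b ∈ bs, b ∈ q) ∧
      List.Forall₂ Associated rs (bs.map (algebraMap B (Localization.AtPrime q))) := by
    clear hrs hn
    induction rs with
    | nil => exact ⟨[], by simp, List.Forall₂.nil⟩
    | cons r rs ih =>
      rw [List.forall_mem_cons] at hI
      obtain ⟨bs, h1, h2⟩ := ih hI.2
      have hr := hI.1
      rw [← Localization.AtPrime.map_eq_maximalIdeal] at hr
      obtain ⟨⟨⟨b, hb⟩, t⟩, hbt⟩ := (IsLocalization.mem_map_algebraMap_iff q.primeCompl _).1 hr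
      exact ⟨b :: bs, List.forall_mem_cons.2 ⟨hb, h1⟩,
        List.Forall₂.cons ⟨(IsLocalization.map_units (Localization.AtPrime q) t).unit, hbt⟩ h2⟩
  have hN : IsFieldLike p N := by
    refine ⟨fun a ha x => ?_, fun a ha => ?_⟩
    · induction x using LocalizedModule.induction_on with
      | h m s =>
        obtain ⟨m, rfl⟩ := Submodule.mkQ_surjective _ m
        rw [← algebraMap_smul B a, LocalizedModule.smul'_mk, ← map_smul, Submodule.mkQ_apply,
          (Submodule.Quotient.mk_eq_zero _).2 (Submodule.smul_mem_smul (Ideal.mem_map_of_mem _ ha) Submodule.mem_top),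
          LocalizedModule.zero_mk]
    · have := (Module.End.isUnit_iff _).1 (IsLocalizedModule.map_units mk (⟨algebraMap A B a, ha⟩ : q.primeCompl))
      convert this using 1
      funext x
      rw [Module.algebraMap_end_apply, algebraMap_smul]
  have h1 : IsWeaklyRegular N bs :=
    (isWeaklyRegular_map_algebraMap_iff _ _ bs).1 (isWeaklyRegular_of_associated hassoc hrs)
  have h2 : IsWeaklyRegular (C ⊗[B] N) (bs.map (algebraMap B B')) :=
    (isWeaklyRegular_map_algebraMap_iff _ _ bs).2 (isWeaklyRegular_fibre_tensor p₁ p bs N hN h1)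
  have h3 := IsWeaklyRegular.of_isLocalizedModule (N := W) (Localization.AtPrime q') q'.primeCompl mk' h2
  refine le_trans (le_of_eq ?_) (length_le_idealDepth h3 fun r hr => ?_)
  · rw [hassoc.length_eq, List.length_map, List.length_map, List.length_map]
  · obtain ⟨r, hr', rfl⟩ := List.mem_map.1 hr
    obtain ⟨b, hb', rfl⟩ := List.mem_map.1 hr'
    exact (IsLocalization.AtPrime.to_map_mem_maximal_iff _ q' _).2 (hbs b hb')

end Main

end Groth.L04.FibStalk
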