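import Groth.Agent.L04.Depth2
import Mathlib.LinearAlgebra.Dual.Lemmas
import Mathlib.RingTheory.Ideal.Height
import Mathlib.RingTheory.Localization.Module
import Mathlib.Algebra.Module.FinitePresentation

/-! Reflexivity from depth along a closed subset. -/

set_option autoImplicit false

universe u

open scoped Pointwise

namespace Groth.L04

variable {A : Type u} [CommRing A] [IsNoetherianRing A] (I : Ideal A)
  (G : Type u) [AddCommGroup G] [Module A G] [Module.Finite A G]

theorem exists_smul_eval (p : Ideal A) [p.IsPrime]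
    [Module.IsReflexive (Localization.AtPrime p) (LocalizedModule p.primeCompl G)]
    (φ : Module.Dual A (Module.Dual A G)) :
    ∃ s : A, s ∉ p ∧ ∃ x, Module.Dual.eval A G x = s • φ := by
  classical
  haveI : Module.FinitePresentation A G := Module.finitePresentation_of_finite A G
  let Rm := Localization.AtPrime p
  let Gm := LocalizedModule p.primeCompl G
  let D := IsLocalizedModule.mapExtendScalars p.primeCompl
    (LocalizedModule.mkLinearMap p.primeCompl G) (Algebra.linearMap A Rm) Rm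
  let φ₀ : (Gm →ₗ[Rm] Rm) →ₗ[A] Rm :=
    IsLocalizedModule.lift p.primeCompl D (Algebra.linearMap A Rm ∘ₗ φ)
      (IsLocalizedModule.map_units (Algebra.linearMap A Rm))
  let φ₁ : (Gm →ₗ[Rm] Rm) →ₗ[Rm] Rm :=
    LinearMap.extendScalarsOfIsLocalization p.primeCompl Rm φ₀
  obtain ⟨y, hy⟩ := (Module.bijective_dual_eval Rm Gm).2 φ₁
  obtain ⟨⟨x, s⟩, hs⟩ := IsLocalizedModule.surj p.primeCompl
    (LocalizedModule.mkLinearMap p.primeCompl G) y
  have hψ : ∀ ψ : Module.Dual A G, algebraMap A Rm (ψ x) = algebraMap A Rm ((s : A) * φ ψ) := by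
    intro ψ
    have h1 : φ₁ (D ψ) = algebraMap A Rm (φ ψ) := by
      change φ₀ (D ψ) = _
      simp only [φ₀]
      rw [IsLocalizedModule.lift_apply]
      rfl
    have h2 : D ψ (LocalizedModule.mkLinearMap p.primeCompl G x) = algebraMap A Rm (ψ x) :=
      IsLocalizedModule.map_apply p.primeCompl (LocalizedModule.mkLinearMap p.primeCompl G)
        (Algebra.linearMap A Rm) ψ x
    have h3 : D ψ y = algebraMap A Rm (φ ψ) := by
      rw [← h1, ← hy]
      rfl
    rw [← h2, ← hs, map_mul, ← h3, Submonoid.smul_def, LinearMap.map_smul_of_tower,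
      Algebra.smul_def]
  obtain ⟨S, hS⟩ := (inferInstance : Module.Finite A (Module.Dual A G)).fg_top
  choose t ht using fun ψ : Module.Dual A G =>
    IsLocalization.exists_of_eq (M := p.primeCompl) (hψ ψ)
  refine ⟨(∏ ψ ∈ S, (t ψ : A)) * s,
    p.primeCompl.mul_mem (Submonoid.prod_mem _ fun ψ _ => (t ψ).2) s.2,
    (∏ ψ ∈ S, (t ψ : A)) • x, LinearMap.ext_on hS fun ψ hψS => ?_⟩
  obtain ⟨c, hc⟩ : (t ψ : A) ∣ ∏ ψ ∈ S, (t ψ : A) := Finset.dvd_prod_of_mem (fun ψ => (t ψ : A)) hψS
  change ψ ((∏ ψ ∈ S, (t ψ : A)) • x) = (((∏ ψ ∈ S, (t ψ : A)) * s) • φ) ψ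
  rw [map_smul, LinearMap.smul_apply, smul_eq_mul, smul_eq_mul, hc]
  linear_combination c * ht ψ

theorem exists_smul_eq_zero_of_eval (p : Ideal A) [p.IsPrime]
    [Module.IsReflexive (Localization.AtPrime p) (LocalizedModule p.primeCompl G)]
    {x : G} (hx : Module.Dual.eval A G x = 0) : ∃ s : A, s ∉ p ∧ s • x = 0 := by
  haveI : Module.FinitePresentation A G := Module.finitePresentation_of_finite A G
  let Rm := Localization.AtPrime p
  let mk := LocalizedModule.mkLinearMap p.primeCompl G
  let D := IsLocalizedModule.mapExtendScalars p.primeCompl mk (Algebra.linearMap A Rm) Rm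
  have h0 : mk x = 0 := by
    refine (Module.bijective_dual_eval Rm (LocalizedModule p.primeCompl G)).1 ?_
    rw [map_zero]
    refine LinearMap.ext fun l => ?_
    obtain ⟨⟨ψ, s⟩, hs⟩ := IsLocalizedModule.surj p.primeCompl D l
    have h2 : D ψ (mk x) = algebraMap A Rm (ψ x) :=
      IsLocalizedModule.map_apply p.primeCompl mk (Algebra.linearMap A Rm) ψ x
    have h3 : ψ x = 0 := LinearMap.congr_fun hx ψ
    rw [h3, map_zero, ← hs, Submonoid.smul_def, LinearMap.smul_apply, Algebra.smul_def] at h2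
    rw [Module.Dual.eval_apply, LinearMap.zero_apply]
    exact (IsLocalization.map_units Rm s).mul_right_eq_zero.1 h2
  obtain ⟨s, hs⟩ := (IsLocalizedModule.eq_zero_iff p.primeCompl mk).1 h0
  exact ⟨s, s.2, hs⟩

/-- An element killed outside `V(I)` of a module of positive depth is zero. -/
theorem eq_zero_of_off {M : Type u} [AddCommGroup M] [Module A M] [Module.Finite A M]
    (hM : 1 ≤ LocCoh.idealDepth I M) {x : M}
    (hx : ∀ p : PrimeSpectrum A, ¬ I ≤ p.asIdeal → ∃ s : A, s ∉ p.asIdeal ∧ s • x = 0) : x = 0 := by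
  have hle : I ≤ (Ideal.torsionOf A M x).radical := by
    rw [Ideal.radical_eq_sInf]
    refine le_sInf fun q hq => ?_
    by_contra hI
    obtain ⟨s, hs, hsx⟩ := hx ⟨q, hq.2⟩ hI
    exact hs (hq.1 ((Ideal.mem_torsionOf_iff x s).2 hsx))
  obtain ⟨n, hn⟩ := Ideal.exists_pow_le_of_le_radical_of_fg hle (IsNoetherian.noetherian I)
  clear hx hle
  induction n generalizing x with
  | zero =>
    rw [pow_zero, Ideal.one_eq_top, top_le_iff] at hn
    exact (one_smul A x).symm.trans ((Ideal.mem_torsionOf_iff x 1).1 (hn ▸ trivial))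
  | succ n ih =>
    refine hom_zero_of_one_le hM fun a ha => ih fun b hb => ?_
    rw [Ideal.mem_torsionOf_iff, ← mul_smul]
    exact (Ideal.mem_torsionOf_iff x _).1 (hn (pow_succ I n ▸ Ideal.mul_mem_mul hb ha))

theorem isReflexive_of_idealDepth_two (hA : 1 ≤ LocCoh.idealDepth I A)
    (hU : ∀ p : PrimeSpectrum A, ¬ I ≤ p.asIdeal →
      Module.IsReflexive (Localization.AtPrime p.asIdeal) (LocalizedModule p.asIdeal.primeCompl G))
    (hG : 2 ≤ LocCoh.idealDepth I G) : Module.IsReflexive A G := by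
  let ev := Module.Dual.eval A G
  have hinj : Function.Injective ev := by
    refine (injective_iff_map_eq_zero ev).2 fun x hx => eq_zero_of_off I (one_le_two.trans hG) fun p hp => ?_
    haveI := hU p hp
    exact exists_smul_eq_zero_of_eval G p.asIdeal hx
  have h1 : ((1 : ℕ) : ℕ∞) ≤ LocCoh.idealDepth I (Module.Dual A (Module.Dual A G)) := by
    simpa using (idealDepth_dual I (Module.Dual A G)).1 hA
  have hQ : 1 ≤ LocCoh.idealDepth I (Module.Dual A (Module.Dual A G) ⧸ LinearMap.range ev) := by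
    simpa using le_idealDepth_right (I := I) (n := 1) hinj (Submodule.mkQ_surjective _)
      (LinearMap.exact_map_mkQ_range ev) (by simpa using hG) h1
  refine ⟨⟨hinj, fun φ => ?_⟩⟩
  refine LinearMap.mem_range.1 ((Submodule.Quotient.mk_eq_zero _).1
    (eq_zero_of_off I hQ (x := Submodule.Quotient.mk φ) fun p hp => ?_))
  haveI := hU p hp
  obtain ⟨s, hs, x, hx⟩ := exists_smul_eval G p.asIdeal φ
  exact ⟨s, hs, by rw [← Submodule.Quotient.mk_smul, Submodule.Quotient.mk_eq_zero]; exact ⟨x, hx⟩⟩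

end Groth.L04
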