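import Groth.Agent.L04.FibStalk
import Groth.Agent.L04.Reflexive
import Groth.Agent.L02.CMMor.FlatDepth
import Groth.Agent.L20.FibreFT
import Mathlib.RingTheory.Flat.Localization

/-! Depth of a flat module along a closed subset from the depths of its fibre stalks. -/

set_option autoImplicit false
set_option maxHeartbeats 800000
set_option linter.style.haveILetI false

universe u

open IsLocalRing TensorProduct

namespace Groth.L04.FibStalk

variable {A B : Type u} [CommRing A] [CommRing B] [IsNoetherianRing B] [Algebra A B]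

theorem idealDepth_fibLocMod_self (q : Ideal B) [q.IsPrime] :
    LocCoh.idealDepth (q.map (algebraMap B (EGA4.FibLocRing A B q))) (EGA4.FibLocMod A B q B) =
      LocCoh.idealDepth (q.map (algebraMap B (EGA4.FibLocRing A B q))) (EGA4.FibLocRing A B q) := by
  let L := LocalizedModule q.primeCompl B
  let Bq := Localization.AtPrime q
  let I := (q.comap (algebraMap A B)).map (algebraMap A Bq)
  let e : L ≃ₗ[Bq] Bq := (IsLocalizedModule.linearEquiv q.primeCompl (LocalizedModule.mkLinearMap q.primeCompl B)
    (Algebra.linearMap B Bq)).extendScalarsOfIsLocalization q.primeCompl Bq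
  let e' : (L ⧸ (I • (⊤ : Submodule Bq L))) ≃ₗ[Bq] Bq ⧸ I :=
    Submodule.Quotient.equiv _ _ e (by
      rw [Submodule.map_smul'', Submodule.map_top, LinearEquiv.range]
      exact Ideal.mul_top I)
  haveI : IsScalarTower Bq (EGA4.FibLocRing A B q) (EGA4.FibLocMod A B q B) := by
    refine ⟨fun r s x => ?_⟩
    obtain ⟨s, rfl⟩ := Ideal.Quotient.mk_surjective s
    obtain ⟨x, rfl⟩ := Submodule.mkQ_surjective _ x
    exact congrArg Submodule.Quotient.mk (smul_assoc r s x)
  haveI : Module.Finite Bq L := Module.Finite.of_isLocalizedModule q.primeCompl (LocalizedModule.mkLinearMap q.primeCompl B)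
  haveI : Module.Finite (EGA4.FibLocRing A B q) (EGA4.FibLocMod A B q B) :=
    Module.Finite.of_restrictScalars_finite Bq _ _
  have hq : q.map (algebraMap B (EGA4.FibLocRing A B q)) =
      (maximalIdeal Bq).map (algebraMap Bq (EGA4.FibLocRing A B q)) := by
    rw [← Localization.AtPrime.map_eq_maximalIdeal, Ideal.map_map, ← IsScalarTower.algebraMap_eq]
  rw [hq, ← idealDepth_eq_idealDepth_map_of_finite (B := EGA4.FibLocRing A B q) (maximalIdeal Bq),
    ← idealDepth_eq_idealDepth_map_of_finite (B := EGA4.FibLocRing A B q) (maximalIdeal Bq)]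
  exact idealDepth_congr e'

theorem le_idealDepth_of_fibre [IsNoetherianRing A] (J : Ideal B) (M : Type u) [AddCommGroup M] [Module B M]
    [Module A M] [IsScalarTower A B M] [Module.Finite B M] [Module.Flat A M] {k : ℕ∞}
    (h : ∀ q : PrimeSpectrum B, J ≤ q.asIdeal →
      k ≤ LocCoh.idealDepth (q.asIdeal.map (algebraMap B (EGA4.FibLocRing A B q.asIdeal))) (EGA4.FibLocMod A B q.asIdeal M)) :
    k ≤ LocCoh.idealDepth J M := by
  rw [idealDepth_eq_iInf_depth]
  refine le_iInf₂ fun Q hJ => (h Q hJ).trans ?_
  let q := Q.asIdeal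
  let p := q.comap (algebraMap A B)
  let Ap := Localization.AtPrime p
  let Bq := Localization.AtPrime q
  letI : Algebra Ap Bq := (Localization.localRingHom p q (algebraMap A B) rfl).toAlgebra
  haveI : IsLocalHom (algebraMap Ap Bq) := Localization.isLocalHom_localRingHom p q (algebraMap A B) rfl
  haveI : IsScalarTower A Ap Bq := IsScalarTower.of_algebraMap_eq fun a =>
    (IsScalarTower.algebraMap_apply A B Bq a).trans
      (Localization.localRingHom_to_map p q (algebraMap A B) rfl a).symm
  letI : Module Ap (LocalizedModule q.primeCompl M) := Module.compHom _ (algebraMap Ap Bq)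
  haveI : IsScalarTower Ap Bq (LocalizedModule q.primeCompl M) := IsScalarTower.of_algebraMap_smul fun _ _ => rfl
  haveI : IsScalarTower A Ap (LocalizedModule q.primeCompl M) := IsScalarTower.of_algebraMap_smul fun a x => by
    show algebraMap Ap Bq (algebraMap A Ap a) • x = a • x
    rw [← IsScalarTower.algebraMap_apply, algebraMap_smul]
  haveI : Module.Finite Bq (LocalizedModule q.primeCompl M) :=
    Module.Finite.of_isLocalizedModule q.primeCompl (LocalizedModule.mkLinearMap q.primeCompl M)
  haveI : Module.Flat A (LocalizedModule q.primeCompl M) :=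
    Groth.L20.FibreCrit.flat_localizedModule_of_flat q.primeCompl
  haveI : Module.Flat Ap (LocalizedModule q.primeCompl M) :=
    (Module.flat_iff_of_isLocalization Ap p.primeCompl (LocalizedModule q.primeCompl M)).2 inferInstance
  have hdt := L02.CMMor.depth_tensor (A := Ap) (B := Bq) (LocalizedModule q.primeCompl M) Ap
  have hm : EGA4.mB Ap Bq = (p.map (algebraMap A B)).map (algebraMap B Bq) := by
    rw [EGA4.mB, ← Localization.AtPrime.map_eq_maximalIdeal, Ideal.map_map, Ideal.map_map]
    congr 1
    rw [← IsScalarTower.algebraMap_eq, ← IsScalarTower.algebraMap_eq]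
  obtain ⟨e⟩ := nonempty_localizedQuotient M (p.map (algebraMap A B)) q
  rw [idealDepth_fibLocMod]
  have h1 : LocCoh.depth Bq (EGA4.FibMod Ap Bq (LocalizedModule q.primeCompl M)) =
      LocCoh.depth Bq (LocalizedModule q.primeCompl (M ⧸ (p.map (algebraMap A B) • (⊤ : Submodule B M)))) := by
    rw [LocCoh.depth, LocCoh.depth, idealDepth_congr e]
    exact idealDepth_congr (Submodule.quotEquivOfEq _ _ (by rw [hm]))
  have h2 : LocCoh.depth Bq (LocalizedModule q.primeCompl M ⊗[Ap] Ap) =
      LocCoh.depth Bq (LocalizedModule q.primeCompl M) :=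
    idealDepth_congr (AlgebraTensorModule.rid Ap Bq _)
  rw [← h1, ← h2, hdt]
  exact le_add_self

theorem le_idealDepth_self_of_fibre [IsNoetherianRing A] [Module.Flat A B] (J : Ideal B) {k : ℕ∞}
    (h : ∀ q : PrimeSpectrum B, J ≤ q.asIdeal →
      k ≤ LocCoh.idealDepth (q.asIdeal.map (algebraMap B (EGA4.FibLocRing A B q.asIdeal))) (EGA4.FibLocRing A B q.asIdeal)) :
    k ≤ LocCoh.idealDepth J B :=
  le_idealDepth_of_fibre (A := A) J B fun q hq => by rw [idealDepth_fibLocMod_self (A := A)]; exact h q hq

theorem isReflexive_of_two_le (J : Ideal B) (hB : 1 ≤ LocCoh.idealDepth J B) (F : Type u) [AddCommGroup F]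
    [Module B F] [Module.Finite B F]
    (hU : ∀ q : PrimeSpectrum B, ¬ J ≤ q.asIdeal →
      Module.Free (Localization.AtPrime q.asIdeal) (LocalizedModule q.asIdeal.primeCompl F))
    (h : 2 ≤ LocCoh.idealDepth J F) : Module.IsReflexive B F :=
  isReflexive_of_idealDepth_two J F hB (fun q hq => by
    haveI := hU q hq
    haveI : Module.Finite (Localization.AtPrime q.asIdeal) (LocalizedModule q.asIdeal.primeCompl F) :=
      Module.Finite.of_isLocalizedModule q.asIdeal.primeCompl (LocalizedModule.mkLinearMap q.asIdeal.primeCompl F)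
    infer_instance) h

theorem two_le_idealDepth_of_isReflexive (J : Ideal B) (hB : 2 ≤ LocCoh.idealDepth J B) (F : Type u)
    [AddCommGroup F] [Module B F] [Module.Finite B F] [Module.IsReflexive B F] :
    2 ≤ LocCoh.idealDepth J F := by
  rw [idealDepth_congr (Module.evalEquiv B F)]
  exact (idealDepth_dual J (Module.Dual B F)).2 hB

end Groth.L04.FibStalk
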