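import Groth.Agent.L04.FibStalk
import Groth.Agent.L04.FibFlatSeq
import Mathlib.RingTheory.Flat.Localization

/-! Four-term exact sequences at a point of the source. -/

set_option autoImplicit false
set_option maxHeartbeats 800000
set_option linter.style.haveILetI false

universe u

open IsLocalRing TensorProduct

namespace Groth.L04.FibStalk

variable {A B : Type u} [CommRing A] [CommRing B] [IsNoetherianRing A] [IsNoetherianRing B] [Algebra A B]
  (J : Ideal B) {F E0 E1 G : Type u}
  [AddCommGroup F] [Module B F] [Module A F] [IsScalarTower A B F] [Module.Finite B F]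
  [AddCommGroup E0] [Module B E0] [Module A E0] [IsScalarTower A B E0] [Module.Finite B E0] [Module.Flat A E0]
  [AddCommGroup E1] [Module B E1] [Module A E1] [IsScalarTower A B E1] [Module.Finite B E1] [Module.Flat A E1]
  [AddCommGroup G] [Module B G] [Module A G] [IsScalarTower A B G] [Module.Finite B G]
  (f : F →ₗ[B] E0) (u : E0 →ₗ[B] E1) (v : E1 →ₗ[B] G)
  (hf : Function.Injective f) (hfu : Function.Exact f u) (huv : Function.Exact u v) (hv : Function.Surjective v)

omit [IsNoetherianRing A] [IsNoetherianRing B] [Module.Finite B F] [Module.Finite B E0] [Module.Finite B E1]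
  [Module.Finite B G] in
include hf hfu huv hv in
theorem flatAt_kernel_point (q : Ideal B) [q.IsPrime] (hG : FlatCA.FlatAt A q G) : FlatCA.FlatAt A q F :=
  FibFlat.flatAt_left f u.rangeRestrict hf
    (LinearMap.exact_iff.2 (by rw [LinearMap.ker_rangeRestrict]; exact LinearMap.exact_iff.1 hfu))
    u.surjective_rangeRestrict q
    (FibFlat.flatAt_left (LinearMap.range u).subtype v (LinearMap.range u).injective_subtype
      (LinearMap.exact_iff.2 (by rw [Submodule.range_subtype]; exact LinearMap.exact_iff.1 huv)) hv q hG)

include hf hfu huv hv in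
theorem point (hGU : ∀ q : PrimeSpectrum B, ¬ J ≤ q.asIdeal → FlatCA.FlatAt A q.asIdeal G)
    (h0 : ∀ q : PrimeSpectrum B, J ≤ q.asIdeal →
      2 ≤ LocCoh.idealDepth (q.asIdeal.map (algebraMap B (EGA4.FibLocRing A B q.asIdeal))) (EGA4.FibLocMod A B q.asIdeal E0))
    (h1 : ∀ q : PrimeSpectrum B, J ≤ q.asIdeal →
      1 ≤ LocCoh.idealDepth (q.asIdeal.map (algebraMap B (EGA4.FibLocRing A B q.asIdeal))) (EGA4.FibLocMod A B q.asIdeal E1))
    (q : Ideal B) [q.IsPrime] (hJ : J ≤ q) :
    (FlatCA.FlatAt A q G →
      2 ≤ LocCoh.idealDepth (q.map (algebraMap B (EGA4.FibLocRing A B q))) (EGA4.FibLocMod A B q F)) ∧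
    ((∀ (q' : Ideal B) [q'.IsPrime], q' ≤ q → J ≤ q' →
      2 ≤ LocCoh.idealDepth (q'.map (algebraMap B (EGA4.FibLocRing A B q'))) (EGA4.FibLocMod A B q' F)) →
      FlatCA.FlatAt A q G) := by
  let p := q.comap (algebraMap A B)
  let Ap := Localization.AtPrime p
  let Bq := Localization.AtPrime q
  letI : Algebra Ap Bq := (Localization.localRingHom p q (algebraMap A B) rfl).toAlgebra
  haveI : IsLocalHom (algebraMap Ap Bq) := Localization.isLocalHom_localRingHom p q (algebraMap A B) rfl
  haveI : IsScalarTower A Ap Bq := IsScalarTower.of_algebraMap_eq fun a =>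
    (IsScalarTower.algebraMap_apply A B Bq a).trans
      (Localization.localRingHom_to_map p q (algebraMap A B) rfl a).symm
  letI : Module Ap (LocalizedModule q.primeCompl F) := Module.compHom _ (algebraMap Ap Bq)
  letI : Module Ap (LocalizedModule q.primeCompl E0) := Module.compHom _ (algebraMap Ap Bq)
  letI : Module Ap (LocalizedModule q.primeCompl E1) := Module.compHom _ (algebraMap Ap Bq)
  letI : Module Ap (LocalizedModule q.primeCompl G) := Module.compHom _ (algebraMap Ap Bq)
  haveI : IsScalarTower Ap Bq (LocalizedModule q.primeCompl F) := IsScalarTower.of_algebraMap_smul fun _ _ => rfl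
  haveI : IsScalarTower Ap Bq (LocalizedModule q.primeCompl E0) := IsScalarTower.of_algebraMap_smul fun _ _ => rfl
  haveI : IsScalarTower Ap Bq (LocalizedModule q.primeCompl E1) := IsScalarTower.of_algebraMap_smul fun _ _ => rfl
  haveI : IsScalarTower Ap Bq (LocalizedModule q.primeCompl G) := IsScalarTower.of_algebraMap_smul fun _ _ => rfl
  have hsmul : ∀ (X : Type u) [AddCommGroup X] [Module B X] [Module A X] [IsScalarTower A B X]
      (a : A) (x : LocalizedModule q.primeCompl X), algebraMap Ap Bq (algebraMap A Ap a) • x = a • x := by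
    intro X _ _ _ _ a x
    rw [← IsScalarTower.algebraMap_apply, algebraMap_smul]
  haveI : IsScalarTower A Ap (LocalizedModule q.primeCompl E0) := IsScalarTower.of_algebraMap_smul (hsmul E0)
  haveI : IsScalarTower A Ap (LocalizedModule q.primeCompl E1) := IsScalarTower.of_algebraMap_smul (hsmul E1)
  haveI : IsScalarTower A Ap (LocalizedModule q.primeCompl G) := IsScalarTower.of_algebraMap_smul (hsmul G)
  haveI : Module.Finite Bq (LocalizedModule q.primeCompl F) :=
    Module.Finite.of_isLocalizedModule q.primeCompl (LocalizedModule.mkLinearMap q.primeCompl F)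
  haveI : Module.Finite Bq (LocalizedModule q.primeCompl E0) :=
    Module.Finite.of_isLocalizedModule q.primeCompl (LocalizedModule.mkLinearMap q.primeCompl E0)
  haveI : Module.Finite Bq (LocalizedModule q.primeCompl E1) :=
    Module.Finite.of_isLocalizedModule q.primeCompl (LocalizedModule.mkLinearMap q.primeCompl E1)
  haveI : Module.Finite Bq (LocalizedModule q.primeCompl G) :=
    Module.Finite.of_isLocalizedModule q.primeCompl (LocalizedModule.mkLinearMap q.primeCompl G)
  haveI : Module.Flat A (LocalizedModule q.primeCompl E0) :=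
    Groth.L20.FibreCrit.flat_localizedModule_of_flat q.primeCompl
  haveI : Module.Flat A (LocalizedModule q.primeCompl E1) :=
    Groth.L20.FibreCrit.flat_localizedModule_of_flat q.primeCompl
  haveI : Module.Flat Ap (LocalizedModule q.primeCompl E0) :=
    (Module.flat_iff_of_isLocalization Ap p.primeCompl (LocalizedModule q.primeCompl E0)).2 inferInstance
  haveI : Module.Flat Ap (LocalizedModule q.primeCompl E1) :=
    (Module.flat_iff_of_isLocalization Ap p.primeCompl (LocalizedModule q.primeCompl E1)).2 inferInstance
  let fq := LocalizedModule.map q.primeCompl f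
  let uq := LocalizedModule.map q.primeCompl u
  let vq := LocalizedModule.map q.primeCompl v
  have hfq : Function.Injective fq := LocalizedModule.map_injective q.primeCompl f hf
  have hfuq : Function.Exact fq uq := LocalizedModule.map_exact q.primeCompl f u hfu
  have huvq : Function.Exact uq vq := LocalizedModule.map_exact q.primeCompl u v huv
  have hvq : Function.Surjective vq := LocalizedModule.map_surjective q.primeCompl v hv
  have hm : EGA4.mB Ap Bq = (p.map (algebraMap A B)).map (algebraMap B Bq) := by
    rw [EGA4.mB, ← Localization.AtPrime.map_eq_maximalIdeal, Ideal.map_map, Ideal.map_map]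
    congr 1
    rw [← IsScalarTower.algebraMap_eq, ← IsScalarTower.algebraMap_eq]
  have hfib : ∀ (X : Type u) [AddCommGroup X] [Module B X] [Module.Finite B X],
      LocCoh.idealDepth (J.map (algebraMap B Bq)) (EGA4.FibMod Ap Bq (LocalizedModule q.primeCompl X)) =
      LocCoh.idealDepth (J.map (algebraMap B Bq))
        (LocalizedModule q.primeCompl (X ⧸ (p.map (algebraMap A B) • (⊤ : Submodule B X)))) := by
    intro X _ _ _
    obtain ⟨e⟩ := nonempty_localizedQuotient X (p.map (algebraMap A B)) q
    rw [idealDepth_congr e]
    exact idealDepth_congr (Submodule.quotEquivOfEq _ _ (by rw [hm]))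
  have h0' : 2 ≤ LocCoh.idealDepth (J.map (algebraMap B Bq)) (EGA4.FibMod Ap Bq (LocalizedModule q.primeCompl E0)) := by
    rw [hfib E0]
    exact le_idealDepth_fibre_localized E0 J q 2 fun q' hq' _ hJ' => h0 ⟨q', hq'⟩ hJ'
  have h1' : 1 ≤ LocCoh.idealDepth (J.map (algebraMap B Bq)) (EGA4.FibMod Ap Bq (LocalizedModule q.primeCompl E1)) := by
    rw [hfib E1]
    exact le_idealDepth_fibre_localized E1 J q 1 fun q' hq' _ hJ' => h1 ⟨q', hq'⟩ hJ'
  constructor
  · intro hG
    haveI : Module.Flat A (LocalizedModule q.primeCompl G) := hG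
    haveI : Module.Flat Ap (LocalizedModule q.primeCompl G) :=
      (Module.flat_iff_of_isLocalization Ap p.primeCompl (LocalizedModule q.primeCompl G)).2 inferInstance
    have h := FibFlat.two_le_fibMod_of_flat (J.map (algebraMap B Bq)) fq uq vq hfq hfuq huvq hvq h0' h1'
    rw [hfib F] at h
    exact le_idealDepth_fibLocMod_of_localized F hJ h
  · intro hF
    have h := le_idealDepth_fibre_localized F J q 2 fun q' _ h1 h2 => hF q' h1 h2
    rw [← hfib F] at h
    have hU : ∀ P : PrimeSpectrum Bq, ¬ J.map (algebraMap B Bq) ≤ P.asIdeal →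
        FlatCA.FlatAt Ap P.asIdeal (LocalizedModule q.primeCompl G) := by
      intro P hP
      obtain ⟨E, hE⟩ := exists_semi_localized q G P.asIdeal
      haveI hflat : Module.Flat A (LocalizedModule (P.asIdeal.comap (algebraMap B Bq)).primeCompl G) :=
        hGU ⟨P.asIdeal.comap (algebraMap B Bq), inferInstance⟩ fun hle => hP (Ideal.map_le_iff_le_comap.2 hle)
      let L := LocalizedModule P.asIdeal.primeCompl (LocalizedModule q.primeCompl G)
      haveI : IsScalarTower A Ap L := IsScalarTower.of_algebraMap_smul fun a x => by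
        induction x using LocalizedModule.induction_on with
        | h m s =>
          rw [LocalizedModule.smul'_mk, LocalizedModule.smul'_mk, algebraMap_smul]
      have key : ∀ (a : A) (x : LocalizedModule (P.asIdeal.comap (algebraMap B Bq)).primeCompl G),
          E.e (a • x) = a • E.e x := by
        intro a x
        rw [← algebraMap_smul B a x, hE, algebraMap_smul]
      refine (Module.flat_iff_of_isLocalization Ap p.primeCompl L).2 ?_
      exact Module.Flat.of_linearEquiv ({ E.e with map_smul' := key } : _ ≃ₗ[A] L).symm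
    have := FibFlat.flat_of_two_le_fibMod (J.map (algebraMap B Bq)) fq uq vq hfq hfuq huvq hvq hU h0' h
    exact (Module.flat_iff_of_isLocalization Ap p.primeCompl (LocalizedModule q.primeCompl G)).1 this

end Groth.L04.FibStalk
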