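import Groth.Agent.L04.FibStalkReflexive
import Groth.Agent.L04.FibStalkSeq
import Groth.Agent.L04.CMLoc

/-! Kernels of maps of projective modules, free off a closed subset, and their base change. -/

set_option autoImplicit false
set_option maxHeartbeats 800000
set_option linter.style.haveILetI false

universe u

open TensorProduct IsLocalRing

namespace Groth.L04.FibStalk

theorem projective_quotient {S : Type u} [CommRing S] (I : Ideal S) (P : Type u) [AddCommGroup P] [Module S P]
    [Module.Projective S P] : Module.Projective (S ⧸ I) (P ⧸ (I • (⊤ : Submodule S P))) :=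
  Module.Projective.of_equiv
    (LinearEquiv.extendScalarsOfSurjective (Ideal.Quotient.mk_surjective (I := I)) (quotTensorEquivQuotSMul P I))

section

variable {A B : Type u} [CommRing A] [CommRing B] [IsNoetherianRing B] [Algebra A B]

theorem idealDepth_fibLocMod_map (J q : Ideal B) [q.IsPrime] (F : Type u) [AddCommGroup F] [Module B F]
    [Module.Finite B F] :
    LocCoh.idealDepth (J.map (algebraMap B (EGA4.FibLocRing A B q))) (EGA4.FibLocMod A B q F) =
      LocCoh.idealDepth (J.map (algebraMap B (Localization.AtPrime q))) (LocalizedModule q.primeCompl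
        (F ⧸ ((q.comap (algebraMap A B)).map (algebraMap A B) • (⊤ : Submodule B F)))) := by
  obtain ⟨e⟩ := nonempty_localizedQuotient F ((q.comap (algebraMap A B)).map (algebraMap A B)) q
  haveI : Module.Finite (Localization.AtPrime q) (LocalizedModule q.primeCompl F) :=
    Module.Finite.of_isLocalizedModule q.primeCompl (LocalizedModule.mkLinearMap q.primeCompl F)
  rw [idealDepth_congr e, Ideal.map_map, ← IsScalarTower.algebraMap_eq]
  haveI : IsScalarTower (Localization.AtPrime q) (EGA4.FibLocRing A B q) (EGA4.FibLocMod A B q F) := by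
    refine ⟨fun r s x => ?_⟩
    obtain ⟨s, rfl⟩ := Ideal.Quotient.mk_surjective s
    obtain ⟨x, rfl⟩ := Submodule.mkQ_surjective _ x
    exact congrArg Submodule.Quotient.mk (smul_assoc r s x)
  haveI : Module.Finite (EGA4.FibLocRing A B q) (EGA4.FibLocMod A B q F) :=
    Module.Finite.of_restrictScalars_finite (Localization.AtPrime q) _ _
  rw [idealDepth_eq_idealDepth_map_of_finite (B := EGA4.FibLocRing A B q) (J.map (algebraMap B (Localization.AtPrime q)))
    (EGA4.FibLocMod A B q F)]
  congr 1
  rw [Ideal.map_map, ← IsScalarTower.algebraMap_eq]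

theorem le_idealDepth_fibLocMod_of_projective (q : Ideal B) [q.IsPrime] (P : Type u) [AddCommGroup P] [Module B P]
    [Module.Finite B P] [Module.Projective B P] {n : ℕ}
    (h : (n : ℕ∞) ≤ LocCoh.idealDepth (q.map (algebraMap B (EGA4.FibLocRing A B q))) (EGA4.FibLocRing A B q)) :
    (n : ℕ∞) ≤ LocCoh.idealDepth (q.map (algebraMap B (EGA4.FibLocRing A B q))) (EGA4.FibLocMod A B q P) := by
  let Bq := Localization.AtPrime q
  haveI : Module.Finite Bq (LocalizedModule q.primeCompl P) :=
    Module.Finite.of_isLocalizedModule q.primeCompl (LocalizedModule.mkLinearMap q.primeCompl P)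
  haveI : Module.Projective Bq (LocalizedModule q.primeCompl P) :=
    Module.Projective.of_equiv
      (IsLocalizedModule.isBaseChange q.primeCompl Bq (LocalizedModule.mkLinearMap q.primeCompl P)).equiv
  haveI : Module.Projective (EGA4.FibLocRing A B q) (EGA4.FibLocMod A B q P) := projective_quotient _ _
  haveI : IsScalarTower Bq (EGA4.FibLocRing A B q) (EGA4.FibLocMod A B q P) := by
    refine ⟨fun r s x => ?_⟩
    obtain ⟨s, rfl⟩ := Ideal.Quotient.mk_surjective s
    obtain ⟨x, rfl⟩ := Submodule.mkQ_surjective _ x
    exact congrArg Submodule.Quotient.mk (smul_assoc r s x)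
  haveI : Module.Finite (EGA4.FibLocRing A B q) (EGA4.FibLocMod A B q P) :=
    Module.Finite.of_restrictScalars_finite Bq _ _
  exact le_idealDepth_of_projective _ _ h

end

variable {B B' : Type u} [CommRing B] [IsNoetherianRing B] [CommRing B'] [Algebra B B'] (J : Ideal B)
  {F E0 E1 G : Type u} [AddCommGroup F] [Module B F] [AddCommGroup E0] [Module B E0]
  [AddCommGroup E1] [Module B E1] [AddCommGroup G] [Module B G] [Module.Finite B F] [Module.Finite B G]
  [Module.Finite B E0] [Module.Finite B E1] [Module.Flat B E0] [Module.Flat B E1]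
  (f : F →ₗ[B] E0) (u : E0 →ₗ[B] E1) (v : E1 →ₗ[B] G)
  (hf : Function.Injective f) (hfu : Function.Exact f u) (huv : Function.Exact u v) (hv : Function.Surjective v)
  (hFU : ∀ q : PrimeSpectrum B, ¬ J ≤ q.asIdeal →
    Module.Free (Localization.AtPrime q.asIdeal) (LocalizedModule q.asIdeal.primeCompl F))
  (hGU : ∀ q : PrimeSpectrum B, ¬ J ≤ q.asIdeal →
    Module.Free (Localization.AtPrime q.asIdeal) (LocalizedModule q.asIdeal.primeCompl G))

omit [IsNoetherianRing B] [Module.Finite B F] [Module.Finite B G] [Module.Finite B E0] [Module.Finite B E1]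
  [Module.Flat B E0] [Module.Flat B E1] in
include hGU in
theorem flatAt_self_of_free : ∀ q : PrimeSpectrum B, ¬ J ≤ q.asIdeal → FlatCA.FlatAt B q.asIdeal G := fun q hq => by
  haveI := hGU q hq
  exact Module.Flat.trans B (Localization.AtPrime q.asIdeal) (LocalizedModule q.asIdeal.primeCompl G)

include hf hfu huv hv hFU hGU in
theorem free_localized_ker_baseChange (q' : Ideal B') [q'.IsPrime] (hq' : ¬ J.map (algebraMap B B') ≤ q') :
    Module.Free (Localization.AtPrime q') (LocalizedModule q'.primeCompl (LinearMap.ker (u.baseChange B'))) := by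
  let q : PrimeSpectrum B := ⟨q'.comap (algebraMap B B'), inferInstance⟩
  have hq : ¬ J ≤ q.asIdeal := fun hle => hq' (Ideal.map_le_iff_le_comap.2 hle)
  have hGU' := flatAt_self_of_free J hGU
  have hZU := FibFlat.flatAt_range (A := B) J u v huv hv hGU'
  have hex1 : Function.Exact (LinearMap.range u).subtype v :=
    LinearMap.exact_iff.2 (by rw [Submodule.range_subtype]; exact LinearMap.exact_iff.1 huv)
  have hex0 : Function.Exact f u.rangeRestrict :=
    LinearMap.exact_iff.2 (by rw [LinearMap.ker_rangeRestrict]; exact LinearMap.exact_iff.1 hfu)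
  have hcomm : ∀ {X Y : Type u} [AddCommGroup X] [Module B X] [AddCommGroup Y] [Module B Y] (g : X →ₗ[B] Y)
      (t : B' ⊗[B] X), AlgebraTensorModule.rTensor B B' g (TensorProduct.comm B B' X t) =
        TensorProduct.comm B B' Y (g.baseChange B' t) := by
    intro X Y _ _ _ _ g t
    induction t using TensorProduct.induction_on with
    | zero => simp
    | tmul c x => rfl
    | add a b ha hb => simp only [map_add, ha, hb]
  let φ : B' ⊗[B] F →ₗ[B'] LinearMap.ker (u.baseChange B') := (f.baseChange B').codRestrict _ fun t => by
    rw [LinearMap.mem_ker, ← LinearMap.comp_apply, ← LinearMap.baseChange_comp, hfu.linearMap_comp_eq_zero,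
      LinearMap.baseChange_zero, LinearMap.zero_apply]
  have hker : ∀ x, φ x = 0 → ∃ s : q'.primeCompl, (s : B') • x = 0 := by
    intro x hx
    obtain ⟨s, hs, hsx⟩ := FibFlat.killed_off_of_rTensor_eq_zero (A := B) J f u.rangeRestrict hf hex0
      u.surjective_rangeRestrict hZU B' (x := TensorProduct.comm B B' F x)
      (by rw [hcomm, show f.baseChange B' x = 0 from congrArg Subtype.val hx, map_zero]) q hq
    refine ⟨⟨algebraMap B B' s, hs⟩, (TensorProduct.comm B B' F).injective ?_⟩
    rw [algebraMap_smul, LinearEquiv.map_smul, hsx, map_zero]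
  have hcoker : ∀ y, ∃ (s : q'.primeCompl) (x : B' ⊗[B] F), φ x = (s : B') • y := by
    intro y
    have hy : ((LinearMap.range u).subtype).baseChange B' (u.rangeRestrict.baseChange B' y.1) = 0 := by
      rw [← LinearMap.comp_apply, ← LinearMap.baseChange_comp,
        show (LinearMap.range u).subtype ∘ₗ u.rangeRestrict = u from rfl]
      exact y.2
    obtain ⟨s, hs, hsx⟩ := FibFlat.killed_off_of_rTensor_eq_zero (A := B) J (LinearMap.range u).subtype v
      (LinearMap.range u).injective_subtype hex1 hv hGU' B'
      (x := TensorProduct.comm B B' _ (u.rangeRestrict.baseChange B' y.1))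
      (by rw [hcomm, hy, map_zero]) q hq
    have h0 : u.rangeRestrict.baseChange B' (algebraMap B B' s • y.1) = 0 := by
      refine (TensorProduct.comm B B' _).injective ?_
      rw [map_smul, algebraMap_smul, LinearEquiv.map_smul, hsx, map_zero]
    obtain ⟨x, hx⟩ := (lTensor_exact B' hex0 u.surjective_rangeRestrict _).mp h0
    exact ⟨⟨algebraMap B B' s, hs⟩, x, Subtype.ext hx⟩
  let φq := LocalizedModule.map q'.primeCompl φ
  have hbij : Function.Bijective φq := by
    refine ⟨fun z₁ z₂ => ?_, fun z => ?_⟩
    · induction z₁ using LocalizedModule.induction_on with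
      | h x₁ t₁ =>
        induction z₂ using LocalizedModule.induction_on with
        | h x₂ t₂ =>
          intro hz
          rw [LocalizedModule.map_mk, LocalizedModule.map_mk, LocalizedModule.mk_eq] at hz
          obtain ⟨w, hw⟩ := hz
          obtain ⟨s, hs⟩ := hker ((w : B') • (t₂ : B') • x₁ - (w : B') • (t₁ : B') • x₂) (by
            rw [map_sub, map_smul, map_smul, map_smul, map_smul]
            exact sub_eq_zero.2 hw)
          rw [LocalizedModule.mk_eq]
          refine ⟨s * w, ?_⟩
          rw [smul_sub, sub_eq_zero] at hs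
          simp only [Submonoid.smul_def, Submonoid.coe_mul, mul_smul]
          exact hs
    · induction z using LocalizedModule.induction_on with
      | h y t =>
        obtain ⟨s, x, hx⟩ := hcoker y
        refine ⟨LocalizedModule.mk x (s * t), ?_⟩
        rw [LocalizedModule.map_mk, hx, ← Submonoid.smul_def, LocalizedModule.mk_cancel_common_left]
  haveI := free_localized_baseChange F q' (hFU q hq)
  exact Module.Free.of_equiv (LinearEquiv.ofBijective φq hbij)

end Groth.L04.FibStalk
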