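import Groth.Agent.L04.Reflexive
import Mathlib.RingTheory.IsTensorProduct
import Mathlib.RingTheory.Localization.BaseChange

/-! Maps which are invertible off a closed subset, and their base change and duals. -/

set_option autoImplicit false
set_option linter.style.haveILetI false

universe u

open TensorProduct

namespace Groth.L04

variable {R : Type u} [CommRing R]

/-- `g` is invertible near every prime off `V(J)`, up to a scalar. -/
def InvOff (J : Ideal R) {M N : Type u} [AddCommGroup M] [Module R M] [AddCommGroup N] [Module R N]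
    (g : M →ₗ[R] N) : Prop :=
  ∀ p : PrimeSpectrum R, ¬ J ≤ p.asIdeal → ∃ s : R, s ∉ p.asIdeal ∧ ∃ h : N →ₗ[R] M,
    (∀ x, h (g x) = s • x) ∧ ∀ y, g (h y) = s • y

theorem exists_uniform {M : Type u} [AddCommGroup M] [Module R M] (p : Ideal R) [p.IsPrime]
    (K L : Submodule R M) (hK : K.FG) (h : ∀ x ∈ K, ∃ s : R, s ∉ p ∧ s • x ∈ L) :
    ∃ s : R, s ∉ p ∧ ∀ x ∈ K, s • x ∈ L := by
  classical
  obtain ⟨S, rfl⟩ := hK
  choose c hc hcx using fun x : S => h x.1 (Submodule.subset_span x.2)
  refine ⟨∏ x : S, c x, fun hmem => ?_, fun x hx => ?_⟩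
  · obtain ⟨x, -, hx⟩ := (Ideal.IsPrime.prod_mem_iff (p := p)).1 hmem
    exact hc x hx
  · have : Submodule.span R (S : Set M) ≤ L.comap (LinearMap.lsmul R M (∏ x : S, c x)) :=
      Submodule.span_le.2 fun y hy => by
        obtain ⟨d, hd⟩ : c ⟨y, hy⟩ ∣ ∏ x : S, c x := Finset.dvd_prod_of_mem c (Finset.mem_univ _)
        show (∏ x : S, c x) • y ∈ L
        rw [hd, mul_comm, mul_smul]
        exact L.smul_mem d (hcx ⟨y, hy⟩)
    exact this hx

theorem invOff_eval [IsNoetherianRing R] (J : Ideal R) (F : Type u) [AddCommGroup F] [Module R F] [Module.Finite R F]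
    (hU : ∀ p : PrimeSpectrum R, ¬ J ≤ p.asIdeal →
      Module.IsReflexive (Localization.AtPrime p.asIdeal) (LocalizedModule p.asIdeal.primeCompl F)) :
    InvOff J (Module.Dual.eval R F) := by
  intro p hp
  haveI := hU p hp
  let ev := Module.Dual.eval R F
  obtain ⟨s₁, hs₁, hker⟩ := exists_uniform p.asIdeal (LinearMap.ker ev) ⊥ (IsNoetherian.noetherian _)
    fun x hx => by
      obtain ⟨s, hs, hsx⟩ := exists_smul_eq_zero_of_eval F p.asIdeal (LinearMap.mem_ker.1 hx)
      exact ⟨s, hs, (Submodule.mem_bot R).2 hsx⟩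
  obtain ⟨s₂, hs₂, himg⟩ := exists_uniform p.asIdeal (⊤ : Submodule R (Module.Dual R (Module.Dual R F)))
    (LinearMap.range ev) Module.Finite.fg_top fun φ _ => by
      obtain ⟨s, hs, x, hx⟩ := exists_smul_eval F p.asIdeal φ
      exact ⟨s, hs, x, hx⟩
  let toR : Module.Dual R (Module.Dual R F) →ₗ[R] LinearMap.range ev :=
    (LinearMap.lsmul R (Module.Dual R (Module.Dual R F)) s₂).codRestrict _ fun φ => himg φ trivial
  let back : LinearMap.range ev →ₗ[R] F :=
    ((LinearMap.ker ev).liftQ (LinearMap.lsmul R F s₁) fun x hx => (Submodule.mem_bot R).1 (hker x hx)) ∘ₗ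
      ev.quotKerEquivRange.symm.toLinearMap
  have hback : ∀ (x : F) (hx : ev x ∈ LinearMap.range ev), back ⟨ev x, hx⟩ = s₁ • x := by
    intro x hx
    simp only [back, LinearMap.comp_apply, LinearEquiv.coe_coe]
    rw [LinearMap.quotKerEquivRange_symm_apply_image]
    rfl
  refine ⟨s₁ * s₂, p.isPrime.mul_notMem hs₁ hs₂, back ∘ₗ toR, fun x => ?_, fun φ => ?_⟩
  · have h1 : toR (ev x) = ⟨ev (s₂ • x), LinearMap.mem_range_self ev _⟩ := Subtype.ext (map_smul ev s₂ x).symm
    show back (toR (ev x)) = _
    rw [h1, hback, mul_smul]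
  · obtain ⟨x, hx⟩ := himg φ trivial
    have h1 : toR φ = ⟨ev x, LinearMap.mem_range_self ev _⟩ := Subtype.ext hx.symm
    show ev (back (toR φ)) = _
    rw [h1, hback, map_smul, hx, mul_smul]

theorem InvOff.baseChange {J : Ideal R} {M N : Type u} [AddCommGroup M] [Module R M] [AddCommGroup N] [Module R N]
    {g : M →ₗ[R] N} (hg : InvOff J g) (S : Type u) [CommRing S] [Algebra R S] :
    InvOff (J.map (algebraMap R S)) (g.baseChange S) := by
  intro P hP
  obtain ⟨s, hs, h, h1, h2⟩ := hg ⟨P.asIdeal.comap (algebraMap R S), inferInstance⟩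
    fun hle => hP (Ideal.map_le_iff_le_comap.2 hle)
  refine ⟨algebraMap R S s, hs, h.baseChange S, fun x => ?_, fun y => ?_⟩
  · induction x using TensorProduct.induction_on with
    | zero => simp
    | tmul c x => rw [LinearMap.baseChange_tmul, LinearMap.baseChange_tmul, h1, algebraMap_smul, tmul_smul]
    | add a b ha hb => rw [map_add, map_add, ha, hb, smul_add]
  · induction y using TensorProduct.induction_on with
    | zero => simp
    | tmul c y => rw [LinearMap.baseChange_tmul, LinearMap.baseChange_tmul, h2, algebraMap_smul, tmul_smul]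
    | add a b ha hb => rw [map_add, map_add, ha, hb, smul_add]

theorem InvOff.bijective_dualMap [IsNoetherianRing R] {J : Ideal R} {M N : Type u} [AddCommGroup M] [Module R M]
    [AddCommGroup N] [Module R N] [Module.Finite R M] [Module.Finite R N] {g : M →ₗ[R] N} (hg : InvOff J g)
    (hR : 2 ≤ LocCoh.idealDepth J R) : Function.Bijective g.dualMap := by
  have hM : 1 ≤ LocCoh.idealDepth J (Module.Dual R M) := (idealDepth_dual J M).1 (one_le_two.trans hR)
  have hN : 1 ≤ LocCoh.idealDepth J (Module.Dual R N) := (idealDepth_dual J N).1 (one_le_two.trans hR)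
  have hinj : Function.Injective g.dualMap := (injective_iff_map_eq_zero _).2 fun ψ hψ =>
    eq_zero_of_off J hN fun p hp => by
      obtain ⟨s, hs, h, h1, h2⟩ := hg p hp
      refine ⟨s, hs, LinearMap.ext fun y => ?_⟩
      rw [LinearMap.smul_apply, LinearMap.zero_apply, ← map_smul, ← h2]
      exact LinearMap.congr_fun hψ (h y)
  have hQ : 1 ≤ LocCoh.idealDepth J (Module.Dual R M ⧸ LinearMap.range g.dualMap) := by
    simpa using le_idealDepth_right (I := J) (n := 1) hinj (Submodule.mkQ_surjective _)
      (LinearMap.exact_map_mkQ_range g.dualMap) (by simpa using (idealDepth_dual J N).2 hR) (by simpa using hM)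
  refine ⟨hinj, fun χ => LinearMap.mem_range.1 ((Submodule.Quotient.mk_eq_zero _).1
    (eq_zero_of_off J hQ (x := Submodule.Quotient.mk χ) fun p hp => ?_))⟩
  obtain ⟨s, hs, h, h1, -⟩ := hg p hp
  refine ⟨s, hs, ?_⟩
  rw [← Submodule.Quotient.mk_smul, Submodule.Quotient.mk_eq_zero]
  exact ⟨χ ∘ₗ h, LinearMap.ext fun x => by
    rw [LinearMap.dualMap_apply, LinearMap.comp_apply, h1, map_smul, LinearMap.smul_apply]⟩

theorem free_localized_baseChange {S : Type u} [CommRing S] [Algebra R S] (F : Type u) [AddCommGroup F]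
    [Module R F] (P : Ideal S) [P.IsPrime]
    (h : Module.Free (Localization.AtPrime (P.comap (algebraMap R S)))
      (LocalizedModule (P.comap (algebraMap R S)).primeCompl F)) :
    Module.Free (Localization.AtPrime P) (LocalizedModule P.primeCompl (S ⊗[R] F)) := by
  haveI := h
  let p := P.comap (algebraMap R S)
  let Rp := Localization.AtPrime p
  let T := Localization.AtPrime P
  letI : Algebra Rp T := (Localization.localRingHom p P (algebraMap R S) rfl).toAlgebra
  haveI : IsScalarTower R Rp T := IsScalarTower.of_algebraMap_eq fun a =>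
    (IsScalarTower.algebraMap_apply R S T a).trans
      (Localization.localRingHom_to_map p P (algebraMap R S) rfl a).symm
  have hf := (TensorProduct.isBaseChange R F S).comp
    (IsLocalizedModule.isBaseChange P.primeCompl T (LocalizedModule.mkLinearMap P.primeCompl (S ⊗[R] F)))
  have hp := IsLocalizedModule.isBaseChange p.primeCompl Rp (LocalizedModule.mkLinearMap p.primeCompl F)
  let e : T ⊗[Rp] (LocalizedModule p.primeCompl F) ≃ₗ[T] LocalizedModule P.primeCompl (S ⊗[R] F) :=
    AlgebraTensorModule.congr (LinearEquiv.refl T T) hp.equiv.symm ≪≫ₗ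
      AlgebraTensorModule.cancelBaseChange R Rp T T F ≪≫ₗ hf.equiv
  exact Module.Free.of_equiv e

end Groth.L04
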