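import Groth.Agent.L04.FibStalkBC
import Groth.Agent.L04.FibStalkDepth
import Groth.Agent.L04.PseudoInv

/-! Reflexivity and depth after base change. -/

set_option autoImplicit false
set_option linter.style.haveILetI false

universe u

open TensorProduct

namespace Groth.L04.FibStalk

variable {A B : Type u} [CommRing A] [CommRing B] [Algebra A B]
  {A' B' : Type u} [CommRing A'] [CommRing B'] [Algebra A A'] [Algebra B B'] [Algebra A' B'] [Algebra A B']
  [IsScalarTower A B B'] [IsScalarTower A A' B'] [Algebra.IsPushout A B A' B']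

theorem flat_baseChange (M : Type u) [AddCommGroup M] [Module B M] [Module A M] [IsScalarTower A B M]
    [Module.Flat A M] : Module.Flat A' (B' ⊗[B] M) := by
  haveI : Algebra.IsPushout A A' B B' := Algebra.IsPushout.symm inferInstance
  exact Module.Flat.of_linearEquiv (Algebra.IsPushout.cancelBaseChange A A' B B' M)

variable [IsNoetherianRing B] [IsNoetherianRing A'] [IsNoetherianRing B'] (J : Ideal B)

include A' in
theorem le_idealDepth_baseChange_of_fibre (M : Type u) [AddCommGroup M] [Module B M] [Module A M]
    [IsScalarTower A B M] [Module.Finite B M] [Module.Flat A M] {k : ℕ∞}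
    (h : ∀ q : PrimeSpectrum B, J ≤ q.asIdeal →
      k ≤ LocCoh.idealDepth (q.asIdeal.map (algebraMap B (EGA4.FibLocRing A B q.asIdeal))) (EGA4.FibLocMod A B q.asIdeal M)) :
    k ≤ LocCoh.idealDepth (J.map (algebraMap B B')) (B' ⊗[B] M) := by
  haveI := flat_baseChange (A := A) (B := B) (A' := A') (B' := B') M
  exact le_idealDepth_of_fibre (A := A') _ _ fun q' hq' =>
    le_idealDepth_fibLocMod_baseChange (A := A) (A' := A') M q'.asIdeal
      (h ⟨q'.asIdeal.comap (algebraMap B B'), inferInstance⟩ (Ideal.map_le_iff_le_comap.1 hq'))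

include A' in
theorem le_idealDepth_baseChange_self [Module.Flat A B] {k : ℕ∞}
    (h : ∀ q : PrimeSpectrum B, J ≤ q.asIdeal →
      k ≤ LocCoh.idealDepth (q.asIdeal.map (algebraMap B (EGA4.FibLocRing A B q.asIdeal))) (EGA4.FibLocRing A B q.asIdeal)) :
    k ≤ LocCoh.idealDepth (J.map (algebraMap B B')) B' := by
  rw [← idealDepth_congr (AlgebraTensorModule.rid B B' B')]
  exact le_idealDepth_baseChange_of_fibre (A := A) (A' := A') J B fun q hq => by
    rw [idealDepth_fibLocMod_self]; exact h q hq

end Groth.L04.FibStalk
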