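import Groth.Agent.L14.Popescu.Main
import Groth.Agent.L06.CplGeomBase
import Mathlib.RingTheory.Flat.EquationalCriterion
import Mathlib.LinearAlgebra.ExteriorPower.Basis
import Mathlib.RingTheory.Kaehler.Basic
import Mathlib.RingTheory.Smooth.Basic
import Mathlib.FieldTheory.Perfect

/-!
# Differentials of regular local rings of positive characteristic are flat; exterior powers of flat modules
-/

set_option autoImplicit false
set_option linter.style.haveILetI false

universe u

open TensorProduct

noncomputable section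

namespace Groth.L04.FlatKaehler

variable {A : Type u} [CommRing A]

/-- Flatness from local lifts of relations to flat modules. -/
theorem flat_of_lift {M : Type u} [AddCommGroup M] [Module A M]
    (h : ∀ {l : ℕ} (f : Fin l →₀ A) (x : (Fin l →₀ A) →ₗ[A] M), x f = 0 →
      ∃ (N : Type u) (_ : AddCommGroup N) (_ : Module A N) (_ : Module.Flat A N)
        (g : N →ₗ[A] M) (x' : (Fin l →₀ A) →ₗ[A] N), g.comp x' = x ∧ x' f = 0) :
    Module.Flat A M := by
  refine Module.Flat.of_forall_exists_factorization fun {l f x} hx => ?_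
  obtain ⟨N, _, _, _, g, x', hgx, hf⟩ := h f x hx
  obtain ⟨k, a, y, hy, ha⟩ := Module.Flat.exists_factorization_of_apply_eq_zero_of_free hf
  exact ⟨k, a, g.comp y, by rw [LinearMap.comp_assoc, ← hy, hgx], ha⟩

section Ext

variable {M G : Type u} [AddCommGroup M] [Module A M] [AddCommGroup G] [Module A G]

/-- Exterior powers of flat modules are flat. -/
theorem flat_exteriorPower [Module.Flat A M] (n : ℕ) : Module.Flat A ↥(⋀[A]^n M) := by
  classical
  refine flat_of_lift fun {l} f x hx => ?_
  have hsurj : Function.Surjective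
      (Finsupp.linearCombination A (exteriorPower.ιMulti A n (M := M))) := by
    rw [← LinearMap.range_eq_top, Finsupp.range_linearCombination, exteriorPower.ιMulti_span]
  choose X hX using fun i : Fin l => hsurj (x (Finsupp.single i 1))
  let w : (Fin n → M) →₀ A := Finsupp.linearCombination A X f
  have hxT : ∀ c : Fin l →₀ A, Finsupp.linearCombination A (exteriorPower.ιMulti A n (M := M))
      (Finsupp.linearCombination A X c) = x c := by
    intro c
    have : (Finsupp.linearCombination A (exteriorPower.ιMulti A n (M := M))).comp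
        (Finsupp.linearCombination A X) = x := Finsupp.lhom_ext' fun i => LinearMap.ext_ring (by simp [hX])
    exact LinearMap.congr_fun this c
  let rl : exteriorPower.presentation.Rels A (Fin n) M → ((Fin n → M) →₀ A) := fun r =>
    (exteriorPower.presentation.relations A (Fin n) M).relation r
  have hw : w ∈ Submodule.span A (Set.range rl) := by
    have h1 : (exteriorPower.presentation.relationsSolutionEquiv.symm (exteriorPower.ιMulti A n (M := M))).π w = 0 :=
      (hxT f).trans hx
    exact (exteriorPower.presentation.isPresentationCore A n M).isPresentation.ker_π.le (LinearMap.mem_ker.2 h1)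
  obtain ⟨T, hT, hwT⟩ := Submodule.mem_span_finite_of_mem_span hw
  obtain ⟨R₀, -, rfl⟩ := Finset.subset_set_image_iff.1 (Set.image_univ.symm ▸ hT : ↑T ⊆ rl '' Set.univ)
  -- the elements and the linear relations used
  let coords : Finset M :=
    (Finset.univ : Finset (Fin l)).biUnion (fun i => (X i).support.biUnion fun m => Finset.univ.image m)
  let elts : exteriorPower.presentation.Rels A (Fin n) M → Finset M := fun r => match r with
    | .add m _ x y => Finset.univ.image m ∪ {x, y, x + y}
    | .smul m _ r x => Finset.univ.image m ∪ {x, r • x}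
    | .alt m _ _ _ _ => Finset.univ.image m
  let s : Finset M := coords ∪ R₀.biUnion elts
  let e : M → ((s : Set M) →₀ A) := fun m => if h : m ∈ s then Finsupp.single ⟨m, h⟩ 1 else 0
  let rel : exteriorPower.presentation.Rels A (Fin n) M → ((s : Set M) →₀ A) := fun r => match r with
    | .add _ _ x y => e (x + y) - e x - e y
    | .smul _ _ r x => e (r • x) - r • e x
    | .alt _ _ _ _ _ => 0
  let φ : ((s : Set M) →₀ A) →ₗ[A] M := Finsupp.linearCombination A (fun m : (s : Set M) => (m : M))
  have he : ∀ m ∈ s, φ (e m) = m := fun m hm => by simp [φ, e, dif_pos hm]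
  have hrel : ∀ r ∈ R₀, φ (rel r) = 0 := by
    intro r hr
    have hsub : elts r ⊆ s := fun m hm => Finset.mem_union_right _ (Finset.mem_biUnion.2 ⟨r, hr, hm⟩)
    cases r with
    | add m i x y =>
      show φ (e (x + y) - e x - e y) = 0
      rw [map_sub, map_sub, he _ (hsub (by simp [elts])), he _ (hsub (by simp [elts])),
        he _ (hsub (by simp [elts]))]
      abel
    | smul m i r x =>
      show φ (e (r • x) - r • e x) = 0
      rw [map_sub, map_smul, he _ (hsub (by simp [elts])), he _ (hsub (by simp [elts])), sub_self]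
    | alt m i j h h' => exact map_zero φ
  let K : ({r // r ∈ R₀} →₀ A) →ₗ[A] ((s : Set M) →₀ A) :=
    Finsupp.linearCombination A (fun r => rel r.1)
  have hK : φ ∘ₗ K = 0 := Finsupp.lhom_ext' fun r => LinearMap.ext_ring (by simp [K, hrel r.1 r.2])
  obtain ⟨k, a, y, hya, haK⟩ := Module.Flat.exists_factorization_of_comp_eq_zero_of_free hK
  let L : M → ULift.{u} (Fin k) →₀ A := fun m => (Finsupp.domLCongr Equiv.ulift.symm : (Fin k →₀ A) ≃ₗ[A] (ULift.{u} (Fin k) →₀ A)) (a (e m))
  let Y : (ULift.{u} (Fin k) →₀ A) →ₗ[A] M := y.comp (Finsupp.domLCongr Equiv.ulift : (ULift.{u} (Fin k) →₀ A) ≃ₗ[A] (Fin k →₀ A)).toLinearMap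
  have hYL : ∀ m ∈ s, Y (L m) = m := by
    intro m hm
    have h1 : Y (L m) = y (a (e m)) := by
      simp only [Y, L, LinearMap.comp_apply, LinearEquiv.coe_coe]
      congr 1
      ext i
      simp
    rw [h1, ← LinearMap.comp_apply, ← hya, he m hm]
  have harel : ∀ r ∈ R₀, a (rel r) = 0 := fun r hr => by
    have := LinearMap.congr_fun haK (Finsupp.single ⟨r, hr⟩ 1)
    simpa [K] using this
  let Ψ : ((Fin n → M) →₀ A) →ₗ[A] ↥(⋀[A]^n (ULift.{u} (Fin k) →₀ A)) :=
    Finsupp.linearCombination A fun m => exteriorPower.ιMulti A n (L ∘ m)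
  refine ⟨↥(⋀[A]^n (ULift.{u} (Fin k) →₀ A)), inferInstance, inferInstance, ?_,
    exteriorPower.map n Y, Ψ.comp (Finsupp.linearCombination A X), ?_, ?_⟩
  · letI : LinearOrder (ULift.{u} (Fin k)) := LinearOrder.lift' ULift.down ULift.down_injective
    haveI : Module.Free A ↥(⋀[A]^n (ULift.{u} (Fin k) →₀ A)) :=
      Module.Free.of_basis ((Finsupp.basisSingleOne (R := A) (ι := ULift.{u} (Fin k))).exteriorPower n)
    exact Module.Flat.of_free
  · refine Finsupp.lhom_ext' fun i => LinearMap.ext_ring ?_
    simp only [LinearMap.comp_apply, Finsupp.lsingle_apply, Finsupp.linearCombination_single, one_smul]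
    rw [← hX i, Finsupp.linearCombination_apply, Finsupp.linearCombination_apply,
      map_finsuppSum]
    refine Finsupp.sum_congr fun m hm => ?_
    rw [map_smul, exteriorPower.map_apply_ιMulti]
    congr 2
    funext j
    refine hYL _ (Finset.mem_union_left _ (Finset.mem_biUnion.2 ⟨i, Finset.mem_univ _, ?_⟩))
    exact Finset.mem_biUnion.2 ⟨m, hm, Finset.mem_image.2 ⟨j, Finset.mem_univ _, rfl⟩⟩
  · show Ψ w = 0
    refine (Submodule.span_le.2 ?_ : Submodule.span A _ ≤ LinearMap.ker Ψ) hwT
    rintro _ hr'
    obtain ⟨r, hr, rfl⟩ := Finset.mem_image.1 hr'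
    have hLrel := harel r hr
    rw [SetLike.mem_coe, LinearMap.mem_ker]
    cases r with
    | add m i x y =>
      have h1 : L (x + y) = L x + L y := by
        simp only [rel, map_sub] at hLrel
        rw [sub_sub, sub_eq_zero] at hLrel
        simp only [L, hLrel, map_add]
      simp [Ψ, rl, Function.comp_update, h1]
    | smul m i r x =>
      have h1 : L (r • x) = r • L x := by
        simp only [rel, map_sub, map_smul, sub_eq_zero] at hLrel
        simp only [L, hLrel, map_smul]
      simp [Ψ, rl, Function.comp_update, h1]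
    | alt m i j h h' =>
      simp only [Ψ, rl, exteriorPower.presentation.relations_relation, Finsupp.linearCombination_single, one_smul]
      exact (exteriorPower.ιMulti A n).map_eq_zero_of_eq (L ∘ m) (by simp [h]) h'

end Ext

section Kaehler

/-- Differentials of a geometrically regular algebra over a field are flat. -/
theorem flat_kaehler (k : Type u) [Field k] [Algebra k A] [IsNoetherianRing A]
    (h : CAlg.IsGeometricallyRegular k A) : Module.Flat A (KaehlerDifferential k A) := by
  classical
  refine flat_of_lift fun {l} f x hx => ?_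
  choose X hX using fun i : Fin l => KaehlerDifferential.linearCombination_surjective k A (x (Finsupp.single i 1))
  let w : A →₀ A := Finsupp.linearCombination A X f
  have hxT : ∀ c : Fin l →₀ A, Finsupp.linearCombination A (KaehlerDifferential.D k A)
      (Finsupp.linearCombination A X c) = x c := by
    intro c
    have : (Finsupp.linearCombination A (KaehlerDifferential.D k A)).comp
        (Finsupp.linearCombination A X) = x := Finsupp.lhom_ext' fun i => LinearMap.ext_ring (by simp [hX])
    exact LinearMap.congr_fun this c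
  have hw : w ∈ KaehlerDifferential.kerTotal k A := by
    rw [← KaehlerDifferential.kerTotal_eq, LinearMap.mem_ker]
    exact (hxT f).trans hx
  obtain ⟨T, hT, hwT⟩ := Submodule.mem_span_finite_of_mem_span hw
  have hshape : ∀ t : T, ∃ a b : A,
      (t : A →₀ A) = Finsupp.single a 1 + Finsupp.single b 1 - Finsupp.single (a + b) 1 ∨
      (t : A →₀ A) = Finsupp.single b a + Finsupp.single a b - Finsupp.single (a * b) 1 ∨
      ∃ r : k, (t : A →₀ A) = Finsupp.single (algebraMap k A r) 1 := by
    intro t
    rcases hT t.2 with (⟨⟨a, b⟩, hab⟩ | ⟨⟨a, b⟩, hab⟩) | ⟨r, hr⟩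
    · exact ⟨a, b, Or.inl hab.symm⟩
    · exact ⟨a, b, Or.inr (Or.inl hab.symm)⟩
    · exact ⟨0, 0, Or.inr (Or.inr ⟨r, hr.symm⟩)⟩
  choose ta tb htab using hshape
  let s : Finset A := (Finset.univ : Finset (Fin l)).biUnion (fun i => (X i).support) ∪
    T.attach.biUnion (fun t => {ta t, tb t})
  let B : Subalgebra k A := Algebra.adjoin k (s : Set A)
  haveI : Algebra.FiniteType k B := ⟨(Subalgebra.fg_top _).2 (Subalgebra.fg_adjoin_finset s)⟩
  obtain ⟨C, _, _, hC, g, hCA, hgh⟩ := Groth.L14.Popescu.indSmooth_geometricallyRegular k A h B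
    (Algebra.FinitePresentation.of_finiteType.1 inferInstance) B.val
  letI : Algebra C A := hCA.toRingHom.toAlgebra
  haveI : IsScalarTower k C A := IsScalarTower.of_algebraMap_eq fun r => (hCA.commutes r).symm
  haveI : Module.Projective C (KaehlerDifferential k C) := inferInstance
  let E : A → A ⊗[C] KaehlerDifferential k C := fun b =>
    if hb : b ∈ B then (1 : A) ⊗ₜ[C] KaehlerDifferential.D k C (g ⟨b, hb⟩) else 0
  let Ψ : (A →₀ A) →ₗ[A] A ⊗[C] KaehlerDifferential k C := Finsupp.linearCombination A E
  have hEh : ∀ b ∈ B, KaehlerDifferential.mapBaseChange k C A (E b) = KaehlerDifferential.D k A b := by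
    intro b hb
    simp only [E, dif_pos hb, KaehlerDifferential.mapBaseChange_tmul, one_smul, KaehlerDifferential.map_D]
    exact congrArg (KaehlerDifferential.D k A) (AlgHom.congr_fun hgh ⟨b, hb⟩)
  refine ⟨A ⊗[C] KaehlerDifferential k C, inferInstance, inferInstance, inferInstance,
    KaehlerDifferential.mapBaseChange k C A, Ψ.comp (Finsupp.linearCombination A X), ?_, ?_⟩
  · refine Finsupp.lhom_ext' fun i => LinearMap.ext_ring ?_
    simp only [LinearMap.comp_apply, Finsupp.lsingle_apply, Finsupp.linearCombination_single, one_smul]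
    rw [← hX i, Finsupp.linearCombination_apply, Finsupp.linearCombination_apply, map_finsuppSum]
    refine Finsupp.sum_congr fun b hb => ?_
    rw [map_smul, hEh b (Algebra.subset_adjoin (Finset.mem_union_left _
      (Finset.mem_biUnion.2 ⟨i, Finset.mem_univ _, hb⟩)))]
  · show Ψ w = 0
    refine (Submodule.span_le.2 ?_ : Submodule.span A _ ≤ LinearMap.ker Ψ) hwT
    intro t ht
    have ha : ta ⟨t, ht⟩ ∈ B := Algebra.subset_adjoin (Finset.mem_union_right _
      (Finset.mem_biUnion.2 ⟨⟨t, ht⟩, Finset.mem_attach _ _, by simp⟩))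
    have hb : tb ⟨t, ht⟩ ∈ B := Algebra.subset_adjoin (Finset.mem_union_right _
      (Finset.mem_biUnion.2 ⟨⟨t, ht⟩, Finset.mem_attach _ _, by simp⟩))
    have hgA : ∀ (b : A) (hb : b ∈ B) (m : KaehlerDifferential k C),
        b • ((1 : A) ⊗ₜ[C] m) = (1 : A) ⊗ₜ[C] (g ⟨b, hb⟩ • m) := by
      intro b hb m
      rw [TensorProduct.smul_tmul', smul_eq_mul, mul_one, ← TensorProduct.smul_tmul,
        Algebra.smul_def, mul_one]
      exact congrArg (· ⊗ₜ[C] m) (AlgHom.congr_fun hgh ⟨b, hb⟩).symm
    rw [SetLike.mem_coe, LinearMap.mem_ker]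
    generalize ta ⟨t, ht⟩ = a, tb ⟨t, ht⟩ = b, htab ⟨t, ht⟩ = htab at ha hb
    rcases htab with h | h | ⟨r, h⟩
    all_goals rw [show t = _ from h]
    · simp only [Ψ, map_sub, map_add, Finsupp.linearCombination_single, one_smul, E, dif_pos ha, dif_pos hb,
        dif_pos (add_mem ha hb)]
      rw [← TensorProduct.tmul_add, sub_eq_zero, ← map_add, ← map_add g]
      rfl
    · simp only [Ψ, map_sub, map_add, Finsupp.linearCombination_single, one_smul, E, dif_pos ha, dif_pos hb,
        dif_pos (mul_mem ha hb)]
      rw [hgA a ha, hgA b hb, ← TensorProduct.tmul_add, sub_eq_zero, ← Derivation.leibniz, ← map_mul]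
      rfl
    · simp only [Ψ, Finsupp.linearCombination_single, one_smul, E, dif_pos (B.algebraMap_mem r)]
      rw [show (⟨algebraMap k A r, B.algebraMap_mem r⟩ : B) = algebraMap k B r from rfl, AlgHom.commutes,
        Derivation.map_algebraMap, TensorProduct.tmul_zero]

end Kaehler

end Groth.L04.FlatKaehler
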