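import Groth.Agent.L04.Depth2
import Mathlib.RingTheory.Ideal.KrullsHeightTheorem
import Mathlib.RingTheory.Ideal.GoingDown

/-! Height and depth along a flat map whose image contains `V(I)`. -/

set_option autoImplicit false
set_option linter.style.haveILetI false

universe u

open TensorProduct RingTheory.Sequence

namespace Groth.L04

variable {A B : Type u} [CommRing A] [CommRing B] [IsNoetherianRing A] [IsNoetherianRing B] [Algebra A B]
  [Module.Flat A B] (I : Ideal A)
  (hI : ∀ p : PrimeSpectrum A, I ≤ p.asIdeal → ∃ q : PrimeSpectrum B, q.asIdeal.comap (algebraMap A B) = p.asIdeal)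

include hI

theorem height_map_eq : (I.map (algebraMap A B)).height = I.height := by
  refine le_antisymm ?_ ?_
  · conv_rhs => rw [Ideal.height_eq_inf_minimalPrimes]
    refine le_iInf₂ fun p hp => ?_
    haveI := hp.1.1
    obtain ⟨q0, hq0⟩ := hI ⟨p, hp.1.1⟩ hp.1.2
    obtain ⟨q, hq, hqle⟩ := Ideal.exists_minimalPrimes_le (I := p.map (algebraMap A B)) (J := q0.asIdeal)
      (Ideal.map_le_iff_le_comap.2 hq0.ge)
    haveI := hq.1.1
    haveI : q.LiesOver p := ⟨le_antisymm (Ideal.map_le_iff_le_comap.1 hq.1.2)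
      ((Ideal.comap_mono hqle).trans hq0.le)⟩
    rw [← add_zero p.height]
    refine (Ideal.height_mono ((Ideal.map_mono hp.1.2).trans hq.1.2)).trans (le_of_eq ?_)
    rw [Ideal.height_eq_height_add_of_liesOver_of_hasGoingDown p q]
    congr 1
    have hmem : q.map (Ideal.Quotient.mk (p.map (algebraMap A B))) ∈ minimalPrimes (B ⧸ p.map (algebraMap A B)) := by
      rw [minimalPrimes_eq_minimals]
      haveI : (q.map (Ideal.Quotient.mk (p.map (algebraMap A B)))).IsPrime :=
        Ideal.map_isPrime_of_surjective Ideal.Quotient.mk_surjective (by rw [Ideal.mk_ker]; exact hq.1.2)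
      refine ⟨inferInstance, fun r hr hle => ?_⟩
      haveI : r.IsPrime := hr
      rw [← Ideal.map_comap_of_surjective _ Ideal.Quotient.mk_surjective r]
      refine Ideal.map_mono (hq.2 ⟨inferInstance, ?_⟩ ?_)
      · exact le_trans (Ideal.mk_ker (I := p.map (algebraMap A B))).ge (Ideal.ker_le_comap _)
      · intro x hx
        have : Ideal.Quotient.mk (p.map (algebraMap A B)) x ∈ q.map (Ideal.Quotient.mk _) := hle hx
        rw [← Ideal.mem_comap, Ideal.comap_map_of_surjective _ Ideal.Quotient.mk_surjective,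
          ← RingHom.ker_eq_comap_bot, Ideal.mk_ker, sup_eq_left.2 hq.1.2] at this
        exact this
    haveI := hmem.isPrime
    exact Ideal.height_eq_zero_iff.2 hmem
  · conv_rhs => rw [Ideal.height_eq_inf_minimalPrimes]
    refine le_iInf₂ fun q hq => ?_
    haveI := hq.1.1
    haveI : q.LiesOver (q.comap (algebraMap A B)) := ⟨rfl⟩
    rw [Ideal.height_eq_height_add_of_liesOver_of_hasGoingDown (q.comap (algebraMap A B)) q]
    exact (Ideal.height_mono (Ideal.map_le_iff_le_comap.1 hq.1.2)).trans le_self_add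

theorem idealDepth_tensor_eq (G : Type u) [AddCommGroup G] [Module A G] [Module.Finite A G] :
    LocCoh.idealDepth (I.map (algebraMap A B)) (B ⊗[A] G) = LocCoh.idealDepth I G := by
  let f : G →ₗ[A] B ⊗[A] G := TensorProduct.mk A B G 1
  rcases eq_or_ne (I • (⊤ : Submodule A G)) ⊤ with h | h
  · rw [idealDepth_eq_top h]
    refine idealDepth_eq_top ?_
    rw [eq_top_iff]
    rintro t -
    induction t using TensorProduct.induction_on with
    | zero => exact zero_mem _
    | tmul b m =>
      rw [show b ⊗ₜ[A] m = b • f m by simp [f, TensorProduct.smul_tmul']]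
      exact Submodule.smul_mem _ b (map_mem_smul_top f (h.ge trivial))
    | add x y hx hy => exact add_mem hx hy
  obtain ⟨rs, -, hrs, hrsI, z, hz0, hz⟩ := exists_maximal_regular h (IsWeaklyRegular.nil A G) (by simp)
  rw [idealDepth_eq_length hrs hrsI hz0 hz]
  obtain ⟨m, rfl⟩ := Submodule.mkQ_surjective _ z
  refine idealDepth_map_eq_length f
    (hrs.of_flat_of_isBaseChange (TensorProduct.isBaseChange A G B)) hrsI (m := m)
    (fun b hb => ?_) fun hmem => ?_
  · have := hz b hb
    rwa [← map_smul, Submodule.mkQ_apply, Submodule.Quotient.mk_eq_zero] at this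
  let π := (Ideal.ofList rs • (⊤ : Submodule A G)).mkQ.baseChange B
  have hker : Ideal.ofList (rs.map (algebraMap A B)) • (⊤ : Submodule B (B ⊗[A] G)) ≤ LinearMap.ker π := by
    rw [Submodule.smul_le, ← Ideal.map_ofList]
    intro c hc x _
    rw [LinearMap.mem_ker, map_smul]
    have hle : (Ideal.ofList rs).map (algebraMap A B) ≤
        LinearMap.ker (LinearMap.toSpanSingleton B _ (π x)) := by
      rw [Ideal.map_le_iff_le_comap]
      intro b hb
      show algebraMap A B b • π x = 0
      rw [algebraMap_smul]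
      induction π x using TensorProduct.induction_on with
      | zero => exact smul_zero _
      | tmul c y =>
        obtain ⟨y, rfl⟩ := Submodule.mkQ_surjective _ y
        rw [← TensorProduct.tmul_smul, ← map_smul, Submodule.mkQ_apply,
          (Submodule.Quotient.mk_eq_zero _).2 (Submodule.smul_mem_smul hb Submodule.mem_top),
          TensorProduct.tmul_zero]
      | add p q hp hq => rw [smul_add, hp, hq, add_zero]
    simpa using hle hc
  have h0 : (1 : B) ⊗ₜ[A] (Ideal.ofList rs • (⊤ : Submodule A G)).mkQ m = 0 := LinearMap.mem_ker.1 (hker hmem)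
  let j := LinearMap.toSpanSingleton A _ ((Ideal.ofList rs • (⊤ : Submodule A G)).mkQ m)
  let K : Ideal A := LinearMap.ker j
  have hIK : I ≤ K := fun a ha => by
    show j a = 0
    simpa [j] using hz a ha
  have hK : K ≠ ⊤ := fun hK => hz0 (by simpa [j, K] using (hK.ge (Submodule.mem_top (x := (1 : A))) : (1 : A) ∈ K))
  obtain ⟨p, hp, hKp⟩ := Ideal.exists_le_maximal K hK
  obtain ⟨q, hq⟩ := hI ⟨p, hp.isPrime⟩ (hIK.trans hKp)
  have hjinj : Function.Injective ((K.liftQ j le_rfl).lTensor B) :=
    Module.Flat.lTensor_preserves_injective_linearMap _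
      (LinearMap.ker_eq_bot.1 (Submodule.ker_liftQ_eq_bot _ _ _ le_rfl))
  have h1 : (1 : B) ⊗ₜ[A] (Submodule.Quotient.mk (1 : A) : A ⧸ K) = 0 := hjinj (by
    rw [LinearMap.lTensor_tmul, map_zero, Submodule.liftQ_apply]
    show (1 : B) ⊗ₜ[A] ((1 : A) • (Ideal.ofList rs • (⊤ : Submodule A G)).mkQ m) = 0
    rw [one_smul]
    exact h0)
  let ψ : B ⊗[A] (A ⧸ K) →ₗ[A] B ⧸ q.asIdeal := TensorProduct.lift (LinearMap.flip
    (K.liftQ (LinearMap.toSpanSingleton A (B →ₗ[A] B ⧸ q.asIdeal) (Ideal.Quotient.mkₐ A q.asIdeal).toLinearMap)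
      (fun a ha => by
        refine LinearMap.ext fun b => ?_
        show a • Ideal.Quotient.mk q.asIdeal b = 0
        rw [Algebra.smul_def, IsScalarTower.algebraMap_apply A B (B ⧸ q.asIdeal), Ideal.Quotient.algebraMap_eq,
          ← map_mul, Ideal.Quotient.eq_zero_iff_mem]
        exact Ideal.mul_mem_right _ _ (Ideal.mem_comap.1 (hq ▸ hKp ha)))))
  have := congrArg ψ h1
  rw [map_zero] at this
  have h2 : Ideal.Quotient.mk q.asIdeal ((1 : A) • (1 : B)) = 0 := this
  rw [one_smul, map_one] at h2
  haveI : Nontrivial (B ⧸ q.asIdeal) := Ideal.Quotient.nontrivial_iff.2 q.isPrime.ne_top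
  exact one_ne_zero h2

end Groth.L04
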