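import Groth.Agent.L04.MatlisEnd
import Groth.Agent.L01.AdicNoeth
import Mathlib.RingTheory.AdicCompletion.LocalRing
import Mathlib.RingTheory.Ideal.MinimalPrime.Localization
import Mathlib.Algebra.Module.LocalizedModule.Submodule
import Mathlib.Algebra.CharP.Frobenius
import Mathlib.Tactic

/-!
# Locally nilpotent Frobenius actions on cofinite modules are nilpotent
(Hartshorne–Speiser–Lyubeznik)

The ideals `I e = ann (K (e+1) / K e)`, `K e = ker φ^e`, increase and stabilise at a radical ideal
`I₀`, whose square kills `M / K e₀`. If `I₀` were proper, the Matlis dual of `M / K e₀` would be a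
finite module of finite length at a minimal prime of `I₀`, carrying an infinite chain of
submodules strictly decreasing there.
-/

universe u v

namespace Groth.L04.FrobNilp

open InjHull IsLocalRing

/-- A finite module killed by an ideal with Artinian quotient is Artinian. -/
theorem isArtinian_of_killed {S : Type u} [CommRing S] (J : Ideal S) [IsArtinianRing (S ⧸ J)]
    {L : Type v} [AddCommGroup L] [Module S L] [Module.Finite S L]
    (hkill : ∀ z : L, ∀ a ∈ J, a • z = 0) : IsArtinian S L := by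
  haveI : IsArtinian S (S ⧸ J) :=
    isArtinian_of_surjective_algebraMap (R := S ⧸ J) Ideal.Quotient.mk_surjective
  obtain ⟨k, s, hs⟩ := Module.Finite.exists_fin (R := S) (M := L)
  let π : (Fin k → S ⧸ J) →ₗ[S] L :=
    ∑ i, (Submodule.liftQ _ (LinearMap.toSpanSingleton S _ (s i))
      fun a ha => by simpa using hkill (s i) a ha) ∘ₗ LinearMap.proj i
  refine isArtinian_of_surjective _ π ?_
  rw [← LinearMap.range_eq_top, ← top_le_iff, ← hs, Submodule.span_le]
  rintro _ ⟨i, rfl⟩
  refine ⟨Pi.single i (Submodule.Quotient.mk 1), ?_⟩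
  simp only [π, LinearMap.sum_apply, LinearMap.comp_apply, LinearMap.proj_apply]
  rw [Finset.sum_eq_single i (fun j _ hj => by rw [Pi.single_eq_of_ne hj, map_zero]) (by simp),
    Pi.single_eq_same]
  exact one_smul S _

section Chain

variable {R : Type u} [CommRing R] [IsNoetherianRing R] [IsLocalRing R]
  [IsAdicComplete (maximalIdeal R) R] {M : Type u} [AddCommGroup M] [Module R M]

/-- The kernel of an iterate of a `p`-semilinear map. -/
def K (p : ℕ) (φ : M →+ M) (hφ : ∀ (a : R) (x : M), φ (a • x) = a ^ p • φ x) (e : ℕ) :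
    Submodule R M where
  carrier := {x | (⇑φ)^[e] x = 0}
  add_mem' {x y} hx hy := by
    simp only [Set.mem_ofPred_eq] at hx hy ⊢
    rw [iterate_map_add, hx, hy, add_zero]
  zero_mem' := iterate_map_zero φ e
  smul_mem' a x hx := by
    simp only [Set.mem_ofPred_eq] at hx ⊢
    induction e generalizing a x with
    | zero => simp only [Function.iterate_zero, id_eq] at hx ⊢; rw [hx, smul_zero]
    | succ e ih =>
      rw [Function.iterate_succ_apply] at hx ⊢
      rw [hφ]
      exact ih (a ^ p) (φ x) hx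

variable {p : ℕ} {φ : M →+ M} (hφ : ∀ (a : R) (x : M), φ (a • x) = a ^ p • φ x)

theorem mem_K {e : ℕ} {x : M} : x ∈ K p φ hφ e ↔ (⇑φ)^[e] x = 0 := Iff.rfl

theorem mem_K_succ {e : ℕ} {x : M} : x ∈ K p φ hφ (e + 1) ↔ φ x ∈ K p φ hφ e := by
  rw [mem_K, mem_K, Function.iterate_succ_apply]

theorem K_mono : Monotone (K p φ hφ) := by
  refine monotone_nat_of_le_succ fun e x hx => ?_
  rw [mem_K] at hx ⊢
  rw [Function.iterate_succ_apply', hx, map_zero]

include hφ in
theorem nilpotent [IsArtinian R M] (hp : 2 ≤ p) {E : Type u} [AddCommGroup E] [Module R E]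
    {f : ResidueField R →ₗ[R] E} (hf : IsInjectiveHull f)
    (hloc : ∀ x : M, ∃ n : ℕ, (⇑φ)^[n] x = 0) :
    ∃ n : ℕ, ∀ x : M, (⇑φ)^[n] x = 0 := by
  classical
  let I : ℕ → Ideal R := fun e => (K p φ hφ e).colon (K p φ hφ (e + 1) : Set M)
  have hI : ∀ {e : ℕ} {a : R}, a ∈ I e ↔ ∀ x ∈ K p φ hφ (e + 1), a • x ∈ K p φ hφ e := by
    intro e a
    exact Submodule.mem_colon
  have hstep : ∀ {e : ℕ} {a : R}, a ^ p ∈ I e → a ∈ I (e + 1) := by
    intro e a ha
    refine hI.2 fun x hx => ?_
    rw [mem_K_succ, hφ]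
    exact hI.1 ha _ ((mem_K_succ hφ).1 hx)
  have hImono : Monotone I := monotone_nat_of_le_succ fun e a ha =>
    hstep (Ideal.pow_mem_of_mem _ ha p (by omega))
  obtain ⟨e0, he0⟩ := monotone_stabilizes_iff_noetherian.2 inferInstance ⟨I, hImono⟩
  have hI0 : ∀ e, I (e0 + e) = I e0 := fun e => (he0 _ (Nat.le_add_right _ _)).symm
  have hp0 : ∀ a : R, a ^ p ∈ I e0 → a ∈ I e0 := fun a ha => by
    rw [← hI0 1]; exact hstep ha
  have hrad : (I e0).IsRadical := by
    intro a ⟨k, hk⟩
    have : ∀ j : ℕ, ∀ b : R, b ^ (p ^ j) ∈ I e0 → b ∈ I e0 := by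
      intro j
      induction j with
      | zero => intro b hb; simpa using hb
      | succ j ih =>
        intro b hb
        rw [pow_succ', pow_mul] at hb
        exact hp0 b (ih _ hb)
    refine this k a ?_
    rw [← Nat.sub_add_cancel (Nat.lt_pow_self (n := k) (by omega : 1 < p)).le, pow_add]
    exact Ideal.mul_mem_left _ _ hk
  by_cases htop : I e0 = ⊤
  · refine ⟨e0, fun x => ?_⟩
    obtain ⟨n, hn⟩ := hloc x
    have key : ∀ e, K p φ hφ (e0 + e) ≤ K p φ hφ e0 := by
      intro e
      induction e with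
      | zero => exact le_rfl
      | succ e ih =>
        intro y hy
        have h1 : (1 : R) ∈ I (e0 + e) := by rw [hI0, htop]; trivial
        exact ih (by simpa using hI.1 h1 y hy)
    exact key n (K_mono hφ (Nat.le_add_left n e0) hn)
  -- `I e0 ^ 2` kills `M` modulo `K e0`
  have hsq : ∀ (e : ℕ) (a b : R), a ∈ I e0 → b ∈ I e0 → ∀ x ∈ K p φ hφ (e0 + e),
      (a * b) • x ∈ K p φ hφ e0 := by
    intro e
    induction e with
    | zero => intro a b _ _ x hx; exact Submodule.smul_mem _ _ hx
    | succ e ih =>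
      intro a b ha hb x hx
      have hφx : φ x ∈ K p φ hφ (e0 + e) := (mem_K_succ hφ).1 hx
      have h2 : a ^ p • φ x ∈ K p φ hφ e0 := by
        obtain ⟨q, rfl⟩ := Nat.exists_eq_add_of_le hp
        rw [pow_add, sq, mul_comm (a * a), mul_smul]
        exact Submodule.smul_mem _ _ (ih a a ha ha _ hφx)
      rw [← hφ, ← mem_K_succ] at h2
      rw [mul_comm, mul_smul]
      exact hI.1 hb _ h2
  have hsq' : ∀ a ∈ I e0, ∀ b ∈ I e0, ∀ x : M, (a * b) • x ∈ K p φ hφ e0 := by
    intro a ha b hb x
    obtain ⟨n, hn⟩ := hloc x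
    exact hsq n a b ha hb x (K_mono hφ (Nat.le_add_left n e0) hn)
  -- the dual
  obtain ⟨P, hP, -⟩ := Ideal.exists_minimalPrimes_le (le_maximalIdeal htop)
  haveI : P.IsPrime := hP.1.1
  haveI : Module.Finite R (M →ₗ[R] E) := (finite_hom_and_bijective_of_isArtinian hf M).1
  haveI : IsNoetherian R (M →ₗ[R] E) := isNoetherian_of_isNoetherianRing_of_finite R _
  let W : ℕ → Submodule R (M →ₗ[R] E) := fun e =>
    { carrier := {ψ | ∀ x ∈ K p φ hφ (e0 + e), ψ x = 0}
      add_mem' := fun {a b} ha hb x hx => by rw [LinearMap.add_apply, ha x hx, hb x hx, add_zero]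
      zero_mem' := fun x _ => rfl
      smul_mem' := fun c ψ hψ x hx => by rw [LinearMap.smul_apply, hψ x hx, smul_zero] }
  have hWanti : ∀ e, W (e + 1) ≤ W e := fun e ψ hψ x hx =>
    hψ x (K_mono hφ (Nat.le_succ _) hx)
  have hWle : ∀ e, W e ≤ W 0 := by
    intro e
    induction e with
    | zero => exact le_rfl
    | succ e ih => exact (hWanti e).trans ih
  let S := Localization.AtPrime P
  let g : W 0 →ₗ[R] LocalizedModule P.primeCompl (W 0) :=
    LocalizedModule.mkLinearMap P.primeCompl (W 0)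
  let N : ℕ → Submodule S (LocalizedModule P.primeCompl (W 0)) := fun e =>
    Submodule.localized' S P.primeCompl g ((W e).comap (W 0).subtype)
  have hNanti : ∀ e, N (e + 1) ≤ N e := by
    intro e z hz
    obtain ⟨m, hm, s, rfl⟩ := hz
    exact ⟨m, hWanti e hm, s, rfl⟩
  -- the localised dual has finite length
  let J : Ideal S := (I e0 ^ 2).map (algebraMap R S)
  haveI : Module.Finite S (LocalizedModule P.primeCompl (W 0)) :=
    Module.Finite.of_isLocalizedModule P.primeCompl g
  have hkill : ∀ z : LocalizedModule P.primeCompl (W 0), ∀ a ∈ J, a • z = 0 := by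
    intro z a ha
    induction ha using Submodule.span_induction with
    | mem b hb =>
      obtain ⟨r, hr, rfl⟩ := hb
      obtain ⟨⟨w, s⟩, rfl⟩ := IsLocalizedModule.mk'_surjective P.primeCompl g z
      rw [Function.uncurry_apply_pair, algebraMap_smul, ← IsLocalizedModule.mk'_smul]
      suffices hw : r • w = 0 by rw [hw, IsLocalizedModule.mk'_zero]
      rw [SetLike.mem_coe, sq] at hr
      induction hr using Submodule.mul_induction_on' with
      | mem_mul_mem a ha b hb =>
        refine Subtype.ext (LinearMap.ext fun x => ?_)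
        show (a * b) • (w : M →ₗ[R] E) x = 0
        rw [← map_smul]
        exact w.2 _ (hsq' a ha b hb x)
      | add a _ b _ ha hb => rw [add_smul, ha, hb, add_zero]
    | zero => exact zero_smul _ _
    | add a b _ _ ha hb => rw [add_smul, ha, hb, add_zero]
    | smul c a _ ha => rw [smul_eq_mul, mul_smul, ha, smul_zero]
  have hJmin : maximalIdeal S ∈ J.minimalPrimes := by
    have hle : I e0 ^ 2 ≤ P := (Ideal.pow_le_self two_ne_zero).trans hP.1.2
    refine ⟨⟨inferInstance, ?_⟩, fun q hq _ => ?_⟩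
    · rw [Ideal.map_le_iff_le_comap]
      exact hle.trans (IsLocalization.AtPrime.comap_maximalIdeal S P).ge
    haveI : q.IsPrime := hq.1
    have hqP : q.comap (algebraMap R S) ≤ P := by
      exact (Ideal.comap_mono (le_maximalIdeal hq.1.ne_top)).trans
        (IsLocalization.AtPrime.comap_maximalIdeal S P).le
    have hIq : I e0 ≤ q.comap (algebraMap R S) :=
      Ideal.IsPrime.le_of_pow_le (n := 2) (Ideal.map_le_iff_le_comap.1 hq.2)
    have hPq : P ≤ q.comap (algebraMap R S) := hP.2 ⟨inferInstance, hIq⟩ hqP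
    rw [← Localization.AtPrime.map_eq_maximalIdeal]
    exact Ideal.map_le_iff_le_comap.2 hPq
  haveI hart : IsArtinianRing (S ⧸ J) :=
    quotient_artinian_of_mem_minimalPrimes_of_isLocalRing J hJmin
  haveI : IsArtinian S (LocalizedModule P.primeCompl (W 0)) :=
    isArtinian_of_killed (S := S) (L := LocalizedModule P.primeCompl (W 0)) J hkill
  obtain ⟨n, hn⟩ := IsArtinian.monotone_stabilizes
    (R := S) (M := LocalizedModule P.primeCompl (W 0))
    ⟨fun e => OrderDual.toDual (N e), monotone_nat_of_le_succ hNanti⟩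
  have hNeq : N n ≤ N (n + 1) := (OrderDual.toDual.injective (hn (n + 1) (Nat.le_succ n))).le
  -- so some `t ∉ P` carries `W n` into `W (n+1)`
  have hex : ∃ t ∉ P, ∀ ψ ∈ W n, t • ψ ∈ W (n + 1) := by
    suffices h : ∀ T : Submodule R (M →ₗ[R] E), T.FG → T ≤ W n →
        ∃ t ∉ P, ∀ ψ ∈ T, t • ψ ∈ W (n + 1) from h _ (IsNoetherian.noetherian _) le_rfl
    intro T hT
    induction T, hT using Submodule.fg_induction with
    | singleton w =>
      intro hw
      have hwn : w ∈ W n := hw (Submodule.mem_span_singleton_self w)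
      have h1 : g ⟨w, hWle n hwn⟩ ∈ N n :=
        ⟨⟨w, hWle n hwn⟩, hwn, 1, IsLocalizedModule.mk'_one _ _ _⟩
      obtain ⟨w', hw', s, hs⟩ := hNeq h1
      rw [IsLocalizedModule.mk'_eq_iff, Submonoid.smul_def, ← map_smul,
        IsLocalizedModule.eq_iff_exists P.primeCompl g] at hs
      obtain ⟨c, hc⟩ := hs
      refine ⟨(c : R) * s, P.primeCompl.mul_mem c.2 s.2, fun ψ hψ => ?_⟩
      obtain ⟨r, rfl⟩ := Submodule.mem_span_singleton.1 hψ
      rw [smul_comm]
      refine Submodule.smul_mem _ _ ?_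
      have hc' : (c : R) • (w' : M →ₗ[R] E) = (c : R) • (s : R) • w :=
        congrArg Subtype.val hc
      rw [mul_smul, ← hc']
      exact Submodule.smul_mem _ _ hw'
    | sup T₁ T₂ _ _ ih₁ ih₂ =>
      intro hle
      obtain ⟨t₁, ht₁, h₁⟩ := ih₁ (le_sup_left.trans hle)
      obtain ⟨t₂, ht₂, h₂⟩ := ih₂ (le_sup_right.trans hle)
      refine ⟨t₁ * t₂, fun h => (hP.1.1.mem_or_mem h).elim ht₁ ht₂, fun ψ hψ => ?_⟩
      obtain ⟨a, ha, b, hb, rfl⟩ := Submodule.mem_sup.1 hψ
      rw [smul_add]
      refine add_mem ?_ ?_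
      · rw [mul_comm, mul_smul]; exact Submodule.smul_mem _ _ (h₁ a ha)
      · rw [mul_smul]; exact Submodule.smul_mem _ _ (h₂ b hb)
  obtain ⟨t, htP, ht⟩ := hex
  exfalso
  refine htP (hP.1.2 ?_)
  rw [← hI0 n]
  refine hI.2 fun x hx => ?_
  by_contra hne
  obtain ⟨h, hh⟩ := exists_hom_ne_zero hf (x := (K p φ hφ (e0 + n)).mkQ (t • x))
    (by rw [Submodule.mkQ_apply, Ne, Submodule.Quotient.mk_eq_zero]; exact hne)
  apply hh
  have hψ : h ∘ₗ (K p φ hφ (e0 + n)).mkQ ∈ W n := fun y hy => by
    rw [LinearMap.comp_apply, Submodule.mkQ_apply, (Submodule.Quotient.mk_eq_zero _).2 hy, map_zero]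
  have h1 := ht _ hψ x hx
  rw [LinearMap.smul_apply, LinearMap.comp_apply, ← map_smul, ← map_smul] at h1
  exact h1

end Chain

section Transfer

variable {A : Type u} [CommRing A] [IsNoetherianRing A] [IsLocalRing A] {M : Type u}
  [AddCommGroup M] [Module A M] (hT : LocCoh.IsPowerTorsion (maximalIdeal A) M)

/-- A torsion module is a module over the completion. -/
@[reducible] noncomputable def completionModule :
    Module (AdicCompletion (maximalIdeal A) A) M where
  smul a x := completionAct hT a x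
  one_smul x := by
    obtain ⟨i, hi⟩ := hT x
    show completionAct hT 1 x = x
    rw [completionAct_eq hT 1 hi (r := 1) (by rw [map_one, map_one]), one_smul]
  mul_smul a b x := by
    obtain ⟨i, hi⟩ := hT x
    obtain ⟨s, hs, hx⟩ := completionAct_spec hT b x _ hi
    have hsx : ∀ c ∈ maximalIdeal A ^ i, c • (s • x) = 0 := fun c hc => by
      rw [smul_comm, hi c hc, smul_zero]
    obtain ⟨r, hr, hx'⟩ := completionAct_spec hT a (s • x) _ hsx
    show completionAct hT (a * b) x = completionAct hT a (completionAct hT b x)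
    rw [hx, hx', completionAct_eq hT (a * b) hi (r := r * s)
      (by rw [map_mul, map_mul, hr, hs]), mul_smul]
  smul_zero a := (completionEnd hT a).map_zero
  smul_add a x y := (completionEnd hT a).map_add x y
  add_smul a b x := by
    obtain ⟨i, hi⟩ := hT x
    obtain ⟨r, hr, hx⟩ := completionAct_spec hT a x _ hi
    obtain ⟨s, hs, hx'⟩ := completionAct_spec hT b x _ hi
    show completionAct hT (a + b) x = completionAct hT a x + completionAct hT b x
    rw [hx, hx', completionAct_eq hT (a + b) hi (r := r + s)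
      (by rw [map_add, map_add, hr, hs]), add_smul]
  zero_smul x := by
    obtain ⟨i, hi⟩ := hT x
    show completionAct hT 0 x = 0
    rw [completionAct_eq hT 0 hi (r := 0) (by rw [map_zero, map_zero]), zero_smul]

include hT

theorem nilpotent_of_cofinite
    [Module.Finite (A ⧸ maximalIdeal A) ↥(LocCoh.torsionBy (maximalIdeal A) M)]
    {p : ℕ} (hp : 2 ≤ p) {φ : M →+ M} (hφ : ∀ (a : A) (x : M), φ (a • x) = a ^ p • φ x)
    (hloc : ∀ x : M, ∃ n : ℕ, (⇑φ)^[n] x = 0) :
    ∃ n : ℕ, ∀ x : M, (⇑φ)^[n] x = 0 := by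
  letI := completionModule hT
  haveI : IsScalarTower A (AdicCompletion (maximalIdeal A) A) M := by
    refine IsScalarTower.of_algebraMap_smul fun r x => ?_
    obtain ⟨i, hi⟩ := hT x
    exact completionAct_eq hT _ hi (r := r) (by rw [AlgHom.commutes]; rfl)
  haveI : IsNoetherianRing (AdicCompletion (maximalIdeal A) A) :=
    Groth.L01.AdicNoeth.isNoetherianRing_adicCompletion _ (IsNoetherian.noetherian _)
  obtain ⟨E₀, _, _, f₀, hf₀⟩ := exists_injectiveHull (R := A) (ResidueField A)
  haveI : IsArtinian A M := (isArtinian_iff_torsion_socle hf₀ M).2 ⟨hT, inferInstance⟩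
  haveI : IsArtinian (AdicCompletion (maximalIdeal A) A) M := isArtinian_of_tower A inferInstance
  obtain ⟨E, _, _, f, hf⟩ := exists_injectiveHull (R := AdicCompletion (maximalIdeal A) A)
    (ResidueField (AdicCompletion (maximalIdeal A) A))
  refine nilpotent (R := AdicCompletion (maximalIdeal A) A) (p := p) (φ := φ) ?_ hp hf hloc
  intro a x
  obtain ⟨i, hi⟩ := hT x
  obtain ⟨j, hj⟩ := hT (φ x)
  have hi' : ∀ b ∈ maximalIdeal A ^ max i j, b • x = 0 := fun b hb =>
    hi b (Ideal.pow_le_pow_right (le_max_left i j) hb)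
  have hj' : ∀ b ∈ maximalIdeal A ^ max i j, b • φ x = 0 := fun b hb =>
    hj b (Ideal.pow_le_pow_right (le_max_right i j) hb)
  obtain ⟨r, hr, hx⟩ := completionAct_spec hT a x _ hi'
  show φ (completionAct hT a x) = completionAct hT (a ^ p) (φ x)
  rw [hx, completionAct_eq hT (a ^ p) hj' (r := r ^ p) (by rw [map_pow, map_pow, hr]), hφ]

end Transfer

/-- Cofinite modules in any universe embed in a power of the hull. -/
theorem exists_embedding_pi' {A : Type u} [CommRing A] [IsNoetherianRing A] [IsLocalRing A]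
    {E : Type u} [AddCommGroup E] [Module A E] {f : ResidueField A →ₗ[A] E}
    (hf : IsInjectiveHull f) {M : Type v} [AddCommGroup M] [Module A M]
    (hT : LocCoh.IsPowerTorsion (maximalIdeal A) M)
    [Module.Finite (A ⧸ maximalIdeal A) ↥(LocCoh.torsionBy (maximalIdeal A) M)] :
    ∃ (n : ℕ) (g : M →ₗ[A] (Fin n → E)), Function.Injective g := by
  letI : Field (A ⧸ maximalIdeal A) := Ideal.Quotient.field _
  let b := Module.finBasis (A ⧸ maximalIdeal A) ↥(LocCoh.torsionBy (maximalIdeal A) M)
  set n := Module.finrank (A ⧸ maximalIdeal A) ↥(LocCoh.torsionBy (maximalIdeal A) M) with hn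
  refine ⟨n, ?_⟩
  let i : ↥(LocCoh.torsionBy (maximalIdeal A) M) →ₗ[A] (Fin n → E) :=
    (LinearMap.compLeft f (Fin n)) ∘ₗ (b.equivFun.restrictScalars A).toLinearMap
  have hi : Function.Injective i :=
    (hf.injective.comp_left).comp (b.equivFun.restrictScalars A).injective
  haveI := hf.isInjective
  haveI : Module.Injective A (Fin n → E) := inferInstance
  obtain ⟨g, hg⟩ := (Module.Baer.of_injective (R := A) (Q := Fin n → E) inferInstance).extension_property
    (LocCoh.torsionBy (maximalIdeal A) M).subtype (Submodule.injective_subtype _) i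
  refine ⟨g, ?_⟩
  rw [← LinearMap.ker_eq_bot, eq_bot_iff]
  intro x hx
  by_contra hne
  obtain ⟨r, hr0, hr⟩ := exists_smul_killed hT (x := x) (by simpa using hne)
  have hmem : r • x ∈ LocCoh.torsionBy (maximalIdeal A) M := by
    rw [Submodule.mem_torsionBySet_iff]; exact fun a => hr a a.2
  have h1 : i ⟨r • x, hmem⟩ = 0 := by
    rw [← hg, LinearMap.comp_apply]
    show g (r • x) = 0
    rw [map_smul, LinearMap.mem_ker.1 hx, smul_zero]
  exact hr0 (congrArg Subtype.val (hi (h1.trans (map_zero i).symm)))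

end Groth.L04.FrobNilp
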