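import Groth.Agent.L13.Wild.Kunz
import Groth.Agent.L21.GorensteinLCI
import Groth.Agent.L13.LiaisonDouble
import Groth.Agent.L04.InjNoeth
import Groth.Agent.L04.Matlis
import Groth.Agent.L06.RegularPow
import Groth.Agent.L01.Regular
import Groth.Prelude.Def_Wider
import Groth.Agent.S0342
import Mathlib.Algebra.CharP.Lemmas
import Mathlib.Algebra.Category.ModuleCat.ChangeOfRings
import Mathlib.LinearAlgebra.DirectSum.Finsupp
import Mathlib.LinearAlgebra.TensorProduct.Pi
import Mathlib.RingTheory.Flat.Basic

/-!
# Frobenius stable torsion modules over regular local rings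
-/

set_option autoImplicit false
set_option linter.style.haveILetI false

universe u

open TensorProduct IsLocalRing RingTheory.Sequence

noncomputable section

namespace Groth.L04.FrobStable

variable {R : Type u} [CommRing R]

/-- The part of `M` killed by `I` is free over `R/I` with basis given by `m`. -/
def IsFreeTors (I : Ideal R) {M : Type u} [AddCommGroup M] [Module R M] {ι : Type u} (m : ι → M) : Prop :=
  LinearMap.range (Finsupp.linearCombination R m) = LocCoh.torsionBy I M ∧
    ∀ c : ι →₀ R, Finsupp.linearCombination R m c = 0 ↔ ∀ i, c i ∈ I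

theorem mem_torsionBy {I : Ideal R} {M : Type u} [AddCommGroup M] [Module R M] {z : M} :
    z ∈ LocCoh.torsionBy I M ↔ ∀ a ∈ I, a • z = 0 := by
  rw [Submodule.mem_torsionBySet_iff]
  exact ⟨fun h a ha => h ⟨a, ha⟩, fun h a => h a a.2⟩

/-- Flat base change of a free torsion part. -/
theorem isFreeTors_baseChange {B : Type u} [CommRing B] [Algebra R B] [Module.Flat R B]
    {n : ℕ} (a : Fin n → R) {M : Type u} [AddCommGroup M] [Module R M] {ι : Type u} {m : ι → M}
    (h : IsFreeTors (Ideal.span (Set.range a)) m) :
    IsFreeTors ((Ideal.span (Set.range a)).map (algebraMap R B)) (fun i => (1 : B) ⊗ₜ[R] m i) := by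
  classical
  set I := Ideal.span (Set.range a)
  let L := Finsupp.linearCombination R m
  let g : M →ₗ[R] (Fin n → M) := LinearMap.pi fun j => LinearMap.lsmul R M (a j)
  have hLg : Function.Exact L g := fun z => by
    refine Iff.trans ?_ (Iff.trans mem_torsionBy.symm (SetLike.ext_iff.1 h.1.symm z))
    refine ⟨fun hz x hx => ?_, fun hz => funext fun j => hz _ (Ideal.subset_span ⟨j, rfl⟩)⟩
    induction hx using Submodule.span_induction with
    | mem y hy => obtain ⟨j, rfl⟩ := hy; exact congrFun hz j
    | zero => exact zero_smul R z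
    | add _ _ _ _ h1 h2 => rw [add_smul, h1, h2, add_zero]
    | smul r y _ hy => rw [smul_eq_mul, mul_smul, hy, smul_zero]
  let K : Submodule R (ι →₀ R) := LinearMap.ker L
  letI : AddCommGroup ↥K := Submodule.addCommGroup K
  let kι : ↥K →ₗ[R] (ι →₀ R) := K.subtype
  have hKL : Function.Exact kι L := fun z =>
    ⟨fun hz => ⟨⟨z, hz⟩, rfl⟩, by rintro ⟨y, rfl⟩; exact y.2⟩
  let Φ := TensorProduct.finsuppScalarRight R B B ι
  let L' : (ι →₀ B) →ₗ[B] B ⊗[R] M := Finsupp.linearCombination B fun i => (1 : B) ⊗ₜ[R] m i
  have hΦ : ∀ w, L' (Φ w) = L.lTensor B w := by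
    intro w
    induction w using TensorProduct.induction_on with
    | zero => simp
    | add x y hx hy => rw [map_add, map_add, hx, hy, map_add]
    | tmul b c =>
      rw [LinearMap.lTensor_tmul]
      induction c using Finsupp.induction_linear with
      | zero => simp
      | add x y hx hy => rw [TensorProduct.tmul_add, map_add, map_add, hx, hy, map_add, TensorProduct.tmul_add]
      | single i r =>
        simp only [L, L', Φ, finsuppScalarRight_apply_tmul, Finsupp.linearCombination_single]
        rw [Finsupp.sum_single_index (by simp), Finsupp.linearCombination_single, TensorProduct.smul_tmul',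
          smul_eq_mul, mul_one, TensorProduct.smul_tmul]
  refine ⟨?_, fun c => ?_⟩
  · ext z
    have hex : z ∈ LinearMap.range L' ↔ g.lTensor B z = 0 := by
      refine Iff.trans ?_ (Module.Flat.lTensor_exact B hLg z).symm
      constructor
      · rintro ⟨c, rfl⟩
        exact ⟨Φ.symm c, by rw [← hΦ, LinearEquiv.apply_symm_apply]⟩
      · rintro ⟨w, rfl⟩
        exact ⟨Φ w, hΦ w⟩
    refine hex.trans ?_
    have hg : ∀ j, TensorProduct.piRight R R B (fun _ : Fin n => M) (g.lTensor B z) j = algebraMap R B (a j) • z := by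
      intro j
      clear hex
      induction z using TensorProduct.induction_on with
      | zero => simp
      | add x y hx hy =>
        rw [show g.lTensor B (x + y) = g.lTensor B x + g.lTensor B y from map_add _ x y, map_add, Pi.add_apply, hx, hy, smul_add]
      | tmul b y =>
        rw [LinearMap.lTensor_tmul, TensorProduct.piRight_apply, TensorProduct.piRightHom_tmul]
        show b ⊗ₜ[R] (a j • y) = _
        rw [TensorProduct.tmul_smul, algebraMap_smul]
    rw [mem_torsionBy]
    constructor
    · intro hz x hx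
      rw [Ideal.map_span] at hx
      induction hx using Submodule.span_induction with
      | mem y hy =>
        obtain ⟨_, ⟨j, rfl⟩, rfl⟩ := hy
        rw [← hg j, hz, map_zero, Pi.zero_apply]
      | zero => exact zero_smul B z
      | add _ _ _ _ h1 h2 => rw [add_smul, h1, h2, add_zero]
      | smul r y _ hy => rw [smul_eq_mul, mul_smul, hy, smul_zero]
    · intro hz
      refine (TensorProduct.piRight R R B (fun _ : Fin n => M)).injective (funext fun j => ?_)
      rw [hg j, map_zero, Pi.zero_apply]
      exact hz _ (Ideal.mem_map_of_mem _ (Ideal.subset_span ⟨j, rfl⟩))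
  · show L' c = 0 ↔ _
    constructor
    · intro hc
      obtain ⟨w, hw⟩ := ((Module.Flat.lTensor_exact B hKL) (Φ.symm c)).1
        (by rw [← hΦ, LinearEquiv.apply_symm_apply]; exact hc)
      intro i
      rw [show c = Φ (kι.lTensor B w) by rw [hw, LinearEquiv.apply_symm_apply]]
      clear hw
      induction w using TensorProduct.induction_on with
      | zero => simp
      | add x y hx hy =>
        rw [map_add, map_add, Finsupp.add_apply]
        exact add_mem hx hy
      | tmul b k =>
        rw [LinearMap.lTensor_tmul, finsuppScalarRight_apply_tmul_apply]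
        rw [Algebra.smul_def]
        exact Ideal.mul_mem_right _ _ (Ideal.mem_map_of_mem _ ((h.2 k.1).1 k.2 i))
    · intro hc
      induction c using Finsupp.induction with
      | zero => exact map_zero L'
      | single_add i b c hi hb ih =>
        have hci : c i = 0 := Finsupp.notMem_support_iff.1 hi
        have hb' : b ∈ I.map (algebraMap R B) := by simpa [hci] using hc i
        rw [map_add, ih fun j => by
          by_cases hj : j = i
          · subst hj; rw [hci]; exact zero_mem _
          · simpa [Finsupp.single_eq_of_ne hj] using hc j, add_zero]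
        simp only [L', Finsupp.linearCombination_single]
        clear hc hb ih
        induction hb' using Submodule.span_induction with
        | mem y hy =>
          obtain ⟨r, hr, rfl⟩ := hy
          rw [algebraMap_smul, ← TensorProduct.tmul_smul,
            (mem_torsionBy.1 (h.1.le ⟨Finsupp.single i 1, by simp⟩)) r hr, TensorProduct.tmul_zero]
        | zero => exact zero_smul B _
        | add _ _ _ _ h1 h2 => rw [add_smul, h1, h2, add_zero]
        | smul r y _ hy => rw [smul_eq_mul, mul_smul, hy, smul_zero]

/-- The socle is free over the residue field. -/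
theorem exists_isFreeTors_maximalIdeal [IsLocalRing R] (M : Type u) [AddCommGroup M] [Module R M] :
    ∃ (ι : Type u) (m : ι → M), IsFreeTors (maximalIdeal R) m := by
  letI : Field (R ⧸ maximalIdeal R) := Ideal.Quotient.field _
  let S := LocCoh.torsionBy (maximalIdeal R) M
  let b := Module.Basis.ofVectorSpace (R ⧸ maximalIdeal R) ↥S
  refine ⟨_, fun i => (b i : M), ?_, fun c => ?_⟩
  · rw [Finsupp.range_linearCombination]
    refine le_antisymm (Submodule.span_le.2 (by rintro _ ⟨i, rfl⟩; exact (b i).2)) fun z hz => ?_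
    have h1 : (⟨z, hz⟩ : S) ∈ (Submodule.span (R ⧸ maximalIdeal R) (Set.range b)).restrictScalars R := by
      rw [b.span_eq]; exact Submodule.mem_top
    rw [Submodule.restrictScalars_span _ _ Ideal.Quotient.mk_surjective] at h1
    have := Submodule.apply_mem_span_image_of_mem_span S.subtype h1
    rw [← Set.range_comp] at this
    exact this
  · have h2 : Finsupp.linearCombination R (fun i => (b i : M)) c =
        ((Finsupp.linearCombination (R ⧸ maximalIdeal R) b (c.mapRange (Ideal.Quotient.mk _) (map_zero _)) : ↥S) : M) := by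
      induction c using Finsupp.induction_linear with
      | zero => simp
      | add x y hx hy => rw [Finsupp.mapRange_add (map_add _), map_add, map_add, Submodule.coe_add, hx, hy]
      | single i r => simp [Finsupp.linearCombination_single]
    rw [h2, Submodule.coe_eq_zero]
    refine (map_eq_zero_iff _ b.linearIndependent.finsuppLinearCombination_injective).trans ?_
    rw [Finsupp.ext_iff]
    simp [Ideal.Quotient.eq_zero_iff_mem]

/-- A free torsion part over a self injective quotient receives extensions. -/
theorem exists_extension [IsNoetherianRing R] {J : Ideal R} (hJ : Module.Injective (R ⧸ J) (R ⧸ J))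
    {M : Type u} [AddCommGroup M] [Module R M] {ι : Type u} {m : ι → M} (h : IsFreeTors J m)
    (W : Type u) [AddCommGroup W] [Module R W] (hW : ∀ a ∈ J, ∀ w : W, a • w = 0)
    (N : Submodule R W) (g : N →ₗ[R] M) : ∃ g' : W →ₗ[R] M, g'.comp N.subtype = g := by
  classical
  have hW' : Module.IsTorsionBySet R W (J : Set R) := fun w a => hW a a.2 w
  letI := hW'.module
  have hN' : Module.IsTorsionBySet R N (J : Set R) := fun w a => Subtype.ext (hW a a.2 w.1)
  letI := hN'.module
  haveI : IsScalarTower R (R ⧸ J) W := hW'.isScalarTower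
  haveI : IsScalarTower R (R ⧸ J) N := hN'.isScalarTower
  let π : (ι →₀ R) →ₗ[R] (ι →₀ R ⧸ J) := Finsupp.mapRange.linearMap J.mkQ
  have hπ : Function.Surjective π := Finsupp.mapRange_surjective _ (map_zero _) J.mkQ_surjective
  let L := Finsupp.linearCombination R m
  have hker : LinearMap.ker π = LinearMap.ker L := by
    ext c
    rw [LinearMap.mem_ker, LinearMap.mem_ker, h.2 c, Finsupp.ext_iff]
    simp [π, Ideal.Quotient.eq_zero_iff_mem]
  let T : (ι →₀ R ⧸ J) →ₗ[R] M :=
    ((LinearMap.ker π).liftQ L hker.le).comp (π.quotKerEquivOfSurjective hπ).symm.toLinearMap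
  have hTπ : ∀ c, T (π c) = L c := by
    intro c
    show (LinearMap.ker π).liftQ L hker.le ((π.quotKerEquivOfSurjective hπ).symm (π c)) = L c
    rw [show π c = π.quotKerEquivOfSurjective hπ (Submodule.Quotient.mk c) from rfl, LinearEquiv.symm_apply_apply]
    rfl
  have hTinj : Function.Injective T := by
    rw [injective_iff_map_eq_zero]
    intro y hy
    obtain ⟨c, rfl⟩ := hπ y
    rw [hTπ, ← LinearMap.mem_ker, ← hker] at hy
    exact hy
  have hgT : ∀ x, g x ∈ LinearMap.range T := by
    intro x
    have : g x ∈ LocCoh.torsionBy J M := mem_torsionBy.2 fun a ha => by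
      rw [← map_smul, show a • x = 0 from Subtype.ext (hW a ha x.1), map_zero]
    rw [← h.1] at this
    obtain ⟨c, hc⟩ := this
    exact ⟨π c, (hTπ c).trans hc⟩
  let g₀ : N →ₗ[R] (ι →₀ R ⧸ J) :=
    (LinearEquiv.ofInjective T hTinj).symm.toLinearMap.comp (g.codRestrict (LinearMap.range T) hgT)
  have hg₀ : ∀ x, T (g₀ x) = g x := fun x =>
    congrArg Subtype.val ((LinearEquiv.ofInjective T hTinj).apply_symm_apply ⟨g x, hgT x⟩)
  haveI : Module.Injective (R ⧸ J) (ι →₀ R ⧸ J) := Groth.L04.injective_of_linearEquiv
    (finsuppLEquivDirectSum (R ⧸ J) (R ⧸ J) ι).symm (Groth.L04.injective_directSum fun _ => hJ)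
  let g₁ : N →ₗ[R ⧸ J] (ι →₀ R ⧸ J) := LinearMap.extendScalarsOfSurjective Ideal.Quotient.mk_surjective g₀
  let N' : N →ₗ[R ⧸ J] W := LinearMap.extendScalarsOfSurjective Ideal.Quotient.mk_surjective N.subtype
  obtain ⟨g₂, hg₂⟩ := Module.Injective.out (R := R ⧸ J) (Q := ι →₀ R ⧸ J) N' N.injective_subtype g₁
  refine ⟨T.comp (g₂.restrictScalars R), LinearMap.ext fun x => ?_⟩
  show T (g₂ (N' x)) = g x
  rw [hg₂ x]
  exact hg₀ x

/-- Free torsion parts are transported by linear equivalences. -/
theorem isFreeTors_linearEquiv {I : Ideal R} {M N : Type u} [AddCommGroup M] [Module R M] [AddCommGroup N]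
    [Module R N] (e : M ≃ₗ[R] N) {ι : Type u} {m : ι → M} (h : IsFreeTors I m) :
    IsFreeTors I (fun i => e (m i)) := by
  have hL : Finsupp.linearCombination R (fun i => e (m i)) =
      e.toLinearMap.comp (Finsupp.linearCombination R m) := by
    refine Finsupp.lhom_ext fun i r => ?_
    simp [Finsupp.linearCombination_single]
  refine ⟨?_, fun c => ?_⟩
  · rw [hL, LinearMap.range_comp, h.1]
    ext z
    rw [Submodule.mem_map_equiv, mem_torsionBy, mem_torsionBy]
    refine forall₂_congr fun a _ => ?_
    rw [← map_smul, map_eq_zero_iff _ e.symm.injective]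
  · rw [hL]
    show e (Finsupp.linearCombination R m c) = 0 ↔ _
    rw [LinearEquiv.map_eq_zero_iff, h.2 c]

/-- `R` seen as an algebra over itself through Frobenius. -/
def Fr (R : Type u) : Type u := R

instance : CommRing (Fr R) := ‹CommRing R›

theorem main (p : ℕ) [Fact p.Prime] (R : Type u) [CommRing R] [IsRegularLocalRing R] [CharP R p]
    (E : Type u) [AddCommGroup E] [Module R E] (f : IsLocalRing.ResidueField R →ₗ[R] E)
    (hf : InjHull.IsInjectiveHull f) (M : Type u) [AddCommGroup M] [Module R M]
    (hM : LocCoh.IsPowerTorsion (IsLocalRing.maximalIdeal R) M)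
    (h : Nonempty ((ModuleCat.extendScalars (frobenius R p)).obj (ModuleCat.of R M) ≅ ModuleCat.of R M)) :
    ∃ ι : Type u, Nonempty (M ≃ₗ[R] (ι →₀ E)) := by
  classical
  obtain ⟨σ⟩ := h
  obtain ⟨s, hs, hs'⟩ := Submodule.FG.exists_span_finset_card_eq_spanFinrank
    (maximalIdeal R).fg_of_isNoetherianRing
  let x : Fin s.toList.length → R := s.toList.get
  have hofList : ∀ {n : ℕ} (g : Fin n → R), Ideal.ofList (List.ofFn g) = Ideal.span (Set.range g) := fun g => by
    show Ideal.span {r | r ∈ List.ofFn g} = _
    congr 1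
    ext r
    simp [List.mem_ofFn]
  have hx : Ideal.span (Set.range x) = maximalIdeal R := by
    rw [← hs', ← hofList, List.ofFn_get]
    show Ideal.span {r | r ∈ s.toList} = Ideal.span _
    congr 1
    ext r
    simp
  have hreg : IsWeaklyRegular R (List.ofFn x) := by
    refine (Groth.L01.isRegular_of_ofList_eq_maximalIdeal _ ((hofList x).trans hx) ?_).toIsWeaklyRegular
    rw [List.length_ofFn, Finset.length_toList, hs]
    exact IsRegularLocalRing.spanFinrank_maximalIdeal.symm
  let I : ℕ → Ideal R := fun n => Ideal.span (Set.range fun i => x i ^ p ^ n)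
  have hI0 : I 0 = maximalIdeal R := by simp [I, hx]
  obtain ⟨ι, m₀, hm₀⟩ := exists_isFreeTors_maximalIdeal (R := R) M
  -- Frobenius
  let φ : R →+* Fr R := frobenius R p
  letI : Algebra R (Fr R) := φ.toAlgebra
  haveI : Module.Flat R (Fr R) := Groth.L13.Wild.Kunz.flat_frobenius p R
  letI : Module (Fr R) M := ‹Module R M›
  let ψ : Fr R ⊗[R] M ≃ₗ[Fr R] M := σ.toLinearEquiv
  have hfree : ∀ n, ∃ m : ι → M, IsFreeTors (I n) m := by
    intro n
    induction n with
    | zero => exact ⟨m₀, hI0 ▸ hm₀⟩
    | succ n ih =>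
      obtain ⟨m, hm⟩ := ih
      have := isFreeTors_linearEquiv ψ (isFreeTors_baseChange (B := Fr R) (fun i => x i ^ p ^ n) hm)
      refine ⟨fun i => ψ (1 ⊗ₜ m i), ?_⟩
      have e : (Ideal.span (Set.range fun i => x i ^ p ^ n)).map (algebraMap R (Fr R)) = (I (n + 1) : Ideal (Fr R)) := by
        rw [Ideal.map_span, ← Set.range_comp]
        show Ideal.span (Set.range fun i => frobenius R p (x i ^ p ^ n) : Set R) = I (n + 1)
        simp only [I, frobenius_def, pow_succ, pow_mul]
      rw [e] at this
      exact this
  have hMinj : Module.Injective R M := by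
    refine Groth.L04.injective_of_powerTorsion hM fun W _ _ _ hW N g => ?_
    obtain ⟨k, hk⟩ := hW
    obtain ⟨m, hm⟩ := hfree k
    have hle : I k ≤ maximalIdeal R ^ k := by
      refine Ideal.span_le.2 ?_
      rintro _ ⟨i, rfl⟩
      exact Ideal.pow_le_pow_right (Nat.lt_pow_self (Fact.out : p.Prime).one_lt).le
        (Ideal.pow_mem_pow (hx ▸ Ideal.subset_span ⟨i, rfl⟩) _)
    have hreg' := Groth.L06.RegularPow.isWeaklyRegular_pow _ x (fun _ => p ^ k)
      (fun _ => Nat.one_le_pow _ _ (Fact.out : p.Prime).pos) hreg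
    haveI := Groth.Agent.S0342.result R
    haveI := Groth.L21.GorensteinLCI.gorenstein_quot_list R _ (by
      intro r hr
      obtain ⟨i, rfl⟩ := List.mem_ofFn.1 hr
      exact Ideal.pow_mem_of_mem _ (hx ▸ Ideal.subset_span ⟨i, rfl⟩) _ (pow_pos (Fact.out : p.Prime).pos k))
      hreg'
    haveI : Ring.KrullDimLE 0 (R ⧸ Ideal.ofList (List.ofFn fun i => x i ^ p ^ k)) := by
      refine Ring.KrullDimLE.mk₀ fun P hP => ?_
      have hm' : P.comap (Ideal.Quotient.mk _) = maximalIdeal R := by
        refine le_antisymm (le_maximalIdeal (Ideal.IsPrime.comap (K := P) _).ne_top) ?_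
        rw [← hx, Ideal.span_le]
        rintro _ ⟨i, rfl⟩
        refine (Ideal.IsPrime.comap (K := P) _).mem_of_pow_mem (p ^ k) ?_
        show Ideal.Quotient.mk _ _ ∈ P
        rw [Ideal.Quotient.eq_zero_iff_mem.2 (by rw [hofList]; exact Ideal.subset_span ⟨i, rfl⟩)]
        exact zero_mem _
      rw [← Ideal.map_comap_of_surjective _ Ideal.Quotient.mk_surjective P, hm']
      refine Ideal.IsMaximal.map_of_surjective_of_ker_le Ideal.Quotient.mk_surjective ?_
      rw [← hm', Ideal.mk_ker]
      intro a ha
      show Ideal.Quotient.mk _ a ∈ P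
      rw [Ideal.Quotient.eq_zero_iff_mem.2 ha]
      exact zero_mem _
    have hinj := Groth.L13.Liaison.injective_self_of_dim_zero (A := R ⧸ Ideal.ofList (List.ofFn fun i => x i ^ p ^ k))
      (ringKrullDimZero_iff_ringKrullDim_eq_zero.1 inferInstance)
    have hJ : Ideal.ofList (List.ofFn fun i => x i ^ p ^ k) = I k := hofList _
    rw [hJ] at hinj
    refine exists_extension hinj hm W (fun a ha w => ?_) N g
    have := Submodule.smul_mem_smul (hle ha) (Submodule.mem_top : w ∈ (⊤ : Submodule R W))
    rw [hk] at this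
    exact this
  -- comparison with the sum of hulls
  let T : (ι →₀ R) →ₗ[R] (ι →₀ E) := Finsupp.mapRange.linearMap (LinearMap.toSpanSingleton R E (f 1))
  let L := Finsupp.linearCombination R m₀
  have hf1 : ∀ r : R, r • f 1 = f (residue R r) := fun r => by
    rw [← map_smul, Algebra.smul_def, mul_one]; rfl
  have hT : ∀ c, T c = 0 ↔ ∀ i, c i ∈ maximalIdeal R := fun c => by
    rw [Finsupp.ext_iff]
    refine forall_congr' fun i => ?_
    show c i • f 1 = 0 ↔ _
    rw [hf1, map_eq_zero_iff _ hf.injective, residue_eq_zero_iff]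
  have hker : LinearMap.ker L = LinearMap.ker T := by
    ext c
    rw [LinearMap.mem_ker, LinearMap.mem_ker, hT]
    exact hm₀.2 c
  have hEinj : Module.Injective R (ι →₀ E) := Groth.L04.injective_of_linearEquiv
    (finsuppLEquivDirectSum R E ι).symm (Groth.L04.injective_directSum fun _ => hf.isInjective)
  obtain ⟨g, hg⟩ := hEinj.out ((LinearMap.ker L).liftQ L le_rfl)
    (LinearMap.ker_eq_bot.1 (Submodule.ker_liftQ_eq_bot _ _ _ le_rfl)) ((LinearMap.ker L).liftQ T hker.le)
  have hgL : ∀ c, g (L c) = T c := fun c => by simpa using hg (Submodule.Quotient.mk c)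
  have hginj : Function.Injective g := Groth.L04.injective_of_socle hM g fun z hz hgz => by
    obtain ⟨c, rfl⟩ : z ∈ LinearMap.range L := by rw [hm₀.1]; exact mem_torsionBy.2 hz
    rw [← LinearMap.mem_ker, hker, LinearMap.mem_ker, ← hgL, hgz]
  have htors : LocCoh.IsPowerTorsion (maximalIdeal R) (ι →₀ E) := by
    intro y
    induction y using Finsupp.induction_linear with
    | zero => exact ⟨0, fun a _ => smul_zero a⟩
    | add a c ha hc =>
      obtain ⟨i, hi⟩ := ha
      obtain ⟨j, hj⟩ := hc
      exact ⟨max i j, fun r hr => by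
        rw [smul_add, hi r (Ideal.pow_le_pow_right (le_max_left i j) hr),
          hj r (Ideal.pow_le_pow_right (le_max_right i j) hr), add_zero]⟩
    | single i z =>
      obtain ⟨n, hn⟩ := Groth.L04.hull_isPowerTorsion hf z
      exact ⟨n, fun a ha => by rw [Finsupp.smul_single, hn a ha, Finsupp.single_zero]⟩
  obtain ⟨C, hC⟩ := Groth.L04.exists_isCompl_of_injective _ (Groth.L04.injective_range hMinj hginj)
  have hC0 : C = ⊥ := by
    rw [eq_bot_iff]
    intro y hy
    by_contra hne
    obtain ⟨r, hr0, hr⟩ := Groth.L04.exists_smul_killed htors (x := y) (by simpa using hne)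
    have hrT : r • y ∈ LinearMap.range T := by
      rw [← Finsupp.sum_single (r • y)]
      refine Submodule.sum_mem _ fun i _ => ?_
      obtain ⟨c, hc⟩ := Groth.L04.mem_range_of_killed hf (x := (r • y) i) fun a ha => by
        rw [← Finsupp.smul_apply, hr a ha, Finsupp.zero_apply]
      obtain ⟨b, rfl⟩ := residue_surjective c
      exact ⟨Finsupp.single i b, by
        simp only [T, Finsupp.mapRange.linearMap_apply, Finsupp.mapRange_single, LinearMap.toSpanSingleton_apply]
        rw [hf1, hc]⟩
    obtain ⟨c, hc⟩ := hrT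
    exact hr0 (Submodule.disjoint_def.1 hC.disjoint _ ⟨L c, (hgL c).trans hc⟩ (C.smul_mem r hy))
  refine ⟨ι, ⟨LinearEquiv.ofBijective g ⟨hginj, ?_⟩⟩⟩
  rw [hC0] at hC
  exact LinearMap.range_eq_top.1 (eq_top_of_isCompl_bot hC)

end Groth.L04.FrobStable
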