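import Groth.Agent.L04.LC.Torsion
import Groth.Agent.L04.Torsion
import Mathlib.RingTheory.Ideal.AssociatedPrime.Finiteness
import Mathlib.RingTheory.Ideal.MinimalPrime.Colon
import Mathlib.RingTheory.Localization.LocalizationLocalization
import Mathlib.RingTheory.Localization.Integer
import Mathlib.RingTheory.Localization.Finiteness

/-!
# Finiteness of `H¹_I` of a Noetherian domain is local (Kollár)
-/

set_option autoImplicit false

universe u

noncomputable section

namespace Groth.L04.H1Kollar

open CategoryTheory Groth.L04.LC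

section Iff

variable (A : Type u) [CommRing A] [IsDomain A] [IsNoetherianRing A]
  (K : Type u) [Field K] [Algebra A K] [IsFractionRing A K] (I : Ideal A)

/-- The copy of `A` in `K`. -/
abbrev base : Submodule A K := LinearMap.range (Algebra.linearMap A K)

/-- The elements of `K` sent into `A` by a power of `I`. -/
def sat : Submodule A K := (DRing.torsionSub I (K ⧸ base A K)).comap (base A K).mkQ

theorem mem_sat {x : K} : x ∈ sat A K I ↔ ∃ n : ℕ, ∀ a ∈ I ^ n, a • x ∈ base A K := by
  simp only [sat, Submodule.mem_comap, mem_torsionSub, Submodule.mkQ_apply, ← Submodule.Quotient.mk_smul,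
    Submodule.Quotient.mk_eq_zero]

theorem base_le_sat : base A K ≤ sat A K I := fun _ hx =>
  (mem_sat A K I).2 ⟨0, fun a _ => (base A K).smul_mem a hx⟩

theorem subsingleton_H_of_unit (hI : I ≠ ⊥) (i : ℕ) :
    Subsingleton ((localCohomology I i).obj (ModuleCat.of A K)) := by
  obtain ⟨a, ha, ha0⟩ := Submodule.exists_mem_ne_zero_of_ne_bot hI
  have hb : IsUnit (algebraMap A K a) := IsUnit.mk0 _ (by simpa using ha0)
  let e : K →ₗ[A] K := LinearMap.lsmul A K a
  let e' : K →ₗ[A] K := LinearMap.mulLeft A (↑hb.unit⁻¹ : K)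
  have hee : e ∘ₗ e' = LinearMap.id := LinearMap.ext fun x => by
    simp [e, e', Algebra.smul_def, ← mul_assoc, mul_inv_cancel₀ hb.ne_zero, inv_mul_cancel₀ hb.ne_zero]
  refine subsingleton_of_forall_eq 0 fun x => ?_
  have hsm : ∀ z : (localCohomology I i).obj (ModuleCat.of A K),
      ((localCohomology I i).map (ModuleCat.ofHom e)).hom z = a • z := by
    intro z
    obtain ⟨n, c, rfl⟩ := Hι_surjective I i _ z
    rw [map_Hι, ← map_smul]
    congr 1
    rw [show ModuleCat.ofHom e = a • 𝟙 (ModuleCat.of A K) from rfl, Abelian.Ext.mk₀_smul, Abelian.Ext.comp_smul,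
      Abelian.Ext.comp_mk₀_id]
  obtain ⟨n, hn⟩ := isPowerTorsion_H I i (ModuleCat.of A K) x
  have hsur : ∀ z : (localCohomology I i).obj (ModuleCat.of A K), ∃ w, a • w = z := fun z =>
    ⟨((localCohomology I i).map (ModuleCat.ofHom e')).hom z, by
      rw [← hsm, ← LinearMap.comp_apply, ← ModuleCat.hom_comp, ← Functor.map_comp, ← ModuleCat.ofHom_comp, hee,
        ModuleCat.ofHom_id, CategoryTheory.Functor.map_id, ModuleCat.hom_id, LinearMap.id_apply]⟩
  have hinj : ∀ z : (localCohomology I i).obj (ModuleCat.of A K), a • z = 0 → z = 0 := by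
    intro z hz
    have h1 : e' ∘ₗ e = LinearMap.id := LinearMap.ext fun y => by
      simp [e, e', Algebra.smul_def, ← mul_assoc, mul_inv_cancel₀ hb.ne_zero, inv_mul_cancel₀ hb.ne_zero]
    have : ((localCohomology I i).map (ModuleCat.ofHom e')).hom (((localCohomology I i).map (ModuleCat.ofHom e)).hom z) = z := by
      rw [← LinearMap.comp_apply, ← ModuleCat.hom_comp, ← Functor.map_comp, ← ModuleCat.ofHom_comp, h1,
        ModuleCat.ofHom_id, CategoryTheory.Functor.map_id, ModuleCat.hom_id, LinearMap.id_apply]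
    rw [← this, hsm, hz, map_zero]
  have hz : a ^ n • x = 0 := hn _ (Ideal.pow_mem_pow ha n)
  clear hn
  induction n with
  | zero => simpa using hz
  | succ n ih => exact ih (hinj _ (by rwa [← mul_smul, ← pow_succ']))

theorem finite_H1_iff (hI : I ≠ ⊥) : Module.Finite A (LocCoh.H I 1 A) ↔ (sat A K I).FG := by
  have hinj : Function.Injective (Algebra.linearMap A K) := IsFractionRing.injective A K
  have hS := ses_shortExact (Algebra.linearMap A K) (base A K).mkQ hinj (Submodule.mkQ_surjective _)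
    (LinearMap.exact_map_mkQ_range _)
  have hbij := Hδ_bijective I hS 0 (subsingleton_H_of_unit A K I hI 0) (subsingleton_H_of_unit A K I hI 1)
  let e : DRing.torsionSub I (K ⧸ base A K) ≃ₗ[A] LocCoh.H I 1 A :=
    ((H0Equiv I (ModuleCat.of A (K ⧸ base A K))).symm).trans (LinearEquiv.ofBijective _ hbij)
  have hb : (base A K).FG := by
    rw [base, LinearMap.range_eq_map]
    exact Module.Finite.fg_top.map _
  have hmap : (sat A K I).map (base A K).mkQ = DRing.torsionSub I (K ⧸ base A K) :=
    Submodule.map_comap_eq_of_surjective (Submodule.mkQ_surjective _) _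
  constructor
  · intro h
    haveI : Module.Finite A (DRing.torsionSub I (K ⧸ base A K)) := Module.Finite.equiv e.symm
    refine Submodule.fg_of_fg_map_of_fg_inf_ker (base A K).mkQ ?_ ?_
    · rw [hmap]
      exact Module.Finite.iff_fg.1 inferInstance
    · rwa [Submodule.ker_mkQ, inf_eq_right.2 (base_le_sat A K I)]
  · intro h
    haveI : Module.Finite A (DRing.torsionSub I (K ⧸ base A K)) :=
      Module.Finite.iff_fg.2 (hmap ▸ h.map _)
    exact Module.Finite.equiv e

end Iff

section Local

variable {A : Type u} [CommRing A] [IsDomain A] [IsNoetherianRing A]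
  (K : Type u) [Field K] [Algebra A K] [IsFractionRing A K] {I : Ideal A}

theorem mem_base_loc {S : Type u} [CommRing S] [IsDomain S] [Algebra S K] [Algebra A S]
    [IsScalarTower A S K] {x : K} (hx : x ∈ base A K) : x ∈ base S K := by
  obtain ⟨r, rfl⟩ := hx
  exact ⟨algebraMap A S r, (IsScalarTower.algebraMap_apply A S K r).symm⟩

/-- The colon primes of `M` in `sat`. -/
def assoc (I : Ideal A) (M : Submodule A K) : Set (Ideal A) :=
  {q | q.IsPrime ∧ ∃ y : sat A K I, q = (M.comap (sat A K I).subtype).colon {y}}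

variable {K}

theorem le_of_mem_assoc {M : Submodule A K} (hM : base A K ≤ M) {q : Ideal A} (hq : q ∈ assoc K I M) : I ≤ q := by
  obtain ⟨hp, y, rfl⟩ := hq
  obtain ⟨n, hn⟩ := (mem_sat A K I).1 y.2
  exact hp.le_of_pow_le (n := n) fun a ha => Submodule.mem_colon_singleton.2 (hM (hn a ha))

theorem finite_assoc (hI : I ≠ ⊥) {M : Submodule A K} (hM : base A K ≤ M) (hfg : M.FG) :
    (assoc K I M).Finite := by
  obtain ⟨a, ha, ha0⟩ := Submodule.exists_mem_ne_zero_of_ne_bot hI
  haveI : Module.Finite A M := Module.Finite.iff_fg.2 hfg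
  let g : M →ₗ[A] K ⧸ M := M.mkQ ∘ₗ (LinearMap.mulLeft A (algebraMap A K a)⁻¹) ∘ₗ M.subtype
  refine (associatedPrimes.finite A (LinearMap.range g)).subset fun q hq => ?_
  have hIq := le_of_mem_assoc hM hq
  obtain ⟨hp, y, rfl⟩ := hq
  have hay : a • (y : K) ∈ M := by
    have h := Submodule.mem_colon_singleton.1 (hIq ha)
    exact h
  refine (isAssociatedPrime_iff).2 ⟨hp, ⟨g ⟨_, hay⟩, LinearMap.mem_range_self g _⟩, ?_⟩
  have hg : g ⟨_, hay⟩ = Submodule.Quotient.mk (y : K) := by
    simp [g, Algebra.smul_def, ← mul_assoc, ha0]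
  ext r
  rw [Submodule.mem_colon_singleton, Submodule.mem_colon_singleton, Submodule.mem_bot, Subtype.ext_iff,
    SetLike.val_smul]
  change r • (y : K) ∈ M ↔ r • g ⟨_, hay⟩ = 0
  rw [hg, ← Submodule.Quotient.mk_smul, Submodule.Quotient.mk_eq_zero]

theorem exists_assoc_le {M : Submodule A K} {y : sat A K I} {p : Ideal A}
    (hp : p ∈ ((M.comap (sat A K I).subtype).colon {y}).minimalPrimes) : p ∈ assoc K I M :=
  ⟨hp.1.1, Submodule.exists_eq_colon_of_mem_minimalPrimes hp⟩

theorem pow_smul_mem_of_minimal {M : Submodule A K} {q : Ideal A} [q.IsPrime]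
    (hmin : ∀ p ∈ assoc K I M, p ≤ q → p = q) (y : sat A K I) :
    ∃ n : ℕ, ∀ b ∈ q ^ n, ∃ c ∉ q, (c * b) • (y : K) ∈ M := by
  let 𝔟 := (M.comap (sat A K I).subtype).colon {y}
  let L := Localization.AtPrime q
  have hrad : q.map (algebraMap A L) ≤ (𝔟.map (algebraMap A L)).radical := by
    rw [Ideal.radical_eq_sInf]
    refine le_sInf fun P ⟨hP, hPp⟩ => ?_
    haveI := hPp
    have hb : 𝔟 ≤ P.comap (algebraMap A L) := Ideal.map_le_iff_le_comap.1 hP
    obtain ⟨p, hp, hpP⟩ := Ideal.exists_minimalPrimes_le hb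
    have hPq : P.comap (algebraMap A L) ≤ q := by
      refine (Ideal.comap_mono (IsLocalRing.le_maximalIdeal hPp.ne_top)).trans (le_of_eq ?_)
      exact IsLocalization.AtPrime.comap_maximalIdeal L q
    exact Ideal.map_le_iff_le_comap.2 ((hmin p (exists_assoc_le hp) (hpP.trans hPq)).ge.trans hpP)
  obtain ⟨n, hn⟩ := Ideal.exists_pow_le_of_le_radical_of_fg hrad (IsNoetherian.noetherian _)
  refine ⟨n, fun b hb => ?_⟩
  have h1 : algebraMap A L b ∈ 𝔟.map (algebraMap A L) := by
    refine hn ?_
    rw [← Ideal.map_pow]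
    exact Ideal.mem_map_of_mem _ hb
  obtain ⟨⟨⟨r, hr⟩, s⟩, hs⟩ := (IsLocalization.mem_map_algebraMap_iff q.primeCompl L).1 h1
  rw [← map_mul] at hs
  have := IsLocalization.injective L q.primeCompl_le_nonZeroDivisors hs
  refine ⟨s, s.2, ?_⟩
  rw [mul_comm, this]
  have h := Submodule.mem_colon_singleton.1 hr
  exact h

theorem exists_finset_saturating {M : Submodule A K} (hfg : M.FG) {q : Ideal A} [q.IsPrime]
    (hmin : ∀ p ∈ assoc K I M, p ≤ q → p = q)
    (L : Type u) [CommRing L] [IsDomain L] [IsNoetherianRing L] [IsLocalRing L] [Algebra A L]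
    [IsLocalization.AtPrime L q] [Algebra L K] [IsScalarTower A L K] [IsFractionRing L K]
    (hloc : (sat L K (IsLocalRing.maximalIdeal L)).FG) :
    ∃ t : Finset K, (t : Set K) ⊆ sat A K I ∧ ∀ y ∈ sat A K I, ∃ c ∉ q, c • y ∈ Submodule.span A (t : Set K) := by
  obtain ⟨d, hd⟩ : ∃ d : nonZeroDivisors A, ∀ m ∈ M, (d : A) • m ∈ base A K := by
    obtain ⟨s, hs⟩ := hfg
    obtain ⟨d, hd⟩ := IsLocalization.exist_integer_multiples_of_finset (nonZeroDivisors A) s
    refine ⟨d, fun m hm => ?_⟩
    rw [← hs] at hm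
    induction hm using Submodule.span_induction with
    | mem x hx =>
      obtain ⟨r, hr⟩ := hd x hx
      exact ⟨r, hr⟩
    | zero => rw [smul_zero]; exact zero_mem _
    | add x y _ _ hx hy => rw [smul_add]; exact add_mem hx hy
    | smul r x _ hx => rw [smul_comm]; exact Submodule.smul_mem _ _ hx
  have hd0 : algebraMap A K d ≠ 0 := IsFractionRing.to_map_ne_zero_of_mem_nonZeroDivisors d.2
  have hle : ∀ y ∈ sat A K I, (d : A) • y ∈ sat L K (IsLocalRing.maximalIdeal L) := by
    intro y hy
    obtain ⟨n, hn⟩ := pow_smul_mem_of_minimal hmin ⟨y, hy⟩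
    refine (mem_sat L K _).2 ⟨n, fun z hz => ?_⟩
    rw [← IsLocalization.AtPrime.map_eq_maximalIdeal q L, ← Ideal.map_pow] at hz
    obtain ⟨⟨⟨b, hb⟩, s⟩, hs⟩ := (IsLocalization.mem_map_algebraMap_iff q.primeCompl L).1 hz
    obtain ⟨c, hc, hcb⟩ := hn b hb
    obtain ⟨r, hr⟩ := mem_base_loc K (S := L) (hd _ hcb)
    have hu : IsUnit (algebraMap A L (c * (s : A))) := IsLocalization.map_units L (⟨c, hc⟩ * s : q.primeCompl)
    refine ⟨↑hu.unit⁻¹ * r, ?_⟩
    rw [Algebra.linearMap_apply] at hr ⊢
    have hk : algebraMap L K (algebraMap A L (c * (s : A))) * (z • (d : A) • y) = algebraMap L K r := by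
      rw [hr, Algebra.smul_def, Algebra.smul_def, Algebra.smul_def, Algebra.smul_def, ← mul_assoc, ← map_mul,
        map_mul (algebraMap A L), mul_assoc (algebraMap A L c), mul_comm _ z, hs, ← map_mul,
        ← IsScalarTower.algebraMap_apply]
      ring
    rw [map_mul, ← hk, ← mul_assoc, ← map_mul, IsUnit.val_inv_mul, map_one, one_mul]
  haveI : Module.Finite L (sat L K (IsLocalRing.maximalIdeal L)) := Module.Finite.iff_fg.2 hloc
  let S : Set K := (fun y => (d : A) • y) '' (sat A K I : Set K)
  have hS : (Submodule.span L S).FG := by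
    refine Submodule.FG.of_le hloc (Submodule.span_le.2 ?_)
    rintro _ ⟨y, hy, rfl⟩
    exact hle y hy
  obtain ⟨t', ht'S, ht'⟩ := (Submodule.fg_span_iff_fg_span_finset_subset S).1 hS
  classical
  choose! f hf using fun x (hx : x ∈ t') => ht'S hx
  refine ⟨t'.image f, fun x hx => ?_, fun y hy => ?_⟩
  · obtain ⟨z, hz, rfl⟩ := Finset.mem_image.1 hx
    exact (hf z hz).1
  · have h1 : (d : A) • y ∈ Submodule.span L (t' : Set K) := ht' ▸ Submodule.subset_span ⟨y, hy, rfl⟩
    obtain ⟨w, hw, z, hz⟩ := (IsLocalization.mem_span_iff (R := A) (S := L) q.primeCompl).1 h1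
    obtain ⟨⟨c, hc⟩, hct⟩ : ∃ z : q.primeCompl, (z : A) • ((d : A) • y) ∈ Submodule.span A (t' : Set K) :=
      ⟨z, by
        rw [hz, ← smul_assoc, IsLocalization.smul_mk'_one, IsLocalization.mk'_self, one_smul]
        exact hw⟩
    refine ⟨c, hc, ?_⟩
    have h2 : (d : A) • (c • y) ∈ (Submodule.span A ((t'.image f : Finset K) : Set K)).map
        ((d : A) • LinearMap.id : K →ₗ[A] K) := by
      rw [Submodule.map_span, smul_comm]
      refine Submodule.span_mono ?_ hct
      intro x hx
      exact ⟨f x, Finset.mem_image_of_mem f hx, (hf x hx).2⟩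
    obtain ⟨w, hw, hwe⟩ := h2
    have : w = c • y := by
      change (d : A) • w = (d : A) • (c • y) at hwe
      simp only [Algebra.smul_def] at hwe ⊢
      exact mul_left_cancel₀ hd0 hwe
    exact this ▸ hw

theorem sat_fg (hI : I ≠ ⊥)
    (hloc : ∀ (q : Ideal A) [q.IsPrime], I ≤ q → ∃ (L : Type u) (_ : CommRing L) (_ : IsDomain L)
      (_ : IsNoetherianRing L) (_ : IsLocalRing L) (_ : Algebra A L) (_ : IsLocalization.AtPrime L q),
      Module.Finite L (LocCoh.H (IsLocalRing.maximalIdeal L) 1 L)) :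
    (sat A K I).FG := by
  suffices H : ∀ (J : Ideal A) (M : Submodule A K), M.FG → base A K ≤ M → M ≤ sat A K I →
      (∀ p ∈ assoc K I M, J ≤ p) → (sat A K I).FG by
    refine H ⊥ (base A K) ?_ le_rfl (base_le_sat A K I) fun _ _ => bot_le
    rw [base, LinearMap.range_eq_map]
    exact Module.Finite.fg_top.map _
  intro J
  induction J using WellFoundedGT.induction with
  | ind J ih =>
    intro M hfg hbM hMs hJ
    rcases (assoc K I M).eq_empty_or_nonempty with he | hne
    · have : sat A K I ≤ M := fun y hy => by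
        by_contra hyM
        have hb : (M.comap (sat A K I).subtype).colon {⟨y, hy⟩} ≠ ⊤ := fun h =>
          hyM (by simpa using Submodule.mem_colon_singleton.1 (h.ge (Submodule.mem_top : (1 : A) ∈ _)))
        obtain ⟨p, hp⟩ := Ideal.nonempty_minimalPrimes hb
        exact (Set.eq_empty_iff_forall_notMem.1 he p) (exists_assoc_le hp)
      exact le_antisymm this hMs ▸ hfg
    · classical
      have hfin := finite_assoc hI hbM hfg
      obtain ⟨q, hq, hqmin⟩ := hfin.exists_minimal hne
      haveI := hq.1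
      let T := hfin.toFinset
      let Δ : Ideal A := T.inf id
      obtain ⟨L, iL, iD, iN, iLo, iA, iLoc, hL⟩ := hloc q (le_of_mem_assoc hbM hq)
      letI : Algebra L K :=
        (IsLocalization.lift (M := q.primeCompl) (g := algebraMap A K) fun y =>
          IsUnit.mk0 _ fun h => y.2 (by
            rw [(IsFractionRing.injective A K).eq_iff' (map_zero _)] at h
            exact h ▸ q.zero_mem)).toAlgebra
      haveI : IsScalarTower A L K :=
        IsScalarTower.of_algebraMap_eq fun x => (IsLocalization.lift_eq _ x).symm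
      haveI : IsFractionRing L K :=
        IsFractionRing.isFractionRing_of_isDomain_of_isLocalization q.primeCompl _ _
      have hm : IsLocalRing.maximalIdeal L ≠ ⊥ := fun h => by
        refine hI (eq_bot_iff.2 fun x hx => ?_)
        have := Ideal.mem_map_of_mem (algebraMap A L) (le_of_mem_assoc hbM hq hx)
        rw [IsLocalization.AtPrime.map_eq_maximalIdeal q, h, Ideal.mem_bot] at this
        exact (IsLocalization.injective L q.primeCompl_le_nonZeroDivisors).eq_iff' (map_zero _) |>.1 this
      obtain ⟨t, hts, htq⟩ := exists_finset_saturating hfg (fun p hp hle => le_antisymm hle (hqmin hp hle))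
        L ((finite_H1_iff L K _ hm).1 hL)
      let M' := M ⊔ Submodule.span A (t : Set K)
      have hge : ∀ p ∈ assoc K I M', Δ ≤ p := by
        rintro p ⟨hp, y, rfl⟩
        obtain ⟨p0, hp0, hp0le⟩ := Ideal.exists_minimalPrimes_le
          (show (M.comap (sat A K I).subtype).colon {y} ≤ (M'.comap (sat A K I).subtype).colon {y} from
            Submodule.colon_mono (Submodule.comap_mono le_sup_left) le_rfl)
        exact le_trans (Finset.inf_le (hfin.mem_toFinset.2 (exists_assoc_le hp0))) hp0le
      have hJΔ : J ≤ Δ := Finset.le_inf fun p hp => hJ p (hfin.mem_toFinset.1 hp)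
      rcases (assoc K I M').eq_empty_or_nonempty with he' | hne'
      · have : sat A K I ≤ M' := fun y hy => by
          by_contra hyM
          have hb : (M'.comap (sat A K I).subtype).colon {⟨y, hy⟩} ≠ ⊤ := fun h =>
            hyM (by simpa using Submodule.mem_colon_singleton.1 (h.ge (Submodule.mem_top : (1 : A) ∈ _)))
          obtain ⟨p, hp⟩ := Ideal.nonempty_minimalPrimes hb
          exact (Set.eq_empty_iff_forall_notMem.1 he' p) (exists_assoc_le hp)
        exact le_antisymm this (sup_le hMs (Submodule.span_le.2 hts)) ▸ hfg.sup ⟨t, rfl⟩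
      have hfin' := finite_assoc hI (hbM.trans le_sup_left) (hfg.sup ⟨t, rfl⟩)
      let Δ' : Ideal A := hfin'.toFinset.inf id
      have hlt : J < Δ' := by
        refine lt_of_le_of_ne (hJΔ.trans (Finset.le_inf fun p hp => hge p (hfin'.mem_toFinset.1 hp))) fun he => ?_
        have hq' : Δ' ≤ q := he ▸ hJ q hq
        obtain ⟨p, hpT, hpq⟩ := hq.1.inf_le'.1 hq'
        have hp := hfin'.mem_toFinset.1 hpT
        obtain ⟨p0, hp0T, hp0p⟩ := hp.1.inf_le'.1 (hge p hp)
        have hp0 := hfin.mem_toFinset.1 hp0T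
        have e0 : p0 = q := le_antisymm (le_trans hp0p hpq) (hqmin hp0 (le_trans hp0p hpq))
        have hpe : p = q := le_antisymm hpq (e0 ▸ hp0p)
        subst hpe
        obtain ⟨-, y, hy⟩ := hp
        obtain ⟨c, hc, hcy⟩ := htq y y.2
        exact hc (hy ▸ Submodule.mem_colon_singleton.2 (Submodule.mem_sup_right hcy))
      exact ih Δ' hlt M' (hfg.sup ⟨t, rfl⟩) (hbM.trans le_sup_left) (sup_le hMs (Submodule.span_le.2 hts))
        fun p hp => Finset.inf_le (hfin'.mem_toFinset.2 hp)

theorem finite_H1 (hI : I ≠ ⊥)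
    (hloc : ∀ (q : Ideal A) [q.IsPrime], I ≤ q → ∃ (L : Type u) (_ : CommRing L) (_ : IsDomain L)
      (_ : IsNoetherianRing L) (_ : IsLocalRing L) (_ : Algebra A L) (_ : IsLocalization.AtPrime L q),
      Module.Finite L (LocCoh.H (IsLocalRing.maximalIdeal L) 1 L)) :
    Module.Finite A (LocCoh.H I 1 A) :=
  (finite_H1_iff A (FractionRing A) I hI).2 (sat_fg hI hloc)

end Local

end Groth.L04.H1Kollar
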