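import Mathlib.CategoryTheory.CofilteredSystem
import Mathlib.Algebra.Category.Grp.Limits
import Mathlib.Algebra.Category.Grp.Basic
import Mathlib.Tactic.Abel

/-!
# Inverse systems of abelian groups with the Mittag-Leffler condition
-/

set_option autoImplicit false
universe w u

open CategoryTheory CategoryTheory.Limits Opposite

namespace Groth.L04.MLSys

variable {ι : Type w} [Preorder ι]

/-- The transition map. -/
abbrev res (F : ιᵒᵖ ⥤ AddCommGrpCat.{u}) {i j : ι} (h : i ≤ j) : F.obj (op j) →+ F.obj (op i) :=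
  (F.map (homOfLE h).op).hom

theorem res_res (F : ιᵒᵖ ⥤ AddCommGrpCat.{u}) {i j k : ι} (h : i ≤ j) (h' : j ≤ k) (x : F.obj (op k)) :
    res F h (res F h' x) = res F (h.trans h') x := by
  show ((F.map (homOfLE h').op ≫ F.map (homOfLE h).op)).hom x = _
  rw [← F.map_comp]
  rfl

theorem res_refl (F : ιᵒᵖ ⥤ AddCommGrpCat.{u}) {i : ι} (x : F.obj (op i)) : res F (le_refl i) x = x := by
  show (F.map (𝟙 (op i))).hom x = x
  rw [F.map_id]; rfl

theorem res_app {A B : ιᵒᵖ ⥤ AddCommGrpCat.{u}} (u : A ⟶ B) {i j : ι} (h : i ≤ j) (x : A.obj (op j)) :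
    res B h ((u.app (op j)).hom x) = (u.app (op i)).hom (res A h x) :=
  (ConcreteCategory.congr_hom (u.naturality (homOfLE h).op) x).symm

/-- The Mittag-Leffler condition in elementary terms. -/
def Stab (F : ιᵒᵖ ⥤ AddCommGrpCat.{u}) (i k : ι) : Prop :=
  ∃ h : i ≤ k, ∀ m, ∀ hm : i ≤ m, ∀ x, ∃ y, res F hm y = res F h x

theorem Stab.mono {F : ιᵒᵖ ⥤ AddCommGrpCat.{u}} {i k k' : ι} (hs : Stab F i k) (h : k ≤ k') : Stab F i k' := by
  obtain ⟨hik, H⟩ := hs
  refine ⟨hik.trans h, fun m hm x => ?_⟩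
  obtain ⟨y, hy⟩ := H m hm (res F h x)
  exact ⟨y, hy.trans (res_res F _ _ x)⟩

theorem isML_iff [IsDirected ι (· ≤ ·)] (F : ιᵒᵖ ⥤ AddCommGrpCat.{u}) :
    (F ⋙ forget AddCommGrpCat).IsMittagLeffler ↔ ∀ i, ∃ k, Stab F i k := by
  constructor
  · intro hF i
    obtain ⟨⟨k⟩, f, hf⟩ := hF (op i)
    refine ⟨k, leOfHom f.unop, fun m hm x => ?_⟩
    obtain ⟨y, hy⟩ := hf (homOfLE hm).op ⟨x, rfl⟩
    exact ⟨y, hy⟩
  · intro h ⟨i⟩
    obtain ⟨k, hik, hk⟩ := h i
    refine ⟨op k, (homOfLE hik).op, ?_⟩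
    rintro ⟨m⟩ g _ ⟨x, rfl⟩
    obtain ⟨y, hy⟩ := hk m (leOfHom g.unop) x
    exact ⟨y, hy⟩

/-- A compatible family along a chain with surjective transition maps. -/
theorem exists_seq {E : ℕ → Type u} (P : ∀ n, E n → Prop) (t : ∀ n, E (n + 1) → E n)
    (hs : ∀ n x, P n x → ∃ y, P (n + 1) y ∧ t n y = x) (x₀ : E 0) (h₀ : P 0 x₀) :
    ∃ b : ∀ n, E n, b 0 = x₀ ∧ (∀ n, P n (b n)) ∧ ∀ n, t n (b (n + 1)) = b n := by
  choose g hg1 hg2 using hs
  let b : ∀ n, {x : E n // P n x} := fun n =>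
    Nat.rec (motive := fun n => {x : E n // P n x}) ⟨x₀, h₀⟩ (fun n x => ⟨g n x.1 x.2, hg1 n x.1 x.2⟩) n
  exact ⟨fun n => (b n).1, rfl, fun n => (b n).2, fun n => hg2 n _ _⟩

/-- A monotone cofinal sequence. -/
theorem exists_chain [Nonempty ι] [IsDirected ι (· ≤ ·)] (hcof : ∃ s : Set ι, s.Countable ∧ ∀ i, ∃ j ∈ s, i ≤ j) (i₀ : ι) :
    ∃ c : ℕ → ι, i₀ ≤ c 0 ∧ Monotone c ∧ ∀ i, ∃ n, i ≤ c n := by
  obtain ⟨s, hs, hcof⟩ := hcof
  obtain ⟨j₀, hj₀, -⟩ := hcof i₀
  obtain ⟨f, hf⟩ := hs.exists_eq_range ⟨j₀, hj₀⟩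
  choose up h1 h2 using fun a b : ι => exists_ge_ge a b
  let c : ℕ → ι := fun n => Nat.rec (motive := fun _ => ι) i₀ (fun n x => up x (f n)) n
  refine ⟨c, le_rfl, monotone_nat_of_le_succ fun n => h1 _ _, fun i => ?_⟩
  obtain ⟨j, hj, hij⟩ := hcof i
  rw [hf] at hj
  obtain ⟨n, rfl⟩ := hj
  exact ⟨n + 1, hij.trans (h2 (c n) (f n))⟩

/-- Compatible lifts exist when the fibre differences form a Mittag-Leffler system. -/
theorem exists_lift [Nonempty ι] [IsDirected ι (· ≤ ·)] (hcof : ∃ s : Set ι, s.Countable ∧ ∀ i, ∃ j ∈ s, i ≤ j)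
    {A B C : ιᵒᵖ ⥤ AddCommGrpCat.{u}} (a : A ⟶ B) (b : B ⟶ C)
    (hex : ∀ i, (b.app i).hom.ker = (a.app i).hom.range) (hA : (A ⋙ forget AddCommGrpCat).IsMittagLeffler)
    (z : ∀ i, C.obj (op i)) (hz : ∀ i j (h : i ≤ j), res C h (z j) = z i)
    (hmem : ∀ i, ∃ y, (b.app (op i)).hom y = z i) :
    ∃ x : ∀ i, B.obj (op i), (∀ i j (h : i ≤ j), res B h (x j) = x i) ∧ ∀ i, (b.app (op i)).hom (x i) = z i := by
  rw [isML_iff] at hA
  have hba : ∀ i x, (b.app i).hom ((a.app i).hom x) = 0 := fun i x => by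
    rw [← AddMonoidHom.mem_ker, hex]; exact ⟨x, rfl⟩
  -- good elements: those coming from every later fibre
  let P : ∀ i, B.obj (op i) → Prop := fun i x => ∀ m (hm : i ≤ m), ∃ y, (b.app (op m)).hom y = z m ∧ res B hm y = x
  have himg : ∀ i k (hs : Stab A i k) (y : B.obj (op k)), (b.app (op k)).hom y = z k → P i (res B hs.choose y) := by
    intro i k hs y hy m hm
    obtain ⟨hik, H⟩ := id hs
    obtain ⟨l, hkl, hml⟩ := exists_ge_ge k m
    obtain ⟨y', hy'⟩ := hmem l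
    have hd : res B hkl y' - y ∈ (b.app (op k)).hom.ker := by
      rw [AddMonoidHom.mem_ker, map_sub, hy, ← res_app, hy', hz, sub_self]
    rw [hex] at hd
    obtain ⟨α, hα⟩ := hd
    obtain ⟨α', hα'⟩ := H m hm α
    refine ⟨res B hml y' - (a.app (op m)).hom α', ?_, ?_⟩
    · rw [map_sub, hba, sub_zero, ← res_app, hy', hz]
    · rw [map_sub, res_app a hm α', hα', ← res_app a hik α, hα, map_sub, res_res, res_res]
      abel
  have hne : ∀ i, ∃ x, P i x := fun i => by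
    obtain ⟨k, hk⟩ := hA i
    obtain ⟨y, hy⟩ := hmem k
    exact ⟨_, himg i k hk y hy⟩
  have hsur : ∀ i l (hil : i ≤ l) x, P i x → ∃ x', P l x' ∧ res B hil x' = x := fun i l hil x hx => by
    obtain ⟨k, hk⟩ := hA l
    obtain ⟨y, hy, rfl⟩ := hx k (hil.trans hk.choose)
    exact ⟨_, himg l k hk y hy, res_res B _ _ y⟩
  obtain ⟨c, -, hmono, hc⟩ := exists_chain hcof (Classical.arbitrary ι)
  obtain ⟨x₀, hx₀⟩ := hne (c 0)
  obtain ⟨x, -, hxP, hxc⟩ := exists_seq (fun n => P (c n)) (fun n => res B (hmono n.le_succ))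
    (fun n x hx => hsur _ _ _ x hx) x₀ hx₀
  have hchain : ∀ n m (h : n ≤ m), res B (hmono h) (x m) = x n := by
    intro n m h
    induction m, h using Nat.le_induction with
    | base => exact res_refl B _
    | succ m h ih => rw [← ih, ← hxc m, res_res]
  choose N hN using hc
  have hindep : ∀ i n (h : i ≤ c n), res B h (x n) = res B (hN i) (x (N i)) := fun i n h => by
    rw [← hchain n (max n (N i)) (le_max_left _ _), ← hchain (N i) (max n (N i)) (le_max_right _ _), res_res, res_res]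
  refine ⟨fun i => res B (hN i) (x (N i)), fun i j h => ?_, fun i => ?_⟩
  · show res B h (res B (hN j) (x (N j))) = _
    rw [res_res, hindep]
  · obtain ⟨y, hy, hy'⟩ := hxP (N i) (c (N i)) le_rfl
    rw [res_refl] at hy'
    show (b.app (op i)).hom (res B (hN i) (x (N i))) = z i
    rw [← hy', ← res_app, hy, hz]

/-- An element of the limit from a compatible family. -/
theorem exists_limit (F : ιᵒᵖ ⥤ AddCommGrpCat.{u}) [HasLimit F] (x : ∀ i, F.obj (op i)) (hx : ∀ i j (h : i ≤ j), res F h (x j) = x i) :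
    ∃ l : (limit F : AddCommGrpCat.{u}), ∀ i, (limit.π F (op i)).hom l = x i := by
  let c : Cone F :=
    { pt := AddCommGrpCat.of (ULift.{u} ℤ)
      π :=
        { app := fun i => AddCommGrpCat.ofHom ((zmultiplesHom _ (x i.unop)).comp AddEquiv.ulift.toAddMonoidHom)
          naturality := fun i j f => by
            refine ConcreteCategory.hom_ext _ _ fun n => ?_
            show (n.down : ℤ) • x j.unop = (F.map f).hom (n.down • x i.unop)
            rw [map_zsmul, ← hx j.unop i.unop (leOfHom f.unop)]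
            rfl } }
  refine ⟨(limit.lift F c).hom ⟨1⟩, fun i => ?_⟩
  show (limit.lift F c ≫ limit.π F (op i)).hom ⟨1⟩ = _
  rw [limit.lift_π]
  show (1 : ℤ) • x i = x i
  exact one_zsmul _

theorem res_limit (F : ιᵒᵖ ⥤ AddCommGrpCat.{u}) [HasLimit F] (l : (limit F : AddCommGrpCat.{u})) {i j : ι} (h : i ≤ j) :
    res F h ((limit.π F (op j)).hom l) = (limit.π F (op i)).hom l :=
  ConcreteCategory.congr_hom (limit.w F (homOfLE h).op) l

end Groth.L04.MLSys
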