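import Groth.Prelude.Def_DualLC
import Mathlib.RingTheory.Length
import Mathlib.RingTheory.SimpleModule.Basic

/-!
# Independent families of elements
-/

universe u

namespace Groth.L04

variable {A : Type u} [CommRing A] {r : ℕ} (f : Fin r → A) (i : Fin r) (g : A)

theorem sum_update_eq (b : Fin r → A) (v : A) :
    ∑ j, b j * Function.update f i v j = ∑ j, b j * f j + b i * (v - f i) := by
  classical
  rw [← sub_eq_iff_eq_add', ← Finset.sum_sub_distrib, Finset.sum_eq_single i]
  · rw [Function.update_self, mul_sub]
  · intro j _ hj; rw [Function.update_of_ne hj, sub_self]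
  · simp

theorem sum_update_left (b G : Fin r → A) (v : A) :
    ∑ j, Function.update b i v j * G j = ∑ j, b j * G j + (v - b i) * G i := by
  classical
  rw [← sub_eq_iff_eq_add', ← Finset.sum_sub_distrib, Finset.sum_eq_single i]
  · rw [Function.update_self, sub_mul]
  · intro j _ hj; rw [Function.update_of_ne hj, sub_self]
  · simp

theorem span_update_mul_le_left :
    Ideal.span (Set.range (Function.update f i (f i * g))) ≤ Ideal.span (Set.range f) := by
  rw [Ideal.span_le]
  rintro _ ⟨j, rfl⟩
  rcases eq_or_ne j i with rfl | h
  · rw [Function.update_self]; exact Ideal.mul_mem_right g _ (Ideal.subset_span (Set.mem_range_self j))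
  · rw [Function.update_of_ne h]; exact Ideal.subset_span (Set.mem_range_self j)

theorem span_update_mul_le_right :
    Ideal.span (Set.range (Function.update f i (f i * g))) ≤
      Ideal.span (Set.range (Function.update f i g)) := by
  rw [Ideal.span_le]
  rintro _ ⟨j, rfl⟩
  rcases eq_or_ne j i with rfl | h
  · rw [Function.update_self]
    exact Ideal.mul_mem_left _ (f j) (Ideal.subset_span ⟨j, Function.update_self _ _ _⟩)
  · rw [Function.update_of_ne h]
    exact Ideal.subset_span ⟨j, Function.update_of_ne h _ _⟩

variable {f i g} (h : Dual2.Independent (Function.update f i (f i * g)))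

include h

theorem independent_of_update_mul : Dual2.Independent f := by
  classical
  intro a ha
  set F := Function.update f i (f i * g) with hF
  have hle := span_update_mul_le_left f i g
  have h1 : a i ∈ Ideal.span (Set.range F) := by
    have := h (Function.update (fun j => g * a j) i (a i)) (by
      rw [← mul_zero g, ← ha, Finset.mul_sum]
      refine Finset.sum_congr rfl fun j _ => ?_
      rcases eq_or_ne j i with rfl | hne
      · rw [Function.update_self, hF, Function.update_self]; ring
      · rw [Function.update_of_ne hne, hF, Function.update_of_ne hne]; ring) i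
    rwa [Function.update_self] at this
  obtain ⟨c, hc⟩ := Ideal.mem_span_range_iff_exists_fun.1 h1
  have h2 := h (Function.update (fun j => a j + c j * f i) i (c i * f i)) (by
    rw [hF, sum_update_eq] at hc
    rw [sum_update_eq, Function.update_self, sum_update_left]
    simp only [add_mul, Finset.sum_add_distrib, ha, mul_right_comm _ (f i), ← Finset.sum_mul]
    linear_combination f i * hc)
  intro j
  rcases eq_or_ne j i with rfl | hne
  · exact hle h1
  · have := hle (h2 j)
    rw [Function.update_of_ne hne] at this
    exact (Ideal.add_mem_iff_left _ (Ideal.mul_mem_left _ _ (Ideal.subset_span (Set.mem_range_self i)))).1 this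

theorem length_update_mul :
    Module.length A (A ⧸ Ideal.span (Set.range (Function.update f i (f i * g)))) =
      Module.length A (A ⧸ Ideal.span (Set.range f)) +
        Module.length A (A ⧸ Ideal.span (Set.range (Function.update f i g))) := by
  classical
  set F := Function.update f i (f i * g) with hF
  let μ : (A ⧸ Ideal.span (Set.range (Function.update f i g))) →ₗ[A] A ⧸ Ideal.span (Set.range F) :=
    Submodule.mapQ _ _ (LinearMap.lsmul A A (f i)) (by
      rw [Submodule.span_le]
      rintro _ ⟨j, rfl⟩
      show f i * Function.update f i g j ∈ Ideal.span (Set.range F)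
      rcases eq_or_ne j i with rfl | hne
      · rw [Function.update_self]
        exact Ideal.subset_span ⟨j, Function.update_self _ _ _⟩
      · rw [Function.update_of_ne hne]
        exact Ideal.mul_mem_left _ _ (Ideal.subset_span ⟨j, Function.update_of_ne hne _ _⟩))
  let π : (A ⧸ Ideal.span (Set.range F)) →ₗ[A] A ⧸ Ideal.span (Set.range f) :=
    Submodule.factor (span_update_mul_le_left f i g)
  rw [Module.length_eq_add_of_exact μ π ?_ (Submodule.factor_surjective _) ?_, add_comm]
  · rw [← LinearMap.ker_eq_bot, eq_bot_iff]
    intro x hx
    obtain ⟨y, rfl⟩ := Submodule.mkQ_surjective _ x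
    rw [Submodule.mem_bot, Submodule.mkQ_apply, Submodule.Quotient.mk_eq_zero]
    have hx' : f i * y ∈ Ideal.span (Set.range F) := (Submodule.Quotient.mk_eq_zero _).1 hx
    obtain ⟨c, hc⟩ := Ideal.mem_span_range_iff_exists_fun.1 hx'
    have := h (Function.update (fun j => g * c j) i (c i * g - y)) (by
      have e : ∑ j, Function.update (fun j => g * c j) i (c i * g - y) j * F j =
          g * ∑ j, c j * F j - y * F i := by
        rw [sum_update_left, Finset.mul_sum]
        simp only [mul_assoc]; ring
      rw [e, hc, hF, Function.update_self]; ring) i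
    rw [Function.update_self] at this
    refine (Submodule.sub_mem_iff_right _ (Ideal.mul_mem_left _ (c i) (Ideal.subset_span ?_))).1
      (span_update_mul_le_right f i g this)
    exact ⟨i, Function.update_self _ _ _⟩
  · intro z
    refine ⟨fun hz => ?_, ?_⟩
    · obtain ⟨x, rfl⟩ := Submodule.mkQ_surjective _ z
      have hx : x ∈ Ideal.span (Set.range f) := (Submodule.Quotient.mk_eq_zero _).1 hz
      obtain ⟨c, hc⟩ := Ideal.mem_span_range_iff_exists_fun.1 hx
      refine ⟨Submodule.Quotient.mk (c i), ?_⟩
      show Submodule.Quotient.mk (f i * c i) = Submodule.Quotient.mk x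
      rw [Submodule.Quotient.eq, ← hc]
      have hmem : ∑ j, Function.update c i 0 j * F j ∈ Ideal.span (Set.range F) :=
        Ideal.sum_mem _ fun j _ => Ideal.mul_mem_left _ _ (Ideal.subset_span (Set.mem_range_self j))
      convert neg_mem hmem using 1
      rw [sum_update_left, sum_update_eq, hF, Function.update_self]
      ring
    · rintro ⟨w, rfl⟩
      obtain ⟨y, rfl⟩ := Submodule.mkQ_surjective _ w
      exact (Submodule.Quotient.mk_eq_zero _).2
        (Ideal.mul_mem_right _ _ (Ideal.subset_span (Set.mem_range_self i)))

end Groth.L04
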