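import Groth.Agent.L04.InjNoeth
import Mathlib.RingTheory.LocalProperties.Injective
import Mathlib.Algebra.Module.LocalizedModule.Submodule

/-!
# Injective hulls and localisation, quotient rings
-/

universe u v

namespace Groth.L04

open InjHull

variable {R : Type u} [CommRing R] [IsNoetherianRing R] (S : Submonoid R)
variable {M : Type v} [AddCommGroup M] [Module R M]

theorem localized_essential_aux (N : Submodule R M)
    (hN : ∀ x : M, x ≠ 0 → ∃ r : R, r • x ∈ N ∧ r • x ≠ 0) (x : LocalizedModule S M) (hx : x ≠ 0) :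
    ∃ a : R, ∃ n ∈ N, a • x = LocalizedModule.mkLinearMap S M n ∧ a • x ≠ 0 := by
  obtain ⟨⟨m, s⟩, rfl⟩ := IsLocalizedModule.mk'_surjective S (LocalizedModule.mkLinearMap S M) x
  simp only [Function.uncurry_apply_pair] at hx ⊢
  set φ := LocalizedModule.mkLinearMap S M
  have hm : φ m ≠ 0 := fun h0 => hx (by
    rw [IsLocalizedModule.mk'_eq_iff (S := S) (f := φ)]
    simpa using h0)
  obtain ⟨_, ⟨t, rfl⟩, hmax⟩ := set_has_maximal_iff_noetherian.2 (inferInstance : IsNoetherian R R)
    {J : Ideal R | ∃ t : S, J = (⊥ : Submodule R M).colon {(t : R) • m}}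
    ⟨_, (1 : S), rfl⟩
  have hm' : φ ((t : R) • m) ≠ 0 := fun h0 => hm (by
    rw [map_smul] at h0
    apply ((Module.End.isUnit_iff _).1 (IsLocalizedModule.map_units φ t)).1
    simpa using h0)
  suffices h : ∃ r : R, r • (t : R) • m ∈ N ∧ φ (r • (t : R) • m) ≠ 0 by
    obtain ⟨r, hr, hr0⟩ := h
    have hs : (s : R) • IsLocalizedModule.mk' φ m s = φ m := (Submonoid.smul_def s _).symm.trans (IsLocalizedModule.mk'_cancel' φ m s)
    refine ⟨r * (t : R) * (s : R), _, hr, ?_, ?_⟩
    · rw [mul_smul, mul_smul, hs, map_smul, map_smul]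
    · rw [mul_smul, mul_smul, hs, ← map_smul, ← map_smul]
      exact hr0
  by_contra hcon
  push Not at hcon
  let J : Ideal R := N.comap (LinearMap.toSpanSingleton R M ((t : R) • m))
  obtain ⟨gs, hgs⟩ := J.fg_of_isNoetherianRing
  have hgen : ∀ r ∈ gs, ∃ c : S, (c : R) • r • (t : R) • m = 0 := fun r hr => by
    have h1 : r ∈ J := hgs.le (Submodule.subset_span hr)
    obtain ⟨c, hc⟩ := (IsLocalizedModule.eq_zero_iff S φ).1 (hcon r h1)
    exact ⟨c, hc⟩
  choose c hc using hgen
  let C : S := ∏ r ∈ gs.attach, c r.1 r.2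
  have hJ : J ≤ (⊥ : Submodule R M).colon {((C * t : S) : R) • m} := by
    rw [← hgs, Ideal.span_le]
    intro r hr
    obtain ⟨d, hd⟩ : c r hr ∣ C :=
      Finset.dvd_prod_of_mem (fun r : gs => c r.1 r.2) (Finset.mem_attach gs ⟨r, hr⟩)
    rw [SetLike.mem_coe, Submodule.mem_colon_singleton, Submodule.mem_bot, hd]
    have := congrArg (fun z => (d : R) • z) (hc r hr)
    simp only [smul_zero] at this
    rw [← this]
    simp only [Submonoid.coe_mul, smul_smul]
    congr 1
    ring
  have hle : (⊥ : Submodule R M).colon {(t : R) • m} ≤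
      (⊥ : Submodule R M).colon {((C * t : S) : R) • m} := fun r hr => by
    simp only [Submodule.mem_colon_singleton, Submodule.mem_bot] at hr ⊢
    rw [Submonoid.coe_mul, mul_smul, smul_comm, hr, smul_zero]
  have heq := eq_of_le_of_not_lt hle (hmax _ ⟨C * t, rfl⟩)
  obtain ⟨r, hr, hr0⟩ := hN ((t : R) • m) (fun h0 => hm' (by rw [h0, map_zero]))
  have : r ∈ (⊥ : Submodule R M).colon {(t : R) • m} := heq ▸ hJ hr
  exact hr0 (by simpa [Submodule.mem_colon_singleton] using this)

theorem isInjectiveHull_localizedModule {R : Type u} [CommRing R] [IsNoetherianRing R]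
    (S : Submonoid R) {M E : Type u} [AddCommGroup M] [Module R M] [AddCommGroup E] [Module R E]
    {f : M →ₗ[R] E} (hf : IsInjectiveHull f) :
    IsInjectiveHull (LocalizedModule.map S f) := by
  have := hf.isInjective
  refine ⟨isEssentialInj_of_smul (LocalizedModule.map_injective S f hf.injective) fun x hx => ?_,
    Module.injective_of_isLocalizedModule S (LocalizedModule.mkLinearMap S E)⟩
  obtain ⟨a, n, ⟨m, rfl⟩, ha, ha0⟩ := localized_essential_aux S (LinearMap.range f)
    (fun y hy => smul_of_isEssentialInj hf.toIsEssentialInj y hy) x hx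
  refine ⟨algebraMap R (Localization S) a, ⟨LocalizedModule.mkLinearMap S M m, ?_⟩, ?_⟩
  · rw [algebraMap_smul, ha, LocalizedModule.mkLinearMap_apply, LocalizedModule.map_mk]
    rfl
  · rwa [algebraMap_smul]

theorem mem_torsion_of_isInjectiveHull {R E M : Type u} [CommRing R] [IsNoetherianRing R]
    [AddCommGroup E] [Module R E] [AddCommGroup M] [Module R M] {f : M →ₗ[R] E}
    (hf : IsInjectiveHull f) {J : Ideal R} (hM : LocCoh.IsPowerTorsion J M) :
    LocCoh.IsPowerTorsion J E := by
  have hle : LinearMap.range f ≤ powTorsion J E := by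
    rintro _ ⟨m, rfl⟩
    obtain ⟨n, hn⟩ := hM m
    exact mem_powTorsion.2 ⟨n, fun a ha => by rw [← map_smul, hn a ha, map_zero]⟩
  have hess : IsEssentialInj (powTorsion J E).subtype := by
    refine isEssentialInj_of_smul (Submodule.injective_subtype _) fun x hx => ?_
    obtain ⟨r, hr, hr0⟩ := smul_of_isEssentialInj hf.toIsEssentialInj x hx
    exact ⟨r, ⟨⟨r • x, hle hr⟩, rfl⟩, hr0⟩
  have htop := eq_top_of_essential_injective _ hess (injective_powTorsion hf.isInjective J)
  exact fun x => mem_powTorsion.1 (htop.ge trivial)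

theorem isPowerTorsion_quotient_self {R : Type u} [CommRing R] (p : Ideal R) :
    LocCoh.IsPowerTorsion p (R ⧸ p) := fun x => ⟨1, fun a ha => by
  obtain ⟨b, rfl⟩ := Ideal.Quotient.mk_surjective x
  rw [pow_one] at ha
  rw [Algebra.smul_def, Ideal.Quotient.algebraMap_eq, Ideal.Quotient.eq_zero_iff_mem.2 ha,
    zero_mul]⟩

theorem smul_bijective_of_isInjectiveHull_quotient {R E : Type u} [CommRing R] [AddCommGroup E]
    [Module R E] (p : Ideal R) [p.IsPrime] {f : (R ⧸ p) →ₗ[R] E} (hf : IsInjectiveHull f) {s : R}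
    (hs : s ∉ p) : Function.Bijective (fun x : E => s • x) := by
  have hinj : Function.Injective (LinearMap.lsmul R E s) := by
    refine injective_of_comp_injective hf.toIsEssentialInj _ fun a b hab => ?_
    simp only [LinearMap.comp_apply, LinearMap.lsmul_apply, ← map_smul] at hab
    have h := hf.injective hab
    rw [Algebra.smul_def, Algebra.smul_def, Ideal.Quotient.algebraMap_eq] at h
    exact mul_left_cancel₀ (by rwa [Ne, Ideal.Quotient.eq_zero_iff_mem]) h
  refine ⟨hinj, ?_⟩
  obtain ⟨C, hC⟩ := exists_isCompl_of_injective _ (injective_range hf.isInjective hinj)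
  rcases (isIndecomposable_of_isEssentialInj hf.toIsEssentialInj
    (quotient_prime_uniform p)).2 _ C hC with h | h
  · exfalso
    have h1 : s • f 1 = 0 := by
      have : s • f 1 ∈ LinearMap.range (LinearMap.lsmul R E s) := ⟨_, rfl⟩
      rwa [h, Submodule.mem_bot] at this
    have h2 : (1 : R ⧸ p) = 0 := hf.injective (by
      apply hinj
      simpa using h1)
    exact one_ne_zero h2
  · exact LinearMap.range_eq_top.1 (eq_top_of_isCompl_bot (h ▸ hC))

end Groth.L04
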