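/-
Residues of Laurent series and finite extensions: the trace formula.
-/
import Groth.Agent.L26.Res.Local

set_option linter.style.haveILetI false
set_option backward.isDefEq.respectTransparency false
set_option backward.isDefEq.respectTransparency.types false

open WithZero
open scoped LaurentSeries

namespace Groth.L04.LocTrace

open Groth.Agent.Res
open Module (End)

/-- Scalars act on series through the algebra structure. -/
noncomputable local instance (priority := high) lauModule {k F : Type*} [Field k] [Field F] [Algebra k F] :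
    Module k F⸨X⸩ := Algebra.toModule

/-- Scalars act on series through the algebra structure. -/
noncomputable local instance (priority := high) lauSMul {k F : Type*} [Field k] [Field F] [Algebra k F] :
    SMul k F⸨X⸩ := Algebra.toSMul

variable {K L : Type*} [Field K] [Field L] [Algebra K L]

lemma algebraMap_lau (c : K) :
    algebraMap K L⸨X⸩ c = HahnSeries.C (algebraMap K L c) := by
  rw [HahnSeries.algebraMap_apply', PowerSeries.algebraMap_apply, HahnSeries.ofPowerSeries_C]

lemma C_mem_lau (a : L) : (HahnSeries.C a : L⸨X⸩) ∈ lau K L 0 := fun i hi => by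
  rw [HahnSeries.C_apply, HahnSeries.coeff_single_of_ne hi.ne]

lemma coe_mem_lau (G : PowerSeries L) : (G : L⸨X⸩) ∈ lau K L 0 := fun i hi => by
  rw [PowerSeries.coeff_coe, if_pos hi]

lemma eq_zero_of_forall_mem {d : L⸨X⸩} (h : ∀ n : ℕ, d ∈ lau K L (n : ℤ)) : d = 0 := by
  refine HahnSeries.ext (funext fun i => ?_)
  exact h (i + 1).toNat i (by omega)

lemma exists_split {g : L⸨X⸩} (hg : g ∈ lau K L 0) :
    ∃ g' ∈ lau K L 0, g = HahnSeries.C (g.coeff 0) + HahnSeries.single (1 : ℤ) (1 : L) * g' := by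
  refine ⟨HahnSeries.single (-1 : ℤ) (1 : L) * (g - HahnSeries.C (g.coeff 0)), fun i hi => ?_, ?_⟩
  · rw [HahnSeries.coeff_single_mul, one_mul, HahnSeries.coeff_sub, HahnSeries.C_apply]
    rcases eq_or_lt_of_le (show i - -1 ≤ 0 by omega) with h | h
    · rw [h, HahnSeries.coeff_single_same, sub_self]
    · rw [HahnSeries.coeff_single_of_ne h.ne, hg _ h, sub_zero]
  · rw [← mul_assoc, HahnSeries.single_mul_single, mul_one, show (1 : ℤ) + -1 = 0 by norm_num,
      show HahnSeries.single (0 : ℤ) (1 : L) = 1 from rfl, one_mul, add_sub_cancel]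

section Basis

variable (σ : K⸨X⸩ →+* L⸨X⸩) {r e : ℕ} (b : Module.Basis (Fin r) K L) (s : L⸨X⸩)

/-- The candidate basis. -/
noncomputable def zz (p : Fin r × Fin e) : L⸨X⸩ := HahnSeries.C (b p.1) * s ^ (p.2 : ℕ)

/-- The combination map. -/
noncomputable def comb (g : Fin r × Fin e → K⸨X⸩) : L⸨X⸩ := ∑ p, σ (g p) * zz b s p

variable {σ b s}
variable (hC : ∀ c, σ (HahnSeries.C c) = HahnSeries.C (algebraMap K L c))
  (hσ : ∀ g ∈ lau K K 0, σ g ∈ lau K L 0)
  (hπ : Valued.v (σ (HahnSeries.single (1 : ℤ) (1 : K))) = exp (-(e : ℤ))) (he : 1 ≤ e)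
  (hs : Valued.v s = exp (-1 : ℤ))

include hs in
lemma pow_mem (l : ℕ) : s ^ l ∈ lau K L (l : ℤ) := by
  rw [mem_lau_iff, map_pow, hs, ← exp_nsmul, nsmul_eq_mul, mul_neg, mul_one]

include hs in
lemma pow_coeff_ne (l : ℕ) : (s ^ l).coeff (l : ℤ) ≠ 0 := fun h0 => by
  have h1 : s ^ l ∈ lau L L ((l : ℤ) + 1) := fun i hi => by
    rcases eq_or_lt_of_le (show i ≤ (l : ℤ) by omega) with rfl | h
    · exact h0
    · exact pow_mem (K := L) hs l i h
  rw [mem_lau_iff, map_pow, hs, ← exp_nsmul, nsmul_eq_mul, mul_neg, mul_one, exp_le_exp] at h1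
  omega

include hs in
lemma exists_digits {f : L⸨X⸩} (hf : f ∈ lau K L 0) (j : ℕ) :
    ∃ a : ℕ → L, f - ∑ l ∈ Finset.range j, HahnSeries.C (a l) * s ^ l ∈ lau K L (j : ℤ) := by
  induction j with
  | zero => exact ⟨fun _ => 0, by simpa using hf⟩
  | succ j ih =>
    obtain ⟨a, ha⟩ := ih
    set d := f - ∑ l ∈ Finset.range j, HahnSeries.C (a l) * s ^ l
    refine ⟨Function.update a j (d.coeff j / (s ^ j).coeff j), fun i hi => ?_⟩
    rw [Finset.sum_range_succ, Function.update_self,
      Finset.sum_congr rfl fun l hl => by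
        rw [Function.update_of_ne (Finset.mem_range.1 hl).ne], ← sub_sub]
    show (d - HahnSeries.C (d.coeff j / (s ^ j).coeff j) * s ^ j).coeff i = 0
    rw [HahnSeries.coeff_sub, HahnSeries.C_mul_eq_smul, HahnSeries.coeff_smul, smul_eq_mul]
    rcases eq_or_lt_of_le (show i ≤ (j : ℤ) by omega) with rfl | h
    · rw [div_mul_cancel₀ _ (pow_coeff_ne hs j), sub_self]
    · rw [ha i h, pow_mem (K := K) hs j i h, mul_zero, sub_zero]

include hs in
lemma digits_unique {a : ℕ → L} {j : ℕ}
    (h : ∑ l ∈ Finset.range j, HahnSeries.C (a l) * s ^ l ∈ lau K L (j : ℤ)) :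
    ∀ l < j, a l = 0 := by
  intro l
  induction l using Nat.strong_induction_on with
  | _ l ih =>
    intro hl
    have h1 := h (l : ℤ) (by omega)
    rw [HahnSeries.coeff_sum, Finset.sum_eq_single l, HahnSeries.C_mul_eq_smul, HahnSeries.coeff_smul,
      smul_eq_mul, mul_eq_zero] at h1
    · exact h1.resolve_right (pow_coeff_ne hs l)
    · intro l' hl' hne
      rcases lt_or_gt_of_ne hne with h' | h'
      · rw [ih l' h' (Finset.mem_range.1 hl'), map_zero, zero_mul]
        rfl
      · rw [HahnSeries.C_mul_eq_smul, HahnSeries.coeff_smul,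
          pow_mem (K := K) hs l' (l : ℤ) (by omega), smul_zero]
    · intro h'
      exact absurd (Finset.mem_range.2 hl) h'

include hC in
lemma comb_C (c : Fin r × Fin e → K) (a : ℕ → L)
    (ha : ∀ l : Fin e, a (l : ℕ) = ∑ α, c (α, l) • b α) :
    comb σ b s (fun p => HahnSeries.C (c p)) = ∑ l ∈ Finset.range e, HahnSeries.C (a l) * s ^ l := by
  rw [comb, Fintype.sum_prod_type, Finset.sum_comm,
    ← Fin.sum_univ_eq_sum_range (fun l => HahnSeries.C (a l) * s ^ l) e]
  refine Finset.sum_congr rfl fun l _ => ?_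
  rw [ha, map_sum, Finset.sum_mul]
  refine Finset.sum_congr rfl fun α _ => ?_
  rw [hC, zz, Algebra.smul_def, map_mul, mul_assoc]

lemma comb_add (g h : Fin r × Fin e → K⸨X⸩) :
    comb σ b s (g + h) = comb σ b s g + comb σ b s h := by
  simp [comb, add_mul, Finset.sum_add_distrib]

lemma comb_mul (x : K⸨X⸩) (g : Fin r × Fin e → K⸨X⸩) :
    comb σ b s (fun p => x * g p) = σ x * comb σ b s g := by
  simp [comb, mul_assoc, Finset.mul_sum]

include hC in
lemma comb_smul (c : K) (g : Fin r × Fin e → K⸨X⸩) :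
    comb σ b s (c • g) = c • comb σ b s g := by
  rw [show c • g = fun p => algebraMap K K⸨X⸩ c * g p from funext fun p => Algebra.smul_def c (g p),
    comb_mul, Algebra.smul_def, algebraMap_lau, algebraMap_lau, hC, Algebra.algebraMap_self_apply]

include hσ hs in
lemma comb_mem {g : Fin r × Fin e → K⸨X⸩} (hg : ∀ p, g p ∈ lau K K 0) :
    comb σ b s g ∈ lau K L 0 := by
  refine sum_mem fun p _ => ?_
  have h1 := mul_mem_lau (hσ _ (hg p))
    (mul_mem_lau (C_mem_lau (K := K) (b p.1)) (pow_mem (K := K) hs (p.2 : ℕ)))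
  exact lau_mono (by omega) h1

include hC hπ hs in
lemma exists_step {f : L⸨X⸩} (hf : f ∈ lau K L 0) :
    ∃ (c : Fin r × Fin e → K) (f' : L⸨X⸩), f' ∈ lau K L 0 ∧
      f = comb σ b s (fun p => HahnSeries.C (c p)) + σ (HahnSeries.single (1 : ℤ) (1 : K)) * f' := by
  obtain ⟨a, ha⟩ := exists_digits (K := K) hs hf e
  set π := σ (HahnSeries.single (1 : ℤ) (1 : K))
  have hπ0 : π ≠ 0 := fun h0 => by rw [h0, map_zero] at hπ; exact (exp_ne_zero hπ.symm).elim
  set R := f - ∑ l ∈ Finset.range e, HahnSeries.C (a l) * s ^ l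
  refine ⟨fun p => b.repr (a (p.2 : ℕ)) p.1, R / π, ?_, ?_⟩
  · rw [mem_lau_iff, neg_zero, exp_zero, map_div₀, hπ, div_le_one₀ exp_pos]
    exact mem_lau_iff.1 ha
  · rw [comb_C hC _ a (fun l => (b.sum_repr (a (l : ℕ))).symm), mul_div_cancel₀ _ hπ0,
      add_sub_cancel]

include hC hπ hs hσ he in
lemma exists_comb {f : L⸨X⸩} (hf : f ∈ lau K L 0) :
    ∃ g : Fin r × Fin e → K⸨X⸩, (∀ p, g p ∈ lau K K 0) ∧ comb σ b s g = f := by
  have hstep := fun f : lau K L 0 => exists_step hC hπ hs (b := b) f.2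
  choose c f' hf' heq using hstep
  let next : lau K L 0 → lau K L 0 := fun f => ⟨f' f, hf' f⟩
  let seq : ℕ → lau K L 0 := fun n => next^[n] ⟨f, hf⟩
  let G : ℕ → Fin r × Fin e → K⸨X⸩ := fun n p =>
    ((PowerSeries.mk fun m => c (seq (n + m)) p : PowerSeries K) : K⸨X⸩)
  set π := σ (HahnSeries.single (1 : ℤ) (1 : K))
  have hGmem : ∀ n p, G n p ∈ lau K K 0 := fun n p => coe_mem_lau _
  have hG : ∀ n, G n = (fun p => HahnSeries.C (c (seq n) p)) +
      fun p => HahnSeries.single (1 : ℤ) (1 : K) * G (n + 1) p := by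
    intro n
    funext p
    have e1 : (PowerSeries.mk fun m => c (seq (n + m)) p) =
        PowerSeries.C (c (seq n) p) + PowerSeries.X * PowerSeries.mk fun m => c (seq (n + 1 + m)) p := by
      ext m
      rcases m with _ | m
      · simp
      · simp [PowerSeries.coeff_succ_X_mul, Nat.add_assoc, Nat.add_comm 1 m]
    show (((PowerSeries.mk fun m => c (seq (n + m)) p) : PowerSeries K) : K⸨X⸩) = _
    rw [e1, PowerSeries.coe_add, PowerSeries.coe_mul, PowerSeries.coe_C, PowerSeries.coe_X]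
    rfl
  let d : ℕ → L⸨X⸩ := fun n => (seq n : L⸨X⸩) - comb σ b s (G n)
  have hd : ∀ n, d n ∈ lau K L 0 := fun n => sub_mem (seq n).2 (comb_mem hσ hs (hGmem n))
  have hrec : ∀ n, d n = π * d (n + 1) := by
    intro n
    have e2 : (seq n : L⸨X⸩) = comb σ b s (fun p => HahnSeries.C (c (seq n) p)) + π * (seq (n + 1) : L⸨X⸩) := by
      rw [show seq (n + 1) = next (seq n) from Function.iterate_succ_apply' next n _]
      exact heq (seq n)
    show (seq n : L⸨X⸩) - comb σ b s (G n) = π * ((seq (n + 1) : L⸨X⸩) - comb σ b s (G (n + 1)))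
    rw [hG n, comb_add, comb_mul, e2]
    ring
  have hd0 : ∀ n m : ℕ, d m ∈ lau K L (n : ℤ) := by
    intro n
    induction n with
    | zero => exact fun m => by simpa using hd m
    | succ n ih =>
      intro m
      rw [hrec m]
      exact lau_mono (by omega) (mul_mem_lau (mem_lau_iff.2 hπ.le) (ih (m + 1)))
  exact ⟨G 0, hGmem 0, (sub_eq_zero.1 (eq_zero_of_forall_mem fun n => hd0 n 0)).symm⟩

include hC hσ hπ hs in
lemma coeff_eq_zero {g : Fin r × Fin e → K⸨X⸩} (hg : ∀ p, g p ∈ lau K K 0)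
    (h : comb σ b s g ∈ lau K L (e : ℤ)) : ∀ p, (g p).coeff 0 = 0 := by
  have hsp := fun p => exists_split (K := K) (hg p)
  choose g' hg' hgeq using hsp
  let c : Fin r × Fin e → K := fun p => (g p).coeff 0
  have e1 : comb σ b s (fun p => HahnSeries.C (c p)) =
      comb σ b s g - σ (HahnSeries.single (1 : ℤ) (1 : K)) * comb σ b s g' := by
    rw [eq_sub_iff_add_eq, ← comb_mul, ← comb_add]
    congr 1
    funext p
    exact (hgeq p).symm
  let a : ℕ → L := fun l => if hl : l < e then ∑ α, c (α, ⟨l, hl⟩) • b α else 0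
  have ha : ∀ l : Fin e, a (l : ℕ) = ∑ α, c (α, l) • b α := fun l => dif_pos l.2
  have h2 : ∑ l ∈ Finset.range e, HahnSeries.C (a l) * s ^ l ∈ lau K L (e : ℤ) := by
    rw [← comb_C hC c a ha, e1]
    exact sub_mem h (lau_mono (by omega) (mul_mem_lau (mem_lau_iff.2 hπ.le) (comb_mem hσ hs hg')))
  rintro ⟨α, l⟩
  have h3 := digits_unique (K := K) hs h2 (l : ℕ) l.2
  rw [ha] at h3
  exact Fintype.linearIndependent_iff.1 b.linearIndependent (fun α => c (α, l)) h3 α

include hπ in
lemma shift_mem {m : ℕ} {u : L⸨X⸩} (hu : u ∈ lau K L 0) :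
    σ (HahnSeries.single (1 : ℤ) (1 : K)) ^ m * u ∈ lau K L ((m * e : ℕ) : ℤ) := by
  have : σ (HahnSeries.single (1 : ℤ) (1 : K)) ^ m ∈ lau K L ((m * e : ℕ) : ℤ) := by
    rw [mem_lau_iff, map_pow, hπ, ← exp_nsmul, nsmul_eq_mul]
    push_cast
    ring_nf
    exact le_rfl
  exact lau_mono (by omega) (mul_mem_lau this hu)

include hC hσ hπ hs he in
lemma mem_of_comb_mem {g : Fin r × Fin e → K⸨X⸩} (h : comb σ b s g ∈ lau K L 0) :
    ∀ p, g p ∈ lau K K 0 := by
  have key : ∀ m : ℕ, (∀ p, g p ∈ lau K K (-(m : ℤ))) → ∀ p, g p ∈ lau K K 0 := by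
    intro m
    induction m with
    | zero => exact fun h0 p => by simpa using h0 p
    | succ m ih =>
      intro hm
      refine ih fun p i hi => ?_
      set T := HahnSeries.single (1 : ℤ) (1 : K) ^ (m + 1)
      have hTeq : T = HahnSeries.single ((m : ℤ) + 1) (1 : K) := by
        simp [T, HahnSeries.single_pow]
      have hh : ∀ q, T * g q ∈ lau K K 0 := fun q l hl => by
        rw [hTeq, HahnSeries.coeff_single_mul, one_mul]
        exact hm q _ (by push_cast; omega)
      have h1 : comb σ b s (fun q => T * g q) ∈ lau K L (e : ℤ) := by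
        rw [comb_mul, map_pow]
        refine lau_mono ?_ (shift_mem hπ h)
        push_cast
        nlinarith
      rcases eq_or_lt_of_le (show i ≤ -(m : ℤ) - 1 by omega) with rfl | h'
      · have h2 := coeff_eq_zero hC hσ hπ hs hh h1 p
        rw [hTeq, HahnSeries.coeff_single_mul, one_mul] at h2
        rw [show -(m : ℤ) - 1 = 0 - ((m : ℤ) + 1) by ring]
        exact h2
      · exact hm p i (by push_cast; omega)
  have hN := fun p => exists_lau (k := K) (g p)
  choose N hN using hN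
  exact key (∑ p, N p) fun p => lau_mono (by
    have := Finset.single_le_sum (f := N) (fun _ _ => Nat.zero_le _) (Finset.mem_univ p)
    omega) (hN p)

include hC hσ hπ hs he in
lemma eq_zero_of_comb {g : Fin r × Fin e → K⸨X⸩} (h : comb σ b s g = 0) : g = 0 := by
  funext p
  refine eq_zero_of_forall_mem (K := K) fun n i hi => ?_
  have h1 : ∀ q, HahnSeries.single (-(n : ℤ)) (1 : K) * g q ∈ lau K K 0 :=
    mem_of_comb_mem hC hσ hπ he hs (by rw [comb_mul, h, mul_zero]; exact zero_mem _)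
  have h2 := h1 p (i - n) (by omega)
  rw [HahnSeries.coeff_single_mul, one_mul, sub_neg_eq_add, sub_add_cancel] at h2
  exact h2

include hC hσ hπ hs he in
lemma comb_surjective (f : L⸨X⸩) : ∃ g : Fin r × Fin e → K⸨X⸩, comb σ b s g = f := by
  obtain ⟨N, hN⟩ := exists_lau (k := K) f
  set π := σ (HahnSeries.single (1 : ℤ) (1 : K))
  have hπ0 : π ^ N ≠ 0 := pow_ne_zero N fun h0 => by rw [h0, map_zero] at hπ; exact (exp_ne_zero hπ.symm).elim
  have h1 : π ^ N * f ∈ lau K L 0 := by
    have hp : π ^ N ∈ lau K L (N : ℤ) := by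
      have h1L : (1 : L⸨X⸩) ∈ lau K L 0 := fun i hi => by
        rw [HahnSeries.coeff_one, if_neg (by omega)]
      have := shift_mem (m := N) hπ h1L
      rw [mul_one] at this
      exact lau_mono (by exact_mod_cast Nat.le_mul_of_pos_right N he) this
    exact lau_mono (by omega) (mul_mem_lau hp hN)
  obtain ⟨g, -, hg⟩ := exists_comb hC hσ hπ he hs (b := b) h1
  refine ⟨fun p => (HahnSeries.single (1 : ℤ) (1 : K) ^ N)⁻¹ * g p, ?_⟩
  rw [comb_mul, hg, map_inv₀, map_pow, inv_mul_cancel_left₀ hπ0]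

end Basis

section Trace

variable [FiniteDimensional K L] {ι : Type*} [Fintype ι] [DecidableEq ι]

/-- The trace formula for residues. -/
theorem res_trace (σ : K⸨X⸩ →+* L⸨X⸩) (z : ι → L⸨X⸩)
    (E : (ι → K⸨X⸩) ≃ₗ[K] L⸨X⸩) (hE : ∀ g, E g = ∑ i, σ (g i) * z i)
    (hA : ∀ g, E g ∈ lau K L 0 ↔ ∀ i, g i ∈ lau K K 0)
    (y : L⸨X⸩) (M : ι → ι → K⸨X⸩) (hy : ∀ j, y * z j = ∑ i, σ (M i j) * z i) (x : K⸨X⸩) :
    Algebra.trace K L (LocRes.res L (y * LocRes.D L (σ x))) =
      LocRes.res K ((∑ i, M i i) * LocRes.D K x) := by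
  classical
  set A := lau K L 0
  set O := lau K K 0
  have hMy : ∀ v i, E.symm (y * v) i = ∑ j, M i j * E.symm v j := by
    intro v i
    have : E (fun i => ∑ j, M i j * E.symm v j) = y * v := by
      conv_rhs => rw [← E.apply_symm_apply v]
      rw [hE, hE, Finset.mul_sum]
      simp only [map_sum, map_mul, Finset.sum_mul]
      rw [Finset.sum_comm]
      refine Finset.sum_congr rfl fun j _ => ?_
      rw [mul_left_comm y, hy, Finset.mul_sum]
      exact Finset.sum_congr rfl fun i _ => by ring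
    rw [← this, LinearEquiv.symm_apply_apply]
  have hMx : ∀ v i, E.symm (σ x * v) i = x * E.symm v i := by
    intro v i
    have : E (fun i => x * E.symm v i) = σ x * v := by
      conv_rhs => rw [← E.apply_symm_apply v]
      rw [hE, hE, Finset.mul_sum]
      exact Finset.sum_congr rfl fun i _ => by rw [map_mul, mul_assoc]
    rw [← this, LinearEquiv.symm_apply_apply]
  let P0 : L⸨X⸩ →ₗ[K] A := (E.toLinearMap ∘ₗ
      (LinearMap.pi fun i => O.subtype ∘ₗ trunc0 (k := K) ∘ₗ LinearMap.proj i) ∘ₗ E.symm.toLinearMap).codRestrict A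
    fun v => (hA _).2 fun i => (trunc0 (k := K) (E.symm v i)).2
  have hP0v : ∀ v i, E.symm (P0 v : L⸨X⸩) i = (trunc0 (k := K) (E.symm v i) : K⸨X⸩) := fun v i => by
    show E.symm (E _) i = _
    rw [LinearEquiv.symm_apply_apply]
    rfl
  have hmem : ∀ (a : A) i, E.symm (a : L⸨X⸩) i ∈ O := fun a =>
    (hA _).1 (by rw [E.apply_symm_apply]; exact a.2)
  have hP0 : ∀ a : A, P0 a = a := fun a => Subtype.ext (E.symm.injective (funext fun i => by
    rw [hP0v]
    exact congrArg Subtype.val (trunc0_apply (k := K) ⟨_, hmem a i⟩)))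
  rw [← tate_lau,
    ← trFR_brk_toep_congr (trunc0_apply (k := K)) hP0 (mulL_comm y (σ x)) (almostStable_lau y)
      (almostStable_lau (σ x))]
  let inA : ι → O →ₗ[K] A := fun i =>
    (E.toLinearMap ∘ₗ LinearMap.single K (fun _ => K⸨X⸩) i ∘ₗ O.subtype).codRestrict A fun a =>
      (hA _).2 fun j => by
        show (Pi.single i (a : K⸨X⸩) : ι → K⸨X⸩) j ∈ O
        rcases eq_or_ne j i with rfl | h
        · rw [Pi.single_eq_same]; exact a.2
        · rw [Pi.single_eq_of_ne h]; exact zero_mem _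
  let pr : ι → A →ₗ[K] O := fun i =>
    (LinearMap.proj i ∘ₗ E.symm.toLinearMap ∘ₗ A.subtype).codRestrict _ fun a => hmem a i
  let D : K⸨X⸩ → End K O := fun c =>
    brk (toep O (trunc0 (k := K)) (mulL K c)) (toep O (trunc0 (k := K)) (mulL K x))
  have hDFR : ∀ c, IsFR (D c) := fun c =>
    isFR_brk_toep (trunc0_apply (k := K)) (mulL_comm c x) (almostStable_lau c) (almostStable_lau x)
  have eD : brk (toep A P0 (mulL K y)) (toep A P0 (mulL K (σ x))) =
      ∑ ij : ι × ι, (inA ij.1 ∘ₗ D (M ij.1 ij.2)) ∘ₗ pr ij.2 := by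
    refine LinearMap.ext fun a => Subtype.ext (E.symm.injective (funext fun l => ?_))
    rw [LinearMap.sum_apply, AddSubmonoidClass.coe_finsetSum, map_sum, Finset.sum_apply, Fintype.sum_prod_type,
      Finset.sum_eq_single l (fun i _ hi => Finset.sum_eq_zero fun j _ => by
        show E.symm (E (Pi.single i _)) l = 0
        rw [LinearEquiv.symm_apply_apply, Pi.single_eq_of_ne (Ne.symm hi)]) (fun h => absurd (Finset.mem_univ l) h)]
    show E.symm ((P0 (y * (P0 (σ x * (a : L⸨X⸩)) : L⸨X⸩)) : L⸨X⸩) - (P0 (σ x * (P0 (y * (a : L⸨X⸩)) : L⸨X⸩)) : L⸨X⸩)) l =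
      ∑ j, E.symm (E (Pi.single l ((D (M l j) (pr j a) : O) : K⸨X⸩))) l
    simp only [LinearEquiv.symm_apply_apply, Pi.single_eq_same, map_sub, Pi.sub_apply, hP0v, hMy, hMx, map_sum,
      AddSubmonoidClass.coe_finsetSum, Finset.mul_sum]
    rw [← Finset.sum_sub_distrib]
    exact Finset.sum_congr rfl fun j _ => rfl
  rw [eD, trFR_sum _ fun ij _ => ((hDFR _).comp_left _).comp_right _]
  have hterm : ∀ i j, trFR ((inA i ∘ₗ D (M i j)) ∘ₗ pr j) =
      if j = i then LocRes.res K (M i j * LocRes.D K x) else 0 := fun i j => by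
    rw [← trFR_comm (pr j) ((hDFR _).comp_left _), ← LinearMap.comp_assoc]
    split_ifs with h
    · subst h
      rw [← Algebra.trace_self_apply (R := K) (LocRes.res K (M j j * LocRes.D K x)), ← tate_lau]
      congr 1
      refine LinearMap.ext fun a => Subtype.ext ?_
      show E.symm (E (Pi.single j ((D (M j j) a : O) : K⸨X⸩))) j = _
      rw [LinearEquiv.symm_apply_apply, Pi.single_eq_same]
    · convert trFR_zero (k := K) (V := O) using 2
      refine LinearMap.ext fun a => Subtype.ext ?_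
      show E.symm (E (Pi.single i ((D (M i j) a : O) : K⸨X⸩))) j = _
      rw [LinearEquiv.symm_apply_apply, Pi.single_eq_of_ne h]
      rfl
  rw [Fintype.sum_prod_type, Finset.sum_mul, map_sum]
  simp only [hterm, Finset.sum_ite_eq', Finset.mem_univ, if_true]

end Trace

end Groth.L04.LocTrace
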