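import Groth.Agent.L04.MatlisBC
import Groth.Agent.L04.Canon.Gor
import Groth.Agent.L04.LC.Torsion

/-!
# Injective hulls and flat base change with Artinian Gorenstein closed fibre
-/

universe u

namespace Groth.L04

open InjHull IsLocalRing TensorProduct

/-- An Artinian Gorenstein local ring has a simple socle. -/
theorem exists_socle_generator (C : Type u) [CommRing C] [LocCoh.IsGorensteinLocalRing C]
    [IsArtinianRing C] :
    ∃ σ : C, σ ≠ 0 ∧ (∀ c ∈ maximalIdeal C, c * σ = 0) ∧
      ∀ x : C, (∀ c ∈ maximalIdeal C, c * x = 0) → ∃ r, x = r * σ := by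
  obtain ⟨f, hf⟩ := Groth.L29.Gorenstein.exists_isInjectiveHull_H_top (A := C) 0
    (by simpa using ringKrullDimZero_iff_ringKrullDim_eq_zero.1 (inferInstance : Ring.KrullDimLE 0 C))
  obtain ⟨k, hk⟩ := (isArtinianRing_iff_isNilpotent_maximalIdeal C).1 inferInstance
  let e : LocCoh.H (maximalIdeal C) 0 C ≃ₗ[C] C :=
    Groth.L04.LC.H0TorsionEquiv (maximalIdeal C) C fun a => ⟨k, fun b hb => by
      rw [hk] at hb
      rw [(Submodule.mem_bot C).1 hb, zero_smul]⟩
  refine ⟨e (f 1), fun h => hull_one_ne_zero hf (e.map_eq_zero_iff.1 h), fun c hc => ?_,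
    fun x hx => ?_⟩
  · rw [← smul_eq_mul, ← map_smul, ← map_smul, smul_residueField_eq_zero hc, map_zero, map_zero]
  · obtain ⟨r, hr⟩ := exists_smul_of_killed hf (x := e.symm x) fun c hc => by
      rw [← map_smul, smul_eq_mul, hx c hc, map_zero]
    exact ⟨r, by rw [← smul_eq_mul, ← map_smul, ← hr, LinearEquiv.apply_symm_apply]⟩

variable {A : Type u} [CommRing A] [IsLocalRing A] [IsNoetherianRing A]
  {B : Type u} [CommRing B] [IsLocalRing B] [IsNoetherianRing B] [Algebra A B]
  [IsLocalHom (algebraMap A B)] [Module.Flat A B]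

local notation "J" => Ideal.map (algebraMap A B) (maximalIdeal A)

theorem exists_isInjectiveHull_baseChange_gorenstein [LocCoh.IsGorensteinLocalRing (B ⧸ J)]
    [IsArtinianRing (B ⧸ J)] {E : Type u} [AddCommGroup E] [Module A E]
    {f : ResidueField A →ₗ[A] E} (hf : IsInjectiveHull f) :
    ∃ g : ResidueField B →ₗ[B] TensorProduct A B E, IsInjectiveHull g := by
  have hinj : Function.Injective (f.lTensor B) :=
    Module.Flat.lTensor_preserves_injective_linearMap f hf.injective
  have hgen : ∀ t : B ⊗[A] ResidueField A, ∃ b : B, t = b ⊗ₜ[A] (1 : ResidueField A) := by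
    intro t
    induction t using TensorProduct.induction_on with
    | zero => exact ⟨0, by simp⟩
    | add a b ha hb =>
      obtain ⟨x, rfl⟩ := ha
      obtain ⟨y, rfl⟩ := hb
      exact ⟨x + y, (TensorProduct.add_tmul _ _ _).symm⟩
    | tmul b c =>
      obtain ⟨r, rfl⟩ := exists_smul_one_eq c
      exact ⟨r • b, (TensorProduct.smul_tmul r b (1 : ResidueField A)).symm⟩
  have hzero : ∀ b : B, b ⊗ₜ[A] f 1 = 0 ↔ b ∈ J := fun b => by
    rw [← LinearMap.lTensor_tmul, map_eq_zero_iff _ hinj]
    let e := (Algebra.TensorProduct.quotIdealMapEquivTensorQuot B (maximalIdeal A)).toLinearEquiv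
    have : e (Ideal.Quotient.mk J b) = b ⊗ₜ[A] (1 : ResidueField A) := rfl
    exact ⟨fun h => Ideal.Quotient.eq_zero_iff_mem.1 (e.map_eq_zero_iff.1 (this.trans h)),
      fun h => this.symm.trans (e.map_eq_zero_iff.2 (Ideal.Quotient.eq_zero_iff_mem.2 h))⟩
  have hmk : IsLocalHom (Ideal.Quotient.mk J) :=
    IsLocalHom.of_surjective _ Ideal.Quotient.mk_surjective
  obtain ⟨N₀, hN₀⟩ : ∃ N₀, maximalIdeal B ^ N₀ ≤ J := by
    obtain ⟨k, hk⟩ := (isArtinianRing_iff_isNilpotent_maximalIdeal (B ⧸ J)).1 inferInstance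
    refine ⟨k, fun c hc => Ideal.Quotient.eq_zero_iff_mem.1 ?_⟩
    have h1 := Ideal.mem_map_of_mem (Ideal.Quotient.mk J) hc
    rw [Ideal.map_pow] at h1
    have h2 : (maximalIdeal B).map (Ideal.Quotient.mk J) ≤ maximalIdeal (B ⧸ J) :=
      ((IsLocalRing.local_hom_TFAE (Ideal.Quotient.mk J)).out 0 2).1 hmk
    simpa [hk] using Ideal.pow_right_mono h2 k h1
  have hJ : J ≤ maximalIdeal B :=
    ((IsLocalRing.local_hom_TFAE (algebraMap A B)).out 0 2).1 ‹_›
  have hkill : ∀ (N : ℕ) (x : E), (∀ a ∈ maximalIdeal A ^ N, a • x = 0) → ∀ b : B,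
      ∀ c ∈ J ^ N, c • (b ⊗ₜ[A] x) = 0 := by
    intro N x hx b c hc
    have hle : (maximalIdeal A ^ N).map (algebraMap A B) ≤
        LinearMap.ker (LinearMap.toSpanSingleton B _ (b ⊗ₜ[A] x)) := by
      rw [Ideal.map_le_iff_le_comap]
      intro a ha
      simp [algebraMap_smul, ← TensorProduct.tmul_smul, hx a ha]
    rw [Ideal.map_pow] at hle
    simpa using hle hc
  have hpow : ∀ N, maximalIdeal B ^ (N₀ * N) ≤ J ^ N := fun N => by
    rw [pow_mul]; exact Ideal.pow_right_mono hN₀ N
  have ht : LocCoh.IsPowerTorsion (maximalIdeal B) (B ⊗[A] E) := by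
    intro t
    induction t using TensorProduct.induction_on with
    | zero => exact ⟨0, fun a _ => smul_zero a⟩
    | tmul b x =>
      obtain ⟨N, hN⟩ := hull_isPowerTorsion hf x
      exact ⟨N₀ * N, fun c hc => hkill N x hN b c (hpow N hc)⟩
    | add a b ha hb =>
      obtain ⟨i, hi⟩ := ha
      obtain ⟨j, hj⟩ := hb
      exact ⟨max i j, fun c hc => by
        rw [smul_add, hi c (Ideal.pow_le_pow_right (le_max_left i j) hc),
          hj c (Ideal.pow_le_pow_right (le_max_right i j) hc), add_zero]⟩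
  obtain ⟨σ, hσ0, hσ, hσ'⟩ := exists_socle_generator (B ⧸ J)
  obtain ⟨b₀, rfl⟩ := Ideal.Quotient.mk_surjective σ
  have hne : b₀ ⊗ₜ[A] f 1 ≠ 0 := fun h =>
    hσ0 (Ideal.Quotient.eq_zero_iff_mem.2 ((hzero b₀).1 h))
  have hk1 : ∀ c ∈ maximalIdeal B, c • (b₀ ⊗ₜ[A] f 1) = 0 := fun c hc => by
    rw [TensorProduct.smul_tmul', smul_eq_mul, hzero, ← Ideal.Quotient.eq_zero_iff_mem, map_mul]
    exact hσ _ (map_nonunit (Ideal.Quotient.mk J) c hc)
  obtain ⟨g, hg, hg'⟩ := exists_hom_residueField (R := B) hne hk1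
  refine ⟨g, exists_isInjectiveHull_of_length ht hg (fun x hx => ?_) fun N => ?_⟩
  · classical
    obtain ⟨r, s, hs⟩ :=
      Submodule.fg_iff_exists_fin_generating_family.1 (maximalIdeal A).fg_of_isNoetherianRing
    let μ : E →ₗ[A] (Fin r → E) :=
      ∑ i, LinearMap.single A (fun _ : Fin r => E) i ∘ₗ (s i • LinearMap.id)
    have hμ : ∀ e, μ e = fun i => s i • e := fun e => by
      simp only [μ, LinearMap.sum_apply, LinearMap.comp_apply, LinearMap.smul_apply,
        LinearMap.id_apply]
      exact Finset.univ_sum_single fun i => s i • e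
    have hex : Function.Exact f μ := by
      intro e
      refine ⟨fun h0 => ?_, ?_⟩
      · refine mem_range_of_killed hf fun a ha => ?_
        have hle : maximalIdeal A ≤ LinearMap.ker (LinearMap.toSpanSingleton A E e) := by
          rw [← hs, Submodule.span_le]
          rintro _ ⟨i, rfl⟩
          simpa [hμ] using congrFun ((hμ e).symm.trans h0) i
        simpa using hle ha
      · rintro ⟨c, rfl⟩
        rw [hμ]
        funext i
        rw [← map_smul, smul_residueField_eq_zero (hs.le (Submodule.subset_span ⟨i, rfl⟩)),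
          map_zero, Pi.zero_apply]
    have h0 : μ.lTensor B x = 0 := by
      simp only [μ, ← LinearMap.coe_lTensorHom, map_sum, LinearMap.sum_apply]
      refine Finset.sum_eq_zero fun i _ => ?_
      simp only [LinearMap.coe_lTensorHom, LinearMap.lTensor_comp, LinearMap.comp_apply,
        LinearMap.lTensor_smul, LinearMap.smul_apply, LinearMap.lTensor_id, LinearMap.id_apply]
      rw [← algebraMap_smul B (s i) x, hx _ (hJ (Ideal.mem_map_of_mem _
        (hs.le (Submodule.subset_span ⟨i, rfl⟩)))), map_zero]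
    obtain ⟨t, rfl⟩ := (Module.Flat.lTensor_exact B hex x).1 h0
    obtain ⟨b, rfl⟩ := hgen t
    rw [LinearMap.lTensor_tmul] at hx ⊢
    obtain ⟨q, hq⟩ := hσ' (Ideal.Quotient.mk J b) fun c hc => by
      obtain ⟨c, rfl⟩ := Ideal.Quotient.mk_surjective c
      rw [← map_mul, Ideal.Quotient.eq_zero_iff_mem, ← hzero, ← smul_eq_mul,
        ← TensorProduct.smul_tmul']
      exact hx c ((mem_maximalIdeal c).2 fun hu => (mem_maximalIdeal _).1 hc (hu.map _))
    obtain ⟨q, rfl⟩ := Ideal.Quotient.mk_surjective q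
    refine ⟨residue B q, ?_⟩
    rw [hg', TensorProduct.smul_tmul', smul_eq_mul, ← sub_eq_zero, ← TensorProduct.sub_tmul, hzero,
      ← Ideal.Quotient.eq, map_mul]
    exact hq.symm
  · refine ⟨J ^ N, N₀ * N, hpow N, Ideal.pow_right_mono hJ N, ?_⟩
    let T := LocCoh.torsionBy (maximalIdeal A ^ N) E
    let ι : B ⊗[A] T →ₗ[B] LocCoh.torsionBy (J ^ N) (B ⊗[A] E) :=
      (T.subtype.baseChange B).codRestrict _ fun t => by
        rw [Submodule.mem_torsionBySet_iff]
        rintro ⟨c, hc⟩
        induction t using TensorProduct.induction_on with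
        | zero => rw [map_zero, smul_zero]
        | tmul b x =>
          rw [LinearMap.baseChange_tmul]
          exact hkill N _ (fun a ha => (Submodule.mem_torsionBySet_iff _ _).1 x.2 ⟨a, ha⟩) b c hc
        | add a b ha hb => rw [map_add, smul_add, ha, hb, add_zero]
    have hι : Function.Injective ι := fun a b hab =>
      Module.Flat.lTensor_preserves_injective_linearMap (M := B) T.subtype
        T.injective_subtype (congrArg Subtype.val hab)
    rw [(homQuotientEquiv _ _).length_eq]
    refine le_trans (le_of_eq ?_) (Module.length_le_of_injective ι hι)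
    rw [IsLocalRing.length_baseChange, ← (homQuotientEquiv _ _).length_eq,
      length_hom_eq hf (isFiniteLength_quotient_pow N), ← IsLocalRing.length_baseChange,
      ← (Algebra.TensorProduct.quotIdealMapEquivTensorQuot B (maximalIdeal A ^ N)).toLinearEquiv.length_eq]
    rw [Ideal.map_pow]

end Groth.L04
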