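import Groth.Agent.L06.NormallyFlatDepth
import Groth.Agent.L06.GenericNormallyFlat
import Groth.Agent.L02.FibDepth.Semi
import Mathlib.RingTheory.KrullDimension.Module
import Mathlib.RingTheory.Support
import Mathlib.RingTheory.Localization.Module

/-!
# Depth, dimension and `(S_k)` of normally flat modules along nilpotent ideals, at primes
-/

set_option autoImplicit false
set_option maxSynthPendingDepth 3
universe u

open scoped TensorProduct

namespace Groth.L04.NFDepth

variable {A : Type u} [CommRing A] (I : Ideal A) (M : Type u) [AddCommGroup M] [Module A M]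

/-- Normal flatness localises. -/
theorem isNormallyFlat_localized {B : Type u} [CommRing B] [Algebra A B] (S : Submonoid A)
    [IsLocalization S B] {MB : Type u} [AddCommGroup MB] [Module A MB] [Module B MB]
    [IsScalarTower A B MB] (m : M →ₗ[A] MB) [IsLocalizedModule S m] (hM : EGA4.IsNormallyFlat I M) :
    EGA4.IsNormallyFlat (I.map (algebraMap A B)) MB := fun n => by
  have key : ∀ PB : Submodule B MB, (I ^ n • (⊤ : Submodule A M)).localized' B S m = PB →
      Module.Flat (B ⧸ I.map (algebraMap A B)) (↥PB ⧸ (I.map (algebraMap A B) • (⊤ : Submodule B ↥PB))) := by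
    rintro _ rfl
    haveI : Module.Flat (A ⧸ I) (↥(I ^ n • (⊤ : Submodule A M)) ⧸
      (I • (⊤ : Submodule A ↥(I ^ n • (⊤ : Submodule A M))))) := hM n
    exact Groth.L06.GenericNormallyFlat.flat_quot I S _ _
      (Submodule.toLocalized' B S m (I ^ n • (⊤ : Submodule A M))) inferInstance
  refine key _ ?_
  rw [Submodule.localized'_smul, Submodule.localized'_top, Submodule.localized'_eq_span, ← Ideal.map_pow]
  rfl

/-- The localised quotient. -/
noncomputable def quotEquiv (q : Ideal A) [q.IsPrime] :
    LocalizedModule q.primeCompl (A ⧸ I) ≃ₗ[Localization.AtPrime q]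
      Localization.AtPrime q ⧸ I.map (algebraMap A (Localization.AtPrime q)) :=
  haveI : IsLocalizedModule q.primeCompl
      (((Submodule.quotEquivOfEq _ _ (Ideal.localized'_eq_map (Localization.AtPrime q) q.primeCompl I)).toLinearMap.restrictScalars A) ∘ₗ
        Submodule.toLocalizedQuotient' (Localization.AtPrime q) q.primeCompl (Algebra.linearMap A (Localization.AtPrime q)) I) :=
    IsLocalizedModule.of_linearEquiv q.primeCompl
      (Submodule.toLocalizedQuotient' (Localization.AtPrime q) q.primeCompl (Algebra.linearMap A (Localization.AtPrime q)) I)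
      ((Submodule.quotEquivOfEq _ _ (Ideal.localized'_eq_map (Localization.AtPrime q) q.primeCompl I)).restrictScalars A)
  LinearEquiv.extendScalarsOfIsLocalization q.primeCompl (Localization.AtPrime q)
    (IsLocalizedModule.iso q.primeCompl
      (((Submodule.quotEquivOfEq _ _ (Ideal.localized'_eq_map (Localization.AtPrime q) q.primeCompl I)).toLinearMap.restrictScalars A) ∘ₗ
        Submodule.toLocalizedQuotient' (Localization.AtPrime q) q.primeCompl (Algebra.linearMap A (Localization.AtPrime q)) I))

/-- The identity as a semilinear bijection. -/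
def semi {R : Type u} [CommRing R] {P Q : Type u} [AddCommGroup P] [Module R P] [AddCommGroup Q] [Module R Q]
    (e : P ≃ₗ[R] Q) : L02.FibDepth.Semi R P R Q :=
  { φ := RingHom.id R, surj := Function.surjective_id, e := e.toAddEquiv, map_smul := fun r x => e.map_smul r x }

variable [IsNoetherianRing A] [Module.Finite A M]

/-- Depth and dimension at a prime. -/
theorem depth_dim_eq (hI : IsNilpotent I) (hM : EGA4.IsNormallyFlat I M)
    (hsupp : Module.support A M = Set.univ) (q : Ideal A) [q.IsPrime] :
    Module.supportDim (Localization.AtPrime q) (LocalizedModule q.primeCompl M) =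
        Module.supportDim (Localization.AtPrime q) (LocalizedModule q.primeCompl (A ⧸ I)) ∧
      LocCoh.depth (Localization.AtPrime q) (LocalizedModule q.primeCompl M) =
        LocCoh.depth (Localization.AtPrime q) (LocalizedModule q.primeCompl (A ⧸ I)) := by
  haveI : Nontrivial (LocalizedModule q.primeCompl M) :=
    Module.mem_support_iff.1 (hsupp ▸ Set.mem_univ (⟨q, inferInstance⟩ : PrimeSpectrum A))
  obtain ⟨h1, h2⟩ := Groth.L06.NormallyFlatDepth.main (I.map (algebraMap A (Localization.AtPrime q)))
    (by
      obtain ⟨N, hN⟩ := hI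
      exact ⟨N, by rw [← Ideal.map_pow, hN]; exact Ideal.map_bot⟩)
    (LocalizedModule q.primeCompl M)
    (isNormallyFlat_localized I M q.primeCompl (LocalizedModule.mkLinearMap q.primeCompl M) hM)
  refine ⟨?_, ?_⟩
  · rw [h1, (semi (quotEquiv I q)).supportDim_eq, Module.supportDim_quotient_eq_ringKrullDim]
  · rw [h2, (semi (quotEquiv I q)).depth_eq]

theorem support_localized (hsupp : Module.support A M = Set.univ) (p : Ideal A) [p.IsPrime] :
    Module.support (Localization.AtPrime p) (LocalizedModule p.primeCompl M) = Set.univ := by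
  refine Set.eq_univ_of_forall fun P => ?_
  obtain ⟨q, hq⟩ : ∃ q : PrimeSpectrum A, q = PrimeSpectrum.comap (algebraMap A (Localization.AtPrime p)) P := ⟨_, rfl⟩
  have h : q ∈ Module.support A M := hsupp ▸ Set.mem_univ q
  rw [Module.mem_support_iff_exists_annihilator] at h ⊢
  obtain ⟨x, hx⟩ := h
  refine ⟨LocalizedModule.mkLinearMap p.primeCompl M x, fun z hz => ?_⟩
  obtain ⟨a, s, rfl⟩ := IsLocalization.exists_mk'_eq p.primeCompl z
  rw [Submodule.mem_annihilator_span_singleton] at hz
  have h0 : a • LocalizedModule.mkLinearMap p.primeCompl M x = 0 := by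
    rw [← algebraMap_smul (Localization.AtPrime p) a, ← IsLocalization.mk'_spec' (Localization.AtPrime p) a s,
      mul_smul, hz, smul_zero]
  rw [← map_smul, IsLocalizedModule.eq_zero_iff p.primeCompl] at h0
  obtain ⟨t, ht⟩ := h0
  have hta : (t : A) * a ∈ q.asIdeal := hx (by
    rw [Submodule.mem_annihilator_span_singleton, mul_smul]; exact ht)
  have htq : (t : A) ∉ q.asIdeal := fun h => by
    rw [hq] at h
    exact P.isPrime.ne_top (Ideal.eq_top_of_isUnit_mem _ h
      (IsLocalization.map_units (Localization.AtPrime p) t))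
  have haq := (q.isPrime.mem_or_mem hta).resolve_left htq
  rw [hq] at haq
  exact (IsLocalization.mk'_mem_iff (y := s)).2 haq

/-- `(S_k)` at a prime and the codepth. -/
theorem main (n : ℕ) (hI : IsNilpotent I) (hsupp : Module.support A M = Set.univ) (hM : EGA4.IsNormallyFlat I M)
    (p : Ideal A) [p.IsPrime] :
    (EGA4.HasSkAt n A M p ↔ EGA4.HasSkAt n A (A ⧸ I) p) ∧
      (Module.supportDim (Localization.AtPrime p) (LocalizedModule p.primeCompl M) ≤
          ((LocCoh.depth (Localization.AtPrime p) (LocalizedModule p.primeCompl M) : ℕ∞) : WithBot ℕ∞) + n ↔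
        Module.supportDim (Localization.AtPrime p) (LocalizedModule p.primeCompl (A ⧸ I)) ≤
          ((LocCoh.depth (Localization.AtPrime p) (LocalizedModule p.primeCompl (A ⧸ I)) : ℕ∞) : WithBot ℕ∞) + n) := by
  refine ⟨?_, by rw [(depth_dim_eq I M hI hM hsupp p).1, (depth_dim_eq I M hI hM hsupp p).2]⟩
  let J := I.map (algebraMap A (Localization.AtPrime p))
  have hJ : IsNilpotent J := by
    obtain ⟨N, hN⟩ := hI
    exact ⟨N, by rw [← Ideal.map_pow, hN]; exact Ideal.map_bot⟩
  have hMp := isNormallyFlat_localized I M (B := Localization.AtPrime p) p.primeCompl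
    (LocalizedModule.mkLinearMap p.primeCompl M) hM
  have hp := support_localized M hsupp p
  have key := fun (P : Ideal (Localization.AtPrime p)) (_ : P.IsPrime) =>
    depth_dim_eq J (LocalizedModule p.primeCompl M) hJ hMp hp P
  show LocCoh.HasSk n _ _ ↔ LocCoh.HasSk n _ _
  rw [(semi (quotEquiv I p)).hasSk_iff]
  constructor
  · intro h P _
    rw [← (key P inferInstance).1, ← (key P inferInstance).2]
    exact h P
  · intro h P _
    rw [(key P inferInstance).1, (key P inferInstance).2]
    exact h P

end Groth.L04.NFDepth
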