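import Groth.Agent.L02.CAlg.Tor.Vanish
import Mathlib.Algebra.CharP.Lemmas
import Mathlib.Algebra.MonoidAlgebra.Module
import Mathlib.LinearAlgebra.DirectSum.Finsupp
import Mathlib.RingTheory.TensorProduct.Basic
import Mathlib.LinearAlgebra.FreeModule.Basic
import Mathlib.RingTheory.Ideal.Operations
import Mathlib.Tactic

/-!
# Tor-independence of perfect rings

For a perfect ring `P`, flat over `A`, and a radical ideal `J`, `Tor^A(B, J) = 0` and
`B ⊗ J → B ⊗ P` is injective: for `J = rad (f)` by the resolution of `colim (P → P → ⋯)`, for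
finitely generated radicals by Mayer–Vietoris (intersections are radicals of products), then by
directed unions. Every perfect algebra is a quotient of a free one by a radical ideal.
-/

set_option autoImplicit false
universe u

open TensorProduct L02.CAlg.TorV

namespace Groth.L04.PerfTor

/-- `p`-th powers bijective and `p = 0`. -/
structure Perf (p : ℕ) (R : Type u) [CommRing R] : Prop where
  zero : (p : R) = 0
  bij : Function.Bijective fun a : R => a ^ p

section Basic

variable {p : ℕ} [hp : Fact p.Prime] {R : Type u} [CommRing R]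

theorem add_pow_p (h0 : (p : R) = 0) (a b : R) : (a + b) ^ p = a ^ p + b ^ p := by
  rcases subsingleton_or_nontrivial R with h | h
  · exact Subsingleton.elim _ _
  · haveI : CharP R p := (CharP.charP_iff_prime_eq_zero hp.out).mpr h0
    exact add_pow_char a b p

variable (h : Perf p R)

/-- The Frobenius automorphism. -/
noncomputable def frobEquiv : R ≃+* R :=
  RingEquiv.ofBijective
    ({ toFun := fun a => a ^ p
       map_one' := one_pow p
       map_mul' := fun a b => mul_pow a b p
       map_zero' := zero_pow hp.out.ne_zero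
       map_add' := add_pow_p h.zero } : R →+* R) h.bij

/-- The `p`-th root. -/
noncomputable def root : R →+* R := (frobEquiv h).symm.toRingHom

theorem root_pow (a : R) : root h a ^ p = a := (frobEquiv h).apply_symm_apply a

theorem pow_root (a : R) : root h (a ^ p) = a := (frobEquiv h).symm_apply_apply a

theorem root_iter_pow (a : R) (n : ℕ) : ((root h)^[n] a) ^ p ^ n = a := by
  induction n with
  | zero => simp
  | succ n ih => rw [Function.iterate_succ_apply', pow_succ', pow_mul, root_pow, ih]

include h in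
theorem pow_inj (n : ℕ) {a b : R} (hab : a ^ p ^ n = b ^ p ^ n) : a = b := by
  induction n generalizing a b with
  | zero => simpa using hab
  | succ n ih =>
    rw [pow_succ, pow_mul, pow_mul] at hab
    exact ih (h.bij.1 hab)

include h in
theorem eq_zero_of_pow {a : R} (ha : a ^ p = 0) : a = 0 :=
  h.bij.1 (show a ^ p = (0 : R) ^ p by rw [ha, zero_pow hp.out.ne_zero])

theorem root_mem {J : Ideal R} (hJ : J.IsRadical) {a : R} (ha : a ∈ J) : root h a ∈ J :=
  hJ ⟨p, by rw [root_pow]; exact ha⟩

end Basic

/-! ### The sequence attached to a compatible system of roots -/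

section Seq

variable {p : ℕ} [hp : Fact p.Prime] {R : Type u} [CommRing R] (r : ℕ → R)

/-- `e n ↦ e n - r (n+1) ^ (p-1) • e (n+1)`. -/
noncomputable def shiftMap (p : ℕ) (r : ℕ → R) : (ℕ →₀ R) →ₗ[R] (ℕ →₀ R) :=
  Finsupp.linearCombination R
    fun n => Finsupp.single n 1 - Finsupp.single (n + 1) (r (n + 1) ^ (p - 1))

/-- `e n ↦ r n`. -/
noncomputable def sumMap : (ℕ →₀ R) →ₗ[R] R := Finsupp.linearCombination R r

omit hp in
theorem shiftMap_single (n : ℕ) (a : R) :
    shiftMap p r (Finsupp.single n a) =
      Finsupp.single n a - Finsupp.single (n + 1) (a * r (n + 1) ^ (p - 1)) := by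
  simp [shiftMap, smul_sub]

theorem sumMap_single (n : ℕ) (a : R) : sumMap r (Finsupp.single n a) = a * r n := by
  simp [sumMap]

omit hp in
theorem shiftMap_apply (v : ℕ →₀ R) :
    shiftMap p r v 0 = v 0 ∧
      ∀ n, shiftMap p r v (n + 1) = v (n + 1) - v n * r (n + 1) ^ (p - 1) := by
  induction v using Finsupp.induction_linear with
  | zero => simp
  | add a b ha hb =>
    refine ⟨by simp [ha.1, hb.1], fun n => ?_⟩
    rw [(shiftMap p r).map_add, Finsupp.add_apply, ha.2 n, hb.2 n, Finsupp.add_apply, Finsupp.add_apply]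
    ring
  | single m a =>
    rw [shiftMap_single]
    refine ⟨by simp, fun n => ?_⟩
    rw [Finsupp.sub_apply]
    congr 1
    simp only [Finsupp.single_apply]
    by_cases hmn : m = n
    · simp [hmn]
    · simp [hmn]

omit hp in
theorem shiftMap_injective : Function.Injective (shiftMap p r) := by
  rw [injective_iff_map_eq_zero]
  intro v hv
  ext n
  induction n with
  | zero =>
    have := (shiftMap_apply (p := p) r v).1
    rw [hv] at this
    exact this.symm
  | succ n ih =>
    have := (shiftMap_apply (p := p) r v).2 n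
    rw [hv, ih] at this
    simpa using this.symm

variable (hr : ∀ n, r (n + 1) ^ p = r n)

include hr in
theorem sumMap_shiftMap (v : ℕ →₀ R) : sumMap r (shiftMap p r v) = 0 := by
  induction v using Finsupp.induction_linear with
  | zero => simp
  | add a b ha hb => rw [map_add, map_add, ha, hb, add_zero]
  | single n a =>
    rw [shiftMap_single, map_sub, sumMap_single, sumMap_single, mul_assoc, ← pow_succ,
      Nat.sub_add_cancel hp.out.one_le, hr, sub_self]

omit hp in
theorem exists_single_aux (n : ℕ) (a : R) (N : ℕ) (hN : n ≤ N) :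
    ∃ q, Finsupp.single n a - Finsupp.single N q ∈ LinearMap.range (shiftMap p r) := by
  induction N, hN using Nat.le_induction with
  | base => exact ⟨a, by rw [sub_self]; exact zero_mem _⟩
  | succ N _ ih =>
    obtain ⟨q, hq⟩ := ih
    refine ⟨q * r (N + 1) ^ (p - 1), ?_⟩
    have h2 := add_mem hq (LinearMap.mem_range_self (shiftMap p r) (Finsupp.single N q))
    rwa [shiftMap_single, sub_add_sub_cancel] at h2

omit hp in
theorem exists_single (x : ℕ →₀ R) :
    ∃ N₀, ∀ N, N₀ ≤ N → ∃ q, x - Finsupp.single N q ∈ LinearMap.range (shiftMap p r) := by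
  induction x using Finsupp.induction_linear with
  | zero => exact ⟨0, fun N _ => ⟨0, by simp⟩⟩
  | add a b ha hb =>
    obtain ⟨Na, ha⟩ := ha
    obtain ⟨Nb, hb⟩ := hb
    refine ⟨max Na Nb, fun N hN => ?_⟩
    obtain ⟨qa, hqa⟩ := ha N (le_of_max_le_left hN)
    obtain ⟨qb, hqb⟩ := hb N (le_of_max_le_right hN)
    refine ⟨qa + qb, ?_⟩
    rw [Finsupp.single_add, add_sub_add_comm]
    exact add_mem hqa hqb
  | single n a => exact ⟨n, exists_single_aux r n a⟩

include hr in
theorem exact_shiftMap_sumMap (hred : ∀ a : R, a ^ p = 0 → a = 0) :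
    Function.Exact (shiftMap p r) (sumMap r) := by
  intro x
  refine ⟨fun hx => ?_, fun ⟨v, hv⟩ => hv ▸ sumMap_shiftMap r hr v⟩
  obtain ⟨N, hN⟩ := exists_single (p := p) r x
  obtain ⟨q, v, hv⟩ := hN N le_rfl
  have h1 : q * r N = 0 := by
    have h2 := congrArg (sumMap r) hv
    rw [sumMap_shiftMap r hr, map_sub, hx, sumMap_single, zero_sub] at h2
    exact neg_eq_zero.mp h2.symm
  have h3 : q * r (N + 1) = 0 := by
    refine hred _ ?_
    rw [mul_pow, hr, ← Nat.sub_add_cancel hp.out.one_le, pow_succ, mul_assoc, h1, mul_zero]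
  have h4 : q * r (N + 1) ^ (p - 1) = 0 := by
    obtain ⟨k, hk⟩ : ∃ k, p - 1 = k + 1 := ⟨p - 2, by have := hp.out.two_le; omega⟩
    rw [hk, pow_succ', ← mul_assoc, h3, zero_mul]
  refine ⟨v + Finsupp.single N q, ?_⟩
  rw [map_add, hv, shiftMap_single, h4, Finsupp.single_zero, sub_zero, sub_add_cancel]

end Seq

/-! ### Radical ideals -/

section Main

variable {p : ℕ} [hp : Fact p.Prime] {A : Type u} [CommRing A] (hA : Perf p A)
  (B : Type u) [CommRing B] [Algebra A B] (hB : Perf p B)
  {P : Type u} [CommRing P] [Algebra A P] (hP : Perf p P)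

include hA in
theorem root_smul {R : Type u} [CommRing R] [Algebra A R] (h : Perf p R) (a : A) (x : R) :
    root h (a • x) = root hA a • root h x := by
  apply h.bij.1
  show root h (a • x) ^ p = (root hA a • root h x) ^ p
  rw [root_pow, _root_.smul_pow, root_pow, root_pow]

/-- The `p`-th root on a tensor product. -/
noncomputable def tensorRoot : B ⊗[A] P →+ B ⊗[A] P :=
  TensorProduct.liftAddHom
    (AddMonoidHom.mk' (fun b => AddMonoidHom.mk' (fun q => root hB b ⊗ₜ[A] root hP q)
      fun q q' => by rw [map_add, tmul_add])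
      fun b b' => AddMonoidHom.ext fun q => by
        show root hB (b + b') ⊗ₜ[A] root hP q = root hB b ⊗ₜ[A] root hP q + root hB b' ⊗ₜ[A] root hP q
        rw [map_add, add_tmul])
    fun a b q => by
      show root hB (a • b) ⊗ₜ[A] root hP q = root hB b ⊗ₜ[A] root hP (a • q)
      rw [root_smul hA hB, root_smul hA hP, smul_tmul]

theorem tensorRoot_tmul (b : B) (q : P) :
    tensorRoot hA B hB hP (b ⊗ₜ[A] q) = root hB b ⊗ₜ[A] root hP q :=
  TensorProduct.liftAddHom_tmul _ _ _ _

include hA hB hP in
theorem tensor_zero : (p : B ⊗[A] P) = 0 := by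
  rw [← map_natCast (algebraMap A (B ⊗[A] P)), hA.zero, map_zero]

theorem tensorRoot_pow (x : B ⊗[A] P) : tensorRoot hA B hB hP (x ^ p) = x := by
  induction x using TensorProduct.induction_on with
  | zero => rw [zero_pow hp.out.ne_zero, map_zero]
  | tmul b q => rw [Algebra.TensorProduct.tmul_pow, tensorRoot_tmul, pow_root, pow_root]
  | add a b ha hb => rw [add_pow_p (tensor_zero hA B hB hP), map_add, ha, hb]

include hA hB hP in
theorem tensor_reduced (x : B ⊗[A] P) (hx : x ^ p = 0) : x = 0 := by
  rw [← tensorRoot_pow hA B hB hP x, hx, map_zero]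

/-- The image of `B ⊗ J` in `B ⊗ P`. -/
noncomputable def img (J : Ideal P) : B ⊗[A] ↥(J.restrictScalars A) →ₗ[A] B ⊗[A] P :=
  (J.restrictScalars A).subtype.lTensor B

omit hp in
theorem mem_range_img_of_le {J J' : Ideal P} (hle : J ≤ J') (w : B ⊗[A] ↥(J.restrictScalars A)) :
    img B J w = img B J'
      ((Submodule.inclusion (Submodule.restrictScalars_mono A hle)).lTensor B w) := by
  rw [img, img, ← LinearMap.lTensor_comp_apply]
  rfl

omit hp in
theorem img_mul (J : Ideal P) (w : B ⊗[A] ↥(J.restrictScalars A)) (z : B ⊗[A] P) :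
    img B J w * z ∈ LinearMap.range (img (A := A) B J) := by
  induction w using TensorProduct.induction_on with
  | zero => rw [map_zero, zero_mul]; exact zero_mem _
  | add a b ha hb => rw [map_add, add_mul]; exact add_mem ha hb
  | tmul b j =>
    induction z using TensorProduct.induction_on with
    | zero => rw [mul_zero]; exact zero_mem _
    | add a c ha hc => rw [mul_add]; exact add_mem ha hc
    | tmul b' q =>
      exact ⟨(b * b') ⊗ₜ[A] ⟨(j : P) * q, J.mul_mem_right _ j.2⟩, by
        simp [img, Algebra.TensorProduct.tmul_mul_tmul]⟩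

omit hp in
theorem img_mul_img (J J' : Ideal P) (w : B ⊗[A] ↥(J.restrictScalars A))
    (w' : B ⊗[A] ↥(J'.restrictScalars A)) :
    img B J w * img B J' w' ∈ LinearMap.range (img (A := A) B (J ⊓ J')) := by
  induction w using TensorProduct.induction_on with
  | zero => rw [map_zero, zero_mul]; exact zero_mem _
  | add a b ha hb => rw [map_add, add_mul]; exact add_mem ha hb
  | tmul b j =>
    induction w' using TensorProduct.induction_on with
    | zero => rw [map_zero, mul_zero]; exact zero_mem _
    | add a c ha hc => rw [map_add, mul_add]; exact add_mem ha hc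
    | tmul b' q =>
      exact ⟨(b * b') ⊗ₜ[A] ⟨(j : P) * q, J.mul_mem_right _ j.2, J'.mul_mem_left _ q.2⟩, by
        simp [img, Algebra.TensorProduct.tmul_mul_tmul]⟩

theorem tensorRoot_mem {J : Ideal P} (hJ : J.IsRadical) {x : B ⊗[A] P}
    (hx : x ∈ LinearMap.range (img (A := A) B J)) :
    tensorRoot hA B hB hP x ∈ LinearMap.range (img (A := A) B J) := by
  obtain ⟨w, rfl⟩ := hx
  induction w using TensorProduct.induction_on with
  | zero => rw [map_zero, map_zero]; exact zero_mem _
  | add a b ha hb => rw [map_add, map_add]; exact add_mem ha hb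
  | tmul b j =>
    exact ⟨root hB b ⊗ₜ[A] ⟨root hP j, root_mem hP hJ j.2⟩, by simp [img, tensorRoot_tmul]⟩

include hA hB hP in
/-- In the tensor product the extensions of two radical ideals meet in that of their intersection. -/
theorem inter_range {J J' : Ideal P} (hJ : J.IsRadical) (hJ' : J'.IsRadical) {x : B ⊗[A] P}
    (hx : x ∈ LinearMap.range (img (A := A) B J)) (hx' : x ∈ LinearMap.range (img (A := A) B J')) :
    x ∈ LinearMap.range (img (A := A) B (J ⊓ J')) := by
  obtain ⟨w, hw⟩ := hx
  obtain ⟨w', hw'⟩ := hx'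
  have h2 := img_mul_img B J J' w w'
  rw [hw, hw'] at h2
  obtain ⟨v, hv⟩ := h2
  have h3 := img_mul B (J ⊓ J') v (x ^ (p - 2))
  rw [hv, ← sq, ← pow_add, Nat.add_sub_cancel' hp.out.two_le] at h3
  have h4 := tensorRoot_mem hA B hB hP (hJ.inf hJ') h3
  rwa [tensorRoot_pow] at h4

/-- `Tor^A(B, J) = 0` in positive degree and `B ⊗ J → B ⊗ P` is injective. -/
def Good (J : Ideal P) : Prop :=
  (∀ i, Van A B ↥(J.restrictScalars A) i) ∧ Function.Injective (img (A := A) B J)

include hA hB hP in
theorem good_principal [Module.Flat A P] (f : P) : Good (A := A) B (Ideal.span {f}).radical := by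
  classical
  set I := (Ideal.span {f}).radical
  let r : ℕ → P := fun n => (root hP)^[n] f
  have hr : ∀ n, r (n + 1) ^ p = r n := fun n => by
    simp only [r]; rw [Function.iterate_succ_apply', root_pow]
  have hrI : ∀ n, r n ∈ I := fun n =>
    ⟨p ^ n, by rw [root_iter_pow]; exact Ideal.mem_span_singleton_self f⟩
  have hgI : ∀ v, sumMap r v ∈ I := fun v => by
    rw [sumMap, Finsupp.linearCombination_apply]
    exact Submodule.sum_mem _ fun n _ => I.mul_mem_left _ (hrI n)
  let T : (ℕ →₀ P) →ₗ[A] (ℕ →₀ P) := (shiftMap p r).restrictScalars A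
  let g : (ℕ →₀ P) →ₗ[A] ↥(I.restrictScalars A) :=
    ((sumMap r).restrictScalars A).codRestrict _ hgI
  have hT : Function.Injective T := shiftMap_injective r
  have hg : Function.Surjective g := by
    rintro ⟨x, k, hk⟩
    obtain ⟨c, hc⟩ := Ideal.mem_span_singleton'.mp hk
    have hle : k ≤ p ^ k := (Nat.lt_pow_self hp.out.one_lt).le
    refine ⟨Finsupp.single k ((root hP)^[k] (c * x ^ (p ^ k - k))), Subtype.ext (pow_inj hP k ?_)⟩
    show (sumMap r (Finsupp.single k _)) ^ p ^ k = x ^ p ^ k
    rw [sumMap_single, mul_pow, root_iter_pow, root_iter_pow, mul_right_comm, hc, ← pow_add,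
      Nat.add_sub_cancel' hle]
  have hexact : Function.Exact T g := fun v => by
    refine Iff.trans ?_ (exact_shiftMap_sumMap r hr (fun a ha => eq_zero_of_pow hP ha) v)
    exact Subtype.ext_iff
  let r' : ℕ → B ⊗[A] P := fun n => (1 : B) ⊗ₜ[A] r n
  have hr' : ∀ n, r' (n + 1) ^ p = r' n := fun n => by
    simp only [r']; rw [Algebra.TensorProduct.tmul_pow, one_pow, hr]
  let φ : B ⊗[A] (ℕ →₀ P) ≃ₗ[A] (ℕ →₀ B ⊗[A] P) := TensorProduct.finsuppRight A A B P ℕ
  have hφ : ∀ b n q, φ (b ⊗ₜ[A] Finsupp.single n q) = Finsupp.single n (b ⊗ₜ[A] q) := fun b n q =>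
    TensorProduct.finsuppRight_tmul_single n b q
  have hT' : ∀ y, φ (T.lTensor B y) = shiftMap p r' (φ y) := by
    intro y
    induction y using TensorProduct.induction_on with
    | zero => simp
    | add a b ha hb => simp only [map_add, ha, hb]
    | tmul b v =>
      induction v using Finsupp.induction_linear with
      | zero => simp
      | add a c ha hc => simp only [tmul_add, map_add, ha, hc]
      | single n q =>
        rw [LinearMap.lTensor_tmul, hφ, shiftMap_single]
        show φ (b ⊗ₜ[A] shiftMap p r (Finsupp.single n q)) = _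
        rw [shiftMap_single, tmul_sub, map_sub, hφ, hφ]
        simp only [r', Algebra.TensorProduct.tmul_pow, one_pow, Algebra.TensorProduct.tmul_mul_tmul,
          mul_one]
  have hg' : ∀ y, img B I (g.lTensor B y) = sumMap r' (φ y) := by
    intro y
    induction y using TensorProduct.induction_on with
    | zero => simp
    | add a b ha hb => simp only [map_add, ha, hb]
    | tmul b v =>
      induction v using Finsupp.induction_linear with
      | zero => simp
      | add a c ha hc => simp only [tmul_add, map_add, ha, hc]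
      | single n q =>
        rw [LinearMap.lTensor_tmul, img, LinearMap.lTensor_tmul, hφ, sumMap_single]
        show b ⊗ₜ[A] sumMap r (Finsupp.single n q) = _
        rw [sumMap_single]
        simp [r', Algebra.TensorProduct.tmul_mul_tmul]
  have hTinj : Function.Injective (T.lTensor B) := fun y y' hy => φ.injective
    (shiftMap_injective r' (by rw [← hT', ← hT', hy]))
  haveI : Module.Flat A (ℕ →₀ P) := Module.Flat.trans A P _
  refine ⟨fun i => ?_, ?_⟩
  · cases i with
    | zero => exact Van.right_zero hT hg hexact (van_of_flat_right _ 0) hTinj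
    | succ i => exact Van.right hT hg hexact (van_of_flat_right _ (i + 1)) (van_of_flat_right _ i)
  · rw [injective_iff_map_eq_zero]
    intro z hz
    obtain ⟨y, rfl⟩ := LinearMap.lTensor_surjective B hg z
    rw [hg'] at hz
    obtain ⟨w, hw⟩ := (exact_shiftMap_sumMap r' hr' (tensor_reduced hA B hB hP) (φ y)).mp hz
    obtain ⟨w, rfl⟩ := φ.surjective w
    rw [← hT'] at hw
    rw [← φ.injective hw]
    exact (lTensor_exact B hexact hg).apply_apply_eq_zero w

include hP in
theorem sup_isRadical {J I : Ideal P} (hJ : J.IsRadical) (hI : I.IsRadical) :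
    (J ⊔ I).IsRadical := by
  have h1 : ∀ x, x ^ p ∈ J ⊔ I → x ∈ J ⊔ I := fun x hx => by
    obtain ⟨a, ha, b, hb, hab⟩ := Submodule.mem_sup.mp hx
    rw [← pow_root hP x, ← hab, map_add]
    exact Submodule.add_mem_sup (root_mem hP hJ ha) (root_mem hP hI hb)
  intro x ⟨k, hk⟩
  have h2 : ∀ n, ∀ x : P, x ^ p ^ n ∈ J ⊔ I → x ∈ J ⊔ I := by
    intro n
    induction n with
    | zero => intro x hx; simpa using hx
    | succ n ih => intro x hx; rw [pow_succ', pow_mul] at hx; exact h1 x (ih _ hx)
  refine h2 k x ?_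
  rw [← Nat.sub_add_cancel (Nat.lt_pow_self (n := k) hp.out.one_lt).le, pow_add]
  exact Ideal.mul_mem_left _ _ hk

include hA hB hP in
theorem good_sup [Module.Flat A P] {J I : Ideal P} (hJ : J.IsRadical) (hI : I.IsRadical)
    (gJ : Good (A := A) B J) (gI : Good (A := A) B I) (gK : Good (A := A) B (J ⊓ I)) :
    Good (A := A) B (J ⊔ I) := by
  let incJ : ↥((J ⊓ I).restrictScalars A) →ₗ[A] ↥(J.restrictScalars A) :=
    Submodule.inclusion (Submodule.restrictScalars_mono A inf_le_left)
  let incI : ↥((J ⊓ I).restrictScalars A) →ₗ[A] ↥(I.restrictScalars A) :=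
    Submodule.inclusion (Submodule.restrictScalars_mono A inf_le_right)
  let f : ↥((J ⊓ I).restrictScalars A) →ₗ[A] ↥(J.restrictScalars A) × ↥(I.restrictScalars A) :=
    incJ.prod (-incI)
  let sJ : ↥(J.restrictScalars A) →ₗ[A] ↥((J ⊔ I).restrictScalars A) :=
    Submodule.inclusion (Submodule.restrictScalars_mono A le_sup_left)
  let sI : ↥(I.restrictScalars A) →ₗ[A] ↥((J ⊔ I).restrictScalars A) :=
    Submodule.inclusion (Submodule.restrictScalars_mono A le_sup_right)
  let g : ↥(J.restrictScalars A) × ↥(I.restrictScalars A) →ₗ[A] ↥((J ⊔ I).restrictScalars A) :=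
    sJ.coprod sI
  have hf : Function.Injective f := fun a b hab => by
    have := congrArg (fun t => ((Prod.fst t : ↥(J.restrictScalars A)) : P)) hab
    exact Subtype.ext this
  have hg : Function.Surjective g := by
    rintro ⟨x, hx⟩
    obtain ⟨a, ha, b, hb, rfl⟩ := Submodule.mem_sup.mp hx
    exact ⟨(⟨a, ha⟩, ⟨b, hb⟩), Subtype.ext rfl⟩
  have hexact : Function.Exact f g := fun v => by
    refine ⟨fun h => ?_, ?_⟩
    · have h' : (v.1 : P) + (v.2 : P) = 0 := congrArg Subtype.val h
      have hmem : (v.1 : P) ∈ (J ⊓ I).restrictScalars A :=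
        ⟨v.1.2, by rw [eq_neg_of_add_eq_zero_left h']; exact I.neg_mem v.2.2⟩
      refine ⟨⟨_, hmem⟩, Prod.ext (Subtype.ext rfl) (Subtype.ext ?_)⟩
      show -(v.1 : P) = v.2
      exact (eq_neg_of_add_eq_zero_right h').symm
    · rintro ⟨w, rfl⟩
      exact Subtype.ext (show (w : P) + -(w : P) = 0 by simp)
  let fst : ↥(J.restrictScalars A) × ↥(I.restrictScalars A) →ₗ[A] ↥(J.restrictScalars A) :=
    LinearMap.fst A _ _
  have hfinj : Function.Injective (f.lTensor B) := fun y y' hy => by
    refine gK.2 ?_
    rw [mem_range_img_of_le B (inf_le_left : J ⊓ I ≤ J),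
      mem_range_img_of_le B (inf_le_left : J ⊓ I ≤ J)]
    have h1 := congrArg (fst.lTensor B) hy
    rw [← LinearMap.lTensor_comp_apply, ← LinearMap.lTensor_comp_apply] at h1
    exact congrArg (img B J) h1
  have hmid : ∀ i, Van A B (↥(J.restrictScalars A) × ↥(I.restrictScalars A)) i := fun i =>
    Van.middle (f := LinearMap.inl A _ _) (g := LinearMap.snd A _ _) LinearMap.inl_injective
      LinearMap.snd_surjective Function.Exact.inl_snd (gJ.1 i) (gI.1 i)
  refine ⟨fun i => ?_, ?_⟩
  · cases i with
    | zero => exact Van.right_zero hf hg hexact (hmid 0) hfinj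
    | succ i => exact Van.right hf hg hexact (hmid (i + 1)) (gK.1 i)
  · rw [injective_iff_map_eq_zero]
    intro z hz
    obtain ⟨y, rfl⟩ := LinearMap.lTensor_surjective B hg z
    let y₁ := fst.lTensor B y
    let y₂ := (LinearMap.snd A ↥(J.restrictScalars A) ↥(I.restrictScalars A)).lTensor B y
    have hy : g.lTensor B y = sJ.lTensor B y₁ + sI.lTensor B y₂ := by
      simp only [y₁, y₂, ← LinearMap.lTensor_comp_apply, ← LinearMap.add_apply,
        ← LinearMap.lTensor_add]
      rfl
    rw [hy, map_add, ← mem_range_img_of_le B le_sup_left, ← mem_range_img_of_le B le_sup_right] at hz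
    have hx1 : img B J y₁ ∈ LinearMap.range (img (A := A) B I) :=
      ⟨-y₂, by rw [map_neg]; exact (eq_neg_of_add_eq_zero_left hz).symm⟩
    obtain ⟨w, hw⟩ := inter_range hA B hB hP hJ hI ⟨y₁, rfl⟩ hx1
    have e1 : incJ.lTensor B w = y₁ := gJ.2 (by rw [← mem_range_img_of_le B inf_le_left]; exact hw)
    have e2 : incI.lTensor B w = -y₂ := gI.2 (by
      rw [← mem_range_img_of_le B inf_le_right, map_neg]
      exact hw.trans (eq_neg_of_add_eq_zero_left hz))
    rw [hy, ← e1, ← neg_neg y₂, ← e2, map_neg, ← sub_eq_add_neg, sub_eq_zero,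
      ← LinearMap.lTensor_comp_apply, ← LinearMap.lTensor_comp_apply]
    rfl

include hA hB hP in
theorem good_finset [Module.Flat A P] :
    ∀ (n : ℕ) (S : Finset P), S.card ≤ n → Good (A := A) B (Ideal.span (S : Set P)).radical := by
  classical
  intro n
  induction n with
  | zero =>
    intro S hS
    have h0 : (Ideal.span (S : Set P)).radical = ⊥ := by
      rw [Finset.card_eq_zero.mp (Nat.le_zero.mp hS)]
      simp only [Finset.coe_empty, Ideal.span_empty]
      refine le_antisymm (fun x ⟨k, hk⟩ => ?_) bot_le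
      rw [Ideal.mem_bot] at hk ⊢
      refine pow_inj hP k ?_
      rw [zero_pow (pow_ne_zero k hp.out.ne_zero),
        ← Nat.sub_add_cancel (Nat.lt_pow_self (n := k) hp.out.one_lt).le, pow_add, hk, mul_zero]
    rw [h0]
    haveI : Subsingleton ↥((⊥ : Ideal P).restrictScalars A) :=
      ⟨fun a b => Subtype.ext ((Ideal.mem_bot.mp a.2).trans (Ideal.mem_bot.mp b.2).symm)⟩
    haveI : Subsingleton (B ⊗[A] ↥((⊥ : Ideal P).restrictScalars A)) := inferInstance
    exact ⟨fun i => van_of_flat_right _ i, fun a b _ => Subsingleton.elim a b⟩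
  | succ n ih =>
    intro S hS
    rcases S.eq_empty_or_nonempty with rfl | ⟨f, hf⟩
    · exact ih ∅ (by simp)
    obtain ⟨S', hS', hcard⟩ : ∃ S' : Finset P, insert f S' = S ∧ S'.card ≤ n :=
      ⟨S.erase f, Finset.insert_erase hf, by rw [Finset.card_erase_of_mem hf]; omega⟩
    have heq : (Ideal.span (S : Set P)).radical =
        (Ideal.span (S' : Set P)).radical ⊔ (Ideal.span {f}).radical := by
      refine le_antisymm ?_ (sup_le (Ideal.radical_mono (Ideal.span_mono ?_))
        (Ideal.radical_mono (Ideal.span_mono ?_)))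
      · refine (sup_isRadical hP (Ideal.radical_isRadical _) (Ideal.radical_isRadical _)).radical_le_iff.mpr ?_
        rw [← hS', Finset.coe_insert, Set.insert_eq, Ideal.span_union, sup_comm]
        exact sup_le_sup Ideal.le_radical Ideal.le_radical
      · rw [← hS']; simp
      · simpa using hf
    have hinf : (Ideal.span (S' : Set P)).radical ⊓ (Ideal.span {f}).radical =
        (Ideal.span ((S'.image (fun s => s * f) : Finset P) : Set P)).radical := by
      rw [← Ideal.radical_mul, Ideal.span_mul_span', Finset.coe_image, Set.mul_singleton]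
    rw [heq]
    refine good_sup hA B hB hP (Ideal.radical_isRadical _) (Ideal.radical_isRadical _) (ih S' hcard)
      (good_principal hA B hB hP f) ?_
    rw [hinf]
    exact ih _ (Finset.card_image_le.trans hcard)

include hA hB hP in
theorem good_radical [Module.Flat A P] {J : Ideal P} (hJ : J.IsRadical) : Good (A := A) B J := by
  classical
  let κ := {S : Finset P // (S : Set P) ⊆ J}
  haveI : Nonempty κ := ⟨⟨∅, by simp⟩⟩
  let R : κ → Ideal P := fun S => (Ideal.span (S.1 : Set P)).radical
  have hle : ∀ k, R k ≤ J := fun k => hJ.radical_le_iff.mpr (Ideal.span_le.mpr k.2)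
  have hdir : ∀ k l : κ, ∃ m : κ, R k ≤ R m ∧ R l ≤ R m := fun k l =>
    ⟨⟨k.1 ∪ l.1, by rw [Finset.coe_union]; exact Set.union_subset k.2 l.2⟩,
      Ideal.radical_mono (Ideal.span_mono (by simp)), Ideal.radical_mono (Ideal.span_mono (by simp))⟩
  have hcov : ∀ x ∈ J, ∃ k, x ∈ R k := fun x hx =>
    ⟨⟨{x}, by simpa using hx⟩, Ideal.le_radical (Ideal.subset_span (by simp))⟩
  refine ⟨fun i => ?_, ?_⟩
  · refine van_of_forall_exists (κ := κ)
      (fun k => ((R k).restrictScalars A).comap (J.restrictScalars A).subtype) ?_ ?_ fun k => ?_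
    · intro k l
      obtain ⟨m, hk, hl⟩ := hdir k l
      exact ⟨m, Submodule.comap_mono (Submodule.restrictScalars_mono A hk),
        Submodule.comap_mono (Submodule.restrictScalars_mono A hl)⟩
    · intro q
      exact hcov q q.2
    · exact Van.congr ((good_finset hA B hB hP _ k.1 le_rfl).1 i)
        (Submodule.comapSubtypeEquivOfLe (Submodule.restrictScalars_mono A (hle k))).symm
  · have hlift : ∀ y : B ⊗[A] ↥(J.restrictScalars A), ∃ k, ∃ w,
        (Submodule.inclusion (Submodule.restrictScalars_mono A (hle k))).lTensor B w = y := by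
      intro y
      induction y using TensorProduct.induction_on with
      | zero => exact ⟨Classical.arbitrary κ, 0, map_zero _⟩
      | tmul b q =>
        obtain ⟨k, hk⟩ := hcov q q.2
        exact ⟨k, b ⊗ₜ[A] ⟨q, hk⟩, rfl⟩
      | add a b ha hb =>
        obtain ⟨k, a, rfl⟩ := ha
        obtain ⟨l, b, rfl⟩ := hb
        obtain ⟨m, hk, hl⟩ := hdir k l
        refine ⟨m, (Submodule.inclusion (Submodule.restrictScalars_mono A hk)).lTensor B a +
          (Submodule.inclusion (Submodule.restrictScalars_mono A hl)).lTensor B b, ?_⟩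
        rw [map_add, ← LinearMap.lTensor_comp_apply, ← LinearMap.lTensor_comp_apply]
        rfl
    rw [injective_iff_map_eq_zero]
    intro y hy
    obtain ⟨k, w, rfl⟩ := hlift y
    rw [← mem_range_img_of_le B (hle k)] at hy
    rw [(good_finset hA B hB hP _ k.1 le_rfl).2 (hy.trans (map_zero _).symm), map_zero]

include hA hB hP in
theorem van_of_surjective [Module.Flat A P] {C : Type u} [CommRing C] [Algebra A C] (hC : Perf p C)
    (π : P →ₐ[A] C) (hπ : Function.Surjective π) (i : ℕ) : Van A B C i := by
  let J : Ideal P := RingHom.ker π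
  have hJ : J.IsRadical := fun x ⟨k, hk⟩ => by
    have h1 : π x ^ p ^ k = 0 ^ p ^ k := by
      rw [zero_pow (pow_ne_zero k hp.out.ne_zero),
        ← Nat.sub_add_cancel (Nat.lt_pow_self (n := k) hp.out.one_lt).le, pow_add, ← map_pow π x k,
        show π (x ^ k) = 0 from hk, mul_zero]
    exact pow_inj hC k h1
  obtain ⟨g1, g2⟩ := good_radical hA B hB hP hJ
  have hex : Function.Exact (J.restrictScalars A).subtype π.toLinearMap := fun x =>
    ⟨fun hx => ⟨⟨x, hx⟩, rfl⟩, fun ⟨y, hy⟩ => hy ▸ (y.2 : π (y : P) = 0)⟩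
  cases i with
  | zero =>
    exact Van.right_zero (Submodule.injective_subtype _) hπ hex (van_of_flat_right _ 0) g2
  | succ i =>
    exact Van.right (Submodule.injective_subtype _) hπ hex (van_of_flat_right _ (i + 1)) (g1 i)

end Main

/-! ### Free perfect algebras -/

section Free

variable (p : ℕ) [hp : Fact p.Prime]

/-- The nonnegative rationals with denominator a power of `p`. -/
def Dy : AddSubmonoid ℚ where
  carrier := {q | ∃ n m : ℕ, q * (p : ℚ) ^ n = m}
  zero_mem' := ⟨0, 0, by simp⟩
  add_mem' := by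
    rintro a b ⟨n, m, h⟩ ⟨n', m', h'⟩
    refine ⟨n + n', m * p ^ n' + m' * p ^ n, ?_⟩
    push_cast
    rw [← h, ← h']
    ring

theorem smul_bijective : Function.Bijective fun d : Dy p => p • d := by
  have hp0 : (p : ℚ) ≠ 0 := Nat.cast_ne_zero.mpr hp.out.ne_zero
  refine ⟨fun a b hab => Subtype.ext ?_, fun ⟨q, n, m, h⟩ => ⟨⟨q / p, n + 1, m, ?_⟩, Subtype.ext ?_⟩⟩
  · have := congrArg Subtype.val hab
    simp only [AddSubmonoidClass.coe_nsmul, nsmul_eq_mul] at this
    exact mul_left_cancel₀ hp0 this
  · rw [pow_succ, ← h]; field_simp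
  · simp only [AddSubmonoidClass.coe_nsmul, nsmul_eq_mul]
    field_simp

theorem finsupp_smul_bijective (ι : Type u) : Function.Bijective fun d : ι →₀ Dy p => p • d := by
  classical
  refine ⟨fun a b hab => Finsupp.ext fun i => (smul_bijective p).1 ?_, fun d => ?_⟩
  · simpa using congrArg (fun t : ι →₀ Dy p => t i) hab
  · induction d using Finsupp.induction_linear with
    | zero => exact ⟨0, smul_zero p⟩
    | add a b ha hb =>
      obtain ⟨a, rfl⟩ := ha
      obtain ⟨b, rfl⟩ := hb
      exact ⟨a + b, smul_add p a b⟩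
    | single i q =>
      obtain ⟨q', rfl⟩ := (smul_bijective p).2 q
      exact ⟨Finsupp.single i q', (Finsupp.smul_single _ _ _)⟩

variable {p} {A : Type u} [CommRing A] (hA : Perf p A)

include hA in
theorem perf_monoidAlgebra (ι : Type u) : Perf p (AddMonoidAlgebra A (ι →₀ Dy p)) := by
  have h0 : (p : AddMonoidAlgebra A (ι →₀ Dy p)) = 0 := by
    rw [← map_natCast (algebraMap A (AddMonoidAlgebra A (ι →₀ Dy p))), hA.zero, map_zero]
  have hcoeff : ∀ (x : AddMonoidAlgebra A (ι →₀ Dy p)) (γ : ι →₀ Dy p),
      (x ^ p).coeff (p • γ) = x.coeff γ ^ p := by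
    intro x γ
    induction x using AddMonoidAlgebra.induction_linear with
    | zero => simp [zero_pow hp.out.ne_zero]
    | add a b ha hb =>
      rw [add_pow_p h0, AddMonoidAlgebra.coeff_add, Finsupp.add_apply, ha, hb,
        AddMonoidAlgebra.coeff_add, Finsupp.add_apply, add_pow_p hA.zero]
    | single d a =>
      classical
      rw [AddMonoidAlgebra.single_pow, AddMonoidAlgebra.coeff_single, AddMonoidAlgebra.coeff_single,
        Finsupp.single_apply, Finsupp.single_apply]
      by_cases hd : d = γ
      · simp [hd]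
      · rw [if_neg hd, if_neg fun h => hd ((finsupp_smul_bijective p ι).1 h), zero_pow hp.out.ne_zero]
  refine ⟨h0, fun x y hxy => ?_, fun x => ?_⟩
  · refine AddMonoidAlgebra.coeff_injective (Finsupp.ext fun γ => hA.bij.1 ?_)
    show x.coeff γ ^ p = y.coeff γ ^ p
    rw [← hcoeff, ← hcoeff]
    exact congrArg (fun t : AddMonoidAlgebra A (ι →₀ Dy p) => t.coeff (p • γ)) hxy
  · induction x using AddMonoidAlgebra.induction_linear with
    | zero => exact ⟨0, zero_pow hp.out.ne_zero⟩
    | add a b ha hb =>
      obtain ⟨a, rfl⟩ := ha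
      obtain ⟨b, rfl⟩ := hb
      exact ⟨a + b, add_pow_p h0 a b⟩
    | single d a =>
      obtain ⟨d', rfl⟩ := (finsupp_smul_bijective p ι).2 d
      obtain ⟨a', rfl⟩ := hA.bij.2 a
      exact ⟨AddMonoidAlgebra.single d' a', AddMonoidAlgebra.single_pow _ _ _⟩

variable {C : Type u} [CommRing C] (hC : Perf p C)

/-- Powers with exponent in `Dy p`. -/
noncomputable def dpow (c : C) (d : Dy p) : C :=
  (root hC)^[d.2.choose] (c ^ d.2.choose_spec.choose)

theorem dpow_spec (c : C) (d : Dy p) {N M : ℕ} (h : (d : ℚ) * (p : ℚ) ^ N = M) :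
    dpow hC c d ^ p ^ N = c ^ M := by
  refine pow_inj hC d.2.choose ?_
  rw [← pow_mul, mul_comm, pow_mul, dpow, root_iter_pow, ← pow_mul, ← pow_mul]
  congr 1
  have h' := d.2.choose_spec.choose_spec
  apply Nat.cast_injective (R := ℚ)
  push_cast
  rw [← h', ← h]
  ring

/-- The monoid map `Γ → C`. -/
noncomputable def expHom : Multiplicative (C →₀ Dy p) →* C where
  toFun γ := (Multiplicative.toAdd γ).prod (dpow hC)
  map_one' := Finsupp.prod_zero_index
  map_mul' γ δ := by
    rw [toAdd_mul]
    refine Finsupp.prod_add_index' (fun c => ?_) fun c d d' => ?_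
    · have := dpow_spec hC c (0 : Dy p) (N := 0) (M := 0) (by simp)
      simpa using this
    · obtain ⟨n, m, h⟩ := d.2
      obtain ⟨n', m', h'⟩ := d'.2
      refine pow_inj hC (n + n') ?_
      have e : ((d + d' : Dy p) : ℚ) * (p : ℚ) ^ (n + n') = ((m * p ^ n' + m' * p ^ n : ℕ) : ℚ) := by
        rw [AddSubmonoid.coe_add]
        push_cast
        rw [← h, ← h']
        ring
      rw [dpow_spec hC c _ e, mul_pow, pow_add c]
      congr 1
      · rw [pow_add p, pow_mul (dpow hC c d), dpow_spec hC c d h, pow_mul]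
      · rw [pow_add p, mul_comm (p ^ n), pow_mul (dpow hC c d'), dpow_spec hC c d' h', pow_mul]

variable [Algebra A C]

include hC in
theorem exists_cover :
    ∃ π : AddMonoidAlgebra A (C →₀ Dy p) →ₐ[A] C, Function.Surjective π := by
  refine ⟨AddMonoidAlgebra.lift A C (C →₀ Dy p) (expHom hC), fun c => ?_⟩
  let one : Dy p := ⟨1, 0, 1, by simp⟩
  refine ⟨AddMonoidAlgebra.single (Finsupp.single c one) 1, ?_⟩
  rw [AddMonoidAlgebra.lift_single, one_smul]
  show (Finsupp.single c one).prod (dpow hC) = c
  have h0 : dpow hC c (0 : Dy p) = 1 := by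
    simpa using dpow_spec hC c (0 : Dy p) (N := 0) (M := 0) (by simp)
  rw [Finsupp.prod_single_index h0]
  simpa using dpow_spec hC c one (N := 0) (M := 1) (by simp [one])

include hA hC in
/-- Perfect algebras over a perfect ring are Tor-independent. -/
theorem van (B : Type u) [CommRing B] [Algebra A B] (hB : Perf p B) (i : ℕ) : Van A B C i := by
  obtain ⟨π, hπ⟩ := exists_cover (A := A) hC
  haveI : Module.Free A (AddMonoidAlgebra A (C →₀ Dy p)) :=
    Module.Free.of_equiv (AddMonoidAlgebra.coeffLinearEquiv A).symm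
  exact van_of_surjective hA B hB (perf_monoidAlgebra hA C) hC π hπ i

end Free

end Groth.L04.PerfTor
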