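import Groth.Agent.L10.DRing.InjAmp
import Groth.Agent.L10.InjAmpGen
import Groth.Agent.L04.InjNoeth
import Mathlib.Algebra.Category.ModuleCat.ChangeOfRings
import Mathlib.Algebra.Category.ModuleCat.EnoughInjectives
import Mathlib.CategoryTheory.Abelian.Injective.Dimension
import Mathlib.RingTheory.Flat.CategoryTheory
import Mathlib.RingTheory.Polynomial.Basic
import Mathlib.Algebra.Polynomial.Basis
import Mathlib.LinearAlgebra.TensorProduct.Basis

/-!
# Injective dimension of `A[X] ⊗ E`
-/

set_option autoImplicit false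
set_option backward.isDefEq.respectTransparency false

universe u

open CategoryTheory CategoryTheory.Limits CategoryTheory.Abelian
open scoped TensorProduct Polynomial

noncomputable section

attribute [local instance] HasDerivedCategory.standard

namespace Groth.L04.PolyInjDim

variable {A : Type u} [CommRing A]

/-- The characteristic sequence of a module over a polynomial ring. -/
def charMap (C : Type u) [AddCommGroup C] [Module A C] [Module A[X] C] [IsScalarTower A A[X] C] :
    A[X] ⊗[A] C →ₗ[A[X]] A[X] ⊗[A] C :=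
  TensorProduct.AlgebraTensorModule.map ((Polynomial.X : A[X]) • LinearMap.id) LinearMap.id -
    TensorProduct.AlgebraTensorModule.map LinearMap.id
      (((Polynomial.X : A[X]) • LinearMap.id : C →ₗ[A[X]] C).restrictScalars A)

variable (C : Type u) [AddCommGroup C] [Module A C] [Module A[X] C] [IsScalarTower A A[X] C]

theorem charMap_tmul (p : A[X]) (c : C) :
    charMap (A := A) C (p ⊗ₜ c) = (Polynomial.X * p) ⊗ₜ c - p ⊗ₜ ((Polynomial.X : A[X]) • c) := by
  simp [charMap]

theorem charMap_injective : Function.Injective (charMap (A := A) C) := by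
  refine (injective_iff_map_eq_zero _).2 fun z hz => ?_
  classical
  let θ := TensorProduct.equivFinsuppOfBasisLeft (R := A) (N := C) (Polynomial.basisMonomials A)
  have hθ : ∀ (w : A[X] ⊗[A] C) (n : ℕ),
      θ (charMap (A := A) C w) (n + 1) = θ w n - (Polynomial.X : A[X]) • θ w (n + 1) := by
    intro w n
    induction w with
    | zero => simp
    | add a b ha hb =>
      simp only [map_add, Finsupp.add_apply, ha, hb, smul_add]
      abel
    | tmul p c =>
      simp only [θ, charMap_tmul, map_sub, Finsupp.sub_apply,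
        TensorProduct.equivFinsuppOfBasisLeft_apply_tmul_apply]
      have hr : ∀ (q : A[X]) (m : ℕ), (Polynomial.basisMonomials A).repr q m = q.coeff m := fun _ _ => rfl
      rw [hr, hr, hr, Polynomial.coeff_X_mul, smul_comm]
  have h : ∀ n, θ z n = (Polynomial.X : A[X]) • θ z (n + 1) := fun n => by
    have := hθ z n
    rw [hz, map_zero, Finsupp.zero_apply] at this
    exact sub_eq_zero.1 this.symm
  obtain ⟨N, hN⟩ := ((θ z).support.finite_toSet.bddAbove)
  have hbig : ∀ n, N < n → θ z n = 0 := fun n hn =>
    Finsupp.notMem_support_iff.1 fun hmem => absurd (hN hmem) (by omega)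
  have hall : ∀ k n, n + k = N + 1 → θ z n = 0 := by
    intro k
    induction k with
    | zero => exact fun n hn => hbig n (by omega)
    | succ k ih => exact fun n hn => by rw [h, ih (n + 1) (by omega), smul_zero]
  refine θ.injective (Finsupp.ext fun n => ?_)
  rw [map_zero, Finsupp.zero_apply]
  rcases lt_or_ge N n with hn | hn
  · exact hbig n hn
  · exact hall (N + 1 - n) n (by omega)

end Groth.L04.PolyInjDim

namespace Groth.L04.PolyInjDim

variable (A : Type u) [CommRing A] [IsNoetherianRing A] (E : Type u) [AddCommGroup E] [Module A E]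
  [Module.Injective A E]

theorem injective_of_linearEquiv {R M N : Type u} [CommRing R] [AddCommGroup M] [AddCommGroup N] [Module R M]
    [Module R N] (e : M ≃ₗ[R] N) (h : Module.Injective R M) : Module.Injective R N := by
  haveI : Injective (ModuleCat.of R M) := Module.injective_object_of_injective_module R M
  haveI : Injective (ModuleCat.of R N) := Injective.of_iso e.toModuleIso inferInstance
  exact Module.injective_module_of_injective_object R N

theorem injective_polyTensor : Module.Injective A (A[X] ⊗[A] E) := by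
  classical
  exact injective_of_linearEquiv
    ((TensorProduct.equivFinsuppOfBasisLeft (Polynomial.basisMonomials A)).trans (finsuppLEquivDirectSum A E ℕ)).symm
    (Groth.L04.injective_directSum fun _ => inferInstance)

theorem injective_restrict {I : Type u} [AddCommGroup I] [Module A[X] I] [Module A I] [IsScalarTower A A[X] I]
    (hI : Module.Injective A[X] I) : Module.Injective A I := by
  refine Module.Baer.injective fun J g => ?_
  obtain ⟨h, hh⟩ := hI.out (J.subtype.baseChange A[X])
    (Module.Flat.lTensor_preserves_injective_linearMap (M := A[X]) J.subtype J.injective_subtype) (g.liftBaseChange A[X])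
  refine ⟨(h.restrictScalars A) ∘ₗ TensorProduct.mk A A[X] A 1, fun x hx => ?_⟩
  have := hh ((1 : A[X]) ⊗ₜ (⟨x, hx⟩ : J))
  simpa using this

/-- An `A`-linear map commuting with `X` is `A[X]`-linear. -/
def linearOfCommX {V Q : Type u} [AddCommGroup V] [Module A[X] V] [Module A V] [IsScalarTower A A[X] V]
    [AddCommGroup Q] [Module A[X] Q] [Module A Q] [IsScalarTower A A[X] Q] (f : V →ₗ[A] Q)
    (hf : ∀ v, f ((Polynomial.X : A[X]) • v) = (Polynomial.X : A[X]) • f v) : V →ₗ[A[X]] Q where
  toFun := f
  map_add' := f.map_add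
  map_smul' p v := by
    rw [RingHom.id_apply]
    induction p using Polynomial.induction_on generalizing v with
    | C a => rw [← Polynomial.algebraMap_eq, algebraMap_smul, algebraMap_smul, map_smul]
    | add p q hp hq => rw [add_smul, add_smul, map_add, hp, hq]
    | monomial n a ih =>
      rw [pow_succ, ← mul_assoc, mul_smul, ih, hf, ← mul_smul]

theorem injective_quotient {I Q : Type u} [AddCommGroup I] [Module A[X] I] [Module A I] [IsScalarTower A A[X] I]
    [AddCommGroup Q] [Module A[X] Q] [Module A Q] [IsScalarTower A A[X] Q]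
    (hI : Module.Injective A[X] I) (q : I →ₗ[A[X]] Q) (sec : Q →ₗ[A] I) (hsec : ∀ y, q (sec y) = y) :
    Module.Injective A[X] Q := by
  have hQA : Module.Injective A Q := ⟨fun X Y _ _ _ _ f hf g => by
    obtain ⟨h, hh⟩ := (injective_restrict A hI).out f hf (sec ∘ₗ g)
    exact ⟨(q.restrictScalars A) ∘ₗ h, fun x => by
      change q (h (f x)) = g x
      rw [hh]
      exact hsec _⟩⟩
  refine ⟨fun U V _ _ _ _ ι hι g => ?_⟩
  letI : Module A U := Module.compHom U (algebraMap A A[X])
  haveI : IsScalarTower A A[X] U := IsScalarTower.of_algebraMap_smul fun _ _ => rfl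
  letI : Module A V := Module.compHom V (algebraMap A A[X])
  haveI : IsScalarTower A A[X] V := IsScalarTower.of_algebraMap_smul fun _ _ => rfl
  obtain ⟨h₀, hh₀⟩ := hQA.out (ι.restrictScalars A) hι (g.restrictScalars A)
  simp only [LinearMap.coe_restrictScalars] at hh₀
  let xQ : Q →ₗ[A] Q := ((Polynomial.X : A[X]) • LinearMap.id : Q →ₗ[A[X]] Q).restrictScalars A
  let xV : V →ₗ[A] V := ((Polynomial.X : A[X]) • LinearMap.id : V →ₗ[A[X]] V).restrictScalars A
  let δ : V →ₗ[A] Q := xQ ∘ₗ h₀ - h₀ ∘ₗ xV
  let W := V ⧸ LinearMap.range ι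
  have hδ : (LinearMap.range ι).restrictScalars A ≤ LinearMap.ker δ := by
    rintro _ ⟨u, rfl⟩
    change (Polynomial.X : A[X]) • h₀ (ι u) - h₀ ((Polynomial.X : A[X]) • ι u) = 0
    rw [← map_smul ι, hh₀, hh₀, map_smul, sub_self]
  let d₀ : W →ₗ[A] Q := (((LinearMap.range ι).restrictScalars A).liftQ δ hδ) ∘ₗ
    (Submodule.Quotient.restrictScalarsEquiv A (LinearMap.range ι)).symm.toLinearMap
  obtain ⟨k', hk'⟩ := hI.out (charMap (A := A) W) (charMap_injective (A := A) W) ((sec ∘ₗ d₀).liftBaseChange A[X])
  let k₀ : W →ₗ[A] Q := (q.restrictScalars A) ∘ₗ (k'.restrictScalars A) ∘ₗ TensorProduct.mk A A[X] W 1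
  have hk₀ : ∀ w : W, (Polynomial.X : A[X]) • k₀ w - k₀ ((Polynomial.X : A[X]) • w) = d₀ w := by
    intro w
    have := congrArg q (hk' ((1 : A[X]) ⊗ₜ w))
    rw [charMap_tmul, mul_one, LinearMap.liftBaseChange_tmul, one_smul] at this
    refine Eq.trans ?_ (this.trans (hsec _))
    change (Polynomial.X : A[X]) • q (k' ((1 : A[X]) ⊗ₜ w)) - q (k' ((1 : A[X]) ⊗ₜ ((Polynomial.X : A[X]) • w))) = _
    rw [map_sub, map_sub, ← map_smul q, ← map_smul k', TensorProduct.smul_tmul', smul_eq_mul, mul_one]
  let mk : V →ₗ[A] W := (LinearMap.range ι).mkQ.restrictScalars A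
  refine ⟨linearOfCommX A (h₀ - k₀ ∘ₗ mk) fun v => ?_, fun u => ?_⟩
  · change h₀ ((Polynomial.X : A[X]) • v) - k₀ ((LinearMap.range ι).mkQ ((Polynomial.X : A[X]) • v)) =
      (Polynomial.X : A[X]) • (h₀ v - k₀ ((LinearMap.range ι).mkQ v))
    rw [LinearMap.map_smul (LinearMap.range ι).mkQ, smul_sub]
    have h1 := hk₀ ((LinearMap.range ι).mkQ v)
    change _ = (Polynomial.X : A[X]) • h₀ v - h₀ ((Polynomial.X : A[X]) • v) at h1
    linear_combination (norm := abel) h1
  · change h₀ (ι u) - k₀ ((LinearMap.range ι).mkQ (ι u)) = g u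
    rw [Submodule.mkQ_apply, (Submodule.Quotient.mk_eq_zero _).2 (LinearMap.mem_range_self ι u), map_zero, sub_zero]
    exact hh₀ u

theorem exists_shortExact_injective :
    ∃ S : ShortComplex (ModuleCat.{u} A[X]), S.ShortExact ∧ S.X₁ = ModuleCat.of A[X] (A[X] ⊗[A] E) ∧
      Injective S.X₂ ∧ Injective S.X₃ := by
  let M : ModuleCat.{u} A[X] := ModuleCat.of A[X] (A[X] ⊗[A] E)
  let I : ModuleCat.{u} A[X] := Injective.under M
  let j : A[X] ⊗[A] E →ₗ[A[X]] I := (Injective.ι M).hom
  have hj : Function.Injective j := (ModuleCat.mono_iff_injective _).1 (inferInstance : Mono (Injective.ι M))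
  let T : ModuleCat.{u} A[X] := ModuleCat.of A[X] (I ⧸ LinearMap.range j)
  let S : ShortComplex (ModuleCat.{u} A[X]) :=
    ShortComplex.mk (X₁ := M) (X₂ := I) (X₃ := T) (ModuleCat.ofHom j) (ModuleCat.ofHom (LinearMap.range j).mkQ)
      (by ext1; exact LinearMap.range_mkQ_comp j)
  have hS : S.ShortExact :=
    { exact := ShortComplex.Exact.moduleCat_of_range_eq_ker _ _ (Submodule.ker_mkQ _).symm
      mono_f := (ModuleCat.mono_iff_injective _).2 hj
      epi_g := (ModuleCat.epi_iff_surjective _).2 (Submodule.mkQ_surjective _) }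
  haveI hI : Injective I := (inferInstance : Injective (Injective.under M))
  letI : Module A I := Module.compHom I (algebraMap A A[X])
  haveI : IsScalarTower A A[X] I := IsScalarTower.of_algebraMap_smul fun _ _ => rfl
  obtain ⟨r, hr⟩ := (injective_polyTensor A E).out (j.restrictScalars A) hj LinearMap.id
  simp only [LinearMap.coe_restrictScalars, LinearMap.id_coe, id_eq] at hr
  let s₀ : I →ₗ[A] I := LinearMap.id - (j.restrictScalars A) ∘ₗ r
  have hs₀ : (LinearMap.range j).restrictScalars A ≤ LinearMap.ker s₀ := by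
    rintro _ ⟨x, rfl⟩
    change j x - j (r (j x)) = 0
    rw [hr, sub_self]
  let sec : (I ⧸ LinearMap.range j) →ₗ[A] I := (((LinearMap.range j).restrictScalars A).liftQ s₀ hs₀) ∘ₗ
    (Submodule.Quotient.restrictScalarsEquiv A (LinearMap.range j)).symm.toLinearMap
  have hI' : Module.Injective A[X] I := Module.injective_module_of_injective_object A[X] I
  have hT := injective_quotient A hI' (LinearMap.range j).mkQ sec (fun y => by
    obtain ⟨y, rfl⟩ := Submodule.mkQ_surjective _ y
    change Submodule.Quotient.mk (y - j (r y)) = Submodule.Quotient.mk y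
    rw [Submodule.Quotient.eq, sub_sub_cancel_left]
    exact neg_mem (LinearMap.mem_range_self _ _))
  exact ⟨S, hS, rfl, hI, Module.injective_object_of_injective_module A[X] (I ⧸ LinearMap.range j)⟩

theorem injAmplitude : DRing.HasInjAmplitudeIn A[X] 0 1 (Dual.inD A[X] (A[X] ⊗[A] E)) := by
  obtain ⟨S, hS, h1, h2, h3⟩ := exists_shortExact_injective A E
  refine Groth.L10.DR.injAmp_of_vanishing fun J i hi => subsingleton_of_forall_eq 0 fun φ => ?_
  have hv : ∀ (W : ModuleCat.{u} A[X]), Injective W → ∀ j : ℤ, j ≠ 0 →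
      ∀ ψ : (DerivedCategory.singleFunctor _ 0).obj (ModuleCat.of A[X] (A[X] ⧸ J)) ⟶
        ((DerivedCategory.singleFunctor _ 0).obj W)⟦j⟧, ψ = 0 := by
    intro W hW j hj
    haveI := hW
    refine Groth.L10.InjAmpGen.vanish_of_complex (a := 0) (b := 0) ((CochainComplex.singleFunctor _ 0).obj W)
      (fun n => ?_) (fun n hn => ?_) ((DerivedCategory.singleFunctorIsoCompQ _ 0).app W).symm _ j (by omega)
    · by_cases h : n = 0
      · subst h
        exact Injective.of_iso (HomologicalComplex.singleObjXSelf (ComplexShape.up ℤ) 0 W).symm hW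
      · exact IsZero.injective (HomologicalComplex.isZero_single_obj_X _ _ _ _ h)
    · exact HomologicalComplex.isZero_single_obj_X _ _ _ _ (by omega)
  have hM : Dual.inD A[X] (A[X] ⊗[A] E) = (DerivedCategory.singleFunctor _ 0).obj S.X₁ := by rw [h1]
  revert φ
  rw [hM]
  intro φ
  obtain ⟨ψ, hψ⟩ := Pretriangulated.Triangle.coyoneda_exact₂ _
    (Pretriangulated.inv_rot_of_distTriang _ (Pretriangulated.Triangle.shift_distinguished _ hS.singleTriangle_distinguished i))
    φ (hv _ h2 i (by omega) _)
  have h0 : ψ = 0 := by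
    let σ := (shiftFunctorAdd' (Dual.D A[X]) i (-1) (i - 1) (by omega)).app ((DerivedCategory.singleFunctor _ 0).obj S.X₃)
    have := hv _ h3 (i - 1) (by omega) (ψ ≫ σ.inv)
    exact (cancel_mono σ.inv).1 (this.trans zero_comp.symm)
  rw [hψ, h0, zero_comp]

end Groth.L04.PolyInjDim
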