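import Groth.Agent.L04.DepthLoc

/-!
# Regular sequences spread out to open neighbourhoods
-/

universe u

open RingTheory.Sequence Ideal IsLocalRing
open scoped Pointwise

namespace Groth.L04

variable {R : Type u} [CommRing R]

theorem isLocalizedModule_quotSMulTop {M N : Type u} [AddCommGroup M] [Module R M] [AddCommGroup N]
    [Module R N] (r : R) (T : Submonoid R) (f : M →ₗ[R] N) [IsLocalizedModule T f] :
    IsLocalizedModule T (QuotSMulTop.map r f) where
  map_units t := by
    have hu := (Module.End.isUnit_iff _).1 (IsLocalizedModule.map_units f t)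
    rw [Module.End.isUnit_iff]
    constructor
    · intro x y hxy
      obtain ⟨x, rfl⟩ := Submodule.mkQ_surjective _ x
      obtain ⟨y, rfl⟩ := Submodule.mkQ_surjective _ y
      rw [Module.algebraMap_end_apply, Module.algebraMap_end_apply, ← map_smul, ← map_smul,
        Submodule.mkQ_apply, Submodule.mkQ_apply, Submodule.Quotient.eq] at hxy
      obtain ⟨w, -, hw⟩ := (Submodule.mem_smul_pointwise_iff_exists _ _ _).1 hxy
      obtain ⟨w', hw'⟩ := hu.2 w
      rw [Module.algebraMap_end_apply] at hw'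
      rw [Submodule.mkQ_apply, Submodule.mkQ_apply, Submodule.Quotient.eq]
      refine (Submodule.mem_smul_pointwise_iff_exists _ _ _).2 ⟨w', trivial, hu.1 ?_⟩
      rw [Module.algebraMap_end_apply, Module.algebraMap_end_apply, smul_comm, hw', hw, smul_sub]
    · intro x
      obtain ⟨x, rfl⟩ := Submodule.mkQ_surjective _ x
      obtain ⟨y, hy⟩ := hu.2 x
      refine ⟨Submodule.mkQ _ y, ?_⟩
      rw [Module.algebraMap_end_apply] at hy ⊢
      rw [← map_smul, hy]
  surj y := by
    obtain ⟨y, rfl⟩ := Submodule.mkQ_surjective _ y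
    obtain ⟨⟨m, t⟩, e⟩ := IsLocalizedModule.surj T f y
    exact ⟨⟨Submodule.mkQ _ m, t⟩, congrArg (Submodule.mkQ (r • (⊤ : Submodule R N))) e⟩
  exists_of_eq := by
    intro x₁ x₂ e
    obtain ⟨x₁, rfl⟩ := Submodule.mkQ_surjective _ x₁
    obtain ⟨x₂, rfl⟩ := Submodule.mkQ_surjective _ x₂
    have e' : f x₁ - f x₂ ∈ r • (⊤ : Submodule R N) := (Submodule.Quotient.eq _).1 e
    obtain ⟨w, -, hw⟩ := (Submodule.mem_smul_pointwise_iff_exists _ _ _).1 e'
    obtain ⟨⟨m, t⟩, hm⟩ := IsLocalizedModule.surj T f w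
    have : f ((t : R) • (x₁ - x₂) - r • m) = 0 := by
      rw [map_sub, map_smul, map_sub, map_smul, ← hw, smul_comm, ← hm, Submonoid.smul_def, sub_self]
    obtain ⟨t', ht'⟩ := (IsLocalizedModule.eq_zero_iff T f).1 this
    refine ⟨t' * t, ?_⟩
    rw [Submonoid.smul_def] at ht' ⊢
    rw [← map_smul, Submonoid.smul_def, ← map_smul, Submodule.mkQ_apply, Submodule.mkQ_apply,
      Submodule.Quotient.eq]
    refine (Submodule.mem_smul_pointwise_iff_exists _ _ _).2 ⟨(t' : R) • m, trivial, ?_⟩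
    rw [smul_sub, sub_eq_zero] at ht'
    rw [Submonoid.coe_mul, ← smul_sub, mul_smul, ht', smul_comm]

theorem exists_isWeaklyRegular_nhd [IsNoetherianRing R] (p : Ideal R) [p.IsPrime] :
    ∀ (rs : List R) (M N : Type u) [AddCommGroup M] [Module R M] [Module.Finite R M]
      [AddCommGroup N] [Module R N] (φ : M →ₗ[R] N) [IsLocalizedModule p.primeCompl φ],
      IsWeaklyRegular N rs →
      ∃ g : R, g ∉ p ∧ ∀ (T : Submonoid R), (∃ t ∈ T, g ∣ t) → ∀ (N' : Type u) [AddCommGroup N'] [Module R N']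
        (φ' : M →ₗ[R] N') [IsLocalizedModule T φ'], IsWeaklyRegular N' rs
  | [], _, _, _, _, _, _, _, _, _, _ => ⟨1, fun h => ‹p.IsPrime›.ne_top ((Ideal.eq_top_iff_one _).2 h),
      fun _ _ _ _ _ _ _ => IsWeaklyRegular.nil R _⟩
  | r :: rs, M, N, _, _, _, _, _, φ, _, h => by
    rw [isWeaklyRegular_cons_iff] at h
    haveI := isLocalizedModule_quotSMulTop r p.primeCompl φ
    obtain ⟨g₁, hg₁, H₁⟩ := exists_isWeaklyRegular_nhd p rs (QuotSMulTop r M) (QuotSMulTop r N)
      (QuotSMulTop.map r φ) h.2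
    let K : Submodule R M := LinearMap.ker (LinearMap.lsmul R M r)
    obtain ⟨S, hS⟩ := (IsNoetherian.noetherian K)
    have hkill : ∀ k ∈ K, ∃ c : p.primeCompl, c • k = 0 := fun k hk => by
      refine (IsLocalizedModule.eq_zero_iff p.primeCompl φ).1 (h.1 ?_)
      simp only [smul_zero]
      rw [← map_smul, show r • k = 0 from hk, map_zero]
    choose c hc using hkill
    classical
    let g₀ : R := ∏ k ∈ S.attach, (c k (hS ▸ Submodule.subset_span k.2) : R)
    have hg₀ : g₀ ∉ p := by
      have : g₀ ∈ p.primeCompl := Submonoid.prod_mem _ fun k _ => (c _ _).2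
      exact this
    have hKg : ∀ k ∈ K, g₀ • k = 0 := by
      intro k hk
      rw [← hS] at hk
      induction hk using Submodule.span_induction with
      | mem x hx =>
        have hxK : x ∈ K := hS ▸ Submodule.subset_span hx
        obtain ⟨d, hd⟩ : (c x hxK : R) ∣ g₀ :=
          Finset.dvd_prod_of_mem (fun k : {x // x ∈ S} => (c k (hS ▸ Submodule.subset_span k.2) : R))
            (Finset.mem_attach S ⟨x, hx⟩)
        rw [hd, mul_comm, mul_smul, ← Submonoid.smul_def, hc x hxK, smul_zero]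
      | zero => simp
      | add x y _ _ hx hy => rw [smul_add, hx, hy, add_zero]
      | smul a x _ hx => rw [smul_comm, hx, smul_zero]
    refine ⟨g₁ * g₀ , fun hh => (‹p.IsPrime›.mem_or_mem hh).elim hg₁ hg₀, ?_⟩
    intro T hT' N' _ _ φ' _
    obtain ⟨t₀, hT, d, hd⟩ := hT'
    rw [isWeaklyRegular_cons_iff]
    refine ⟨?_, ?_⟩
    · rw [isSMulRegular_iff_right_eq_zero_of_smul]
      intro x hx
      obtain ⟨⟨m, t⟩, rfl⟩ := IsLocalizedModule.mk'_surjective T φ' x
      simp only [Function.uncurry_apply_pair] at hx ⊢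
      rw [← IsLocalizedModule.mk'_smul, IsLocalizedModule.mk'_eq_zero'] at hx
      obtain ⟨s, hs⟩ := hx
      rw [IsLocalizedModule.mk'_eq_zero']
      have hmem : (s : R) • m ∈ K := by
        show r • (s : R) • m = 0
        rw [smul_comm]; exact hs
      refine ⟨⟨t₀, hT⟩ * s, ?_⟩
      rw [Submonoid.smul_def, Submonoid.coe_mul, mul_smul]
      show t₀ • (s : R) • m = 0
      rw [hd, show g₁ * g₀ * d = (g₁ * d) * g₀ by ring, mul_smul, hKg _ hmem, smul_zero]
    · haveI := isLocalizedModule_quotSMulTop r T φ'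
      exact H₁ T ⟨t₀, hT, g₀ * d, by rw [hd, mul_assoc]⟩ _ (QuotSMulTop.map r φ')

theorem exists_smul_eq_of_mem_smul_top {M : Type u} [AddCommGroup M] [Module R M] {q : Ideal R}
    [q.IsPrime] {J : Ideal R} {w : LocalizedModule q.primeCompl M}
    (hw : w ∈ J.map (algebraMap R (Localization.AtPrime q)) •
      (⊤ : Submodule (Localization.AtPrime q) (LocalizedModule q.primeCompl M))) :
    ∃ s : R, s ∉ q ∧ ∃ y ∈ J • (⊤ : Submodule R M),
      s • w = LocalizedModule.mkLinearMap q.primeCompl M y := by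
  set φ := LocalizedModule.mkLinearMap q.primeCompl M
  refine Submodule.smul_induction_on hw (fun c hc d _ => ?_) ?_
  · obtain ⟨⟨⟨b, hb⟩, t⟩, hbt⟩ := (IsLocalization.mem_map_algebraMap_iff q.primeCompl _).1 hc
    obtain ⟨⟨m, t'⟩, hm⟩ := IsLocalizedModule.surj q.primeCompl φ d
    refine ⟨t * t', (t * t').2, b • m, Submodule.smul_mem_smul hb trivial, ?_⟩
    rw [map_smul, ← hm, Submonoid.smul_def, mul_comm, mul_smul,
      ← algebraMap_smul (Localization.AtPrime q) (t : R) (c • d), smul_smul, mul_comm, hbt,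
      algebraMap_smul, smul_comm]
  · rintro x y ⟨s, hs, a, ha, hxa⟩ ⟨t, ht, b, hb, hyb⟩
    refine ⟨s * t, Ideal.IsPrime.mul_notMem ‹_› hs ht, t • a + s • b,
      add_mem (Submodule.smul_mem _ _ ha) (Submodule.smul_mem _ _ hb), ?_⟩
    rw [map_add, map_smul, map_smul, ← hxa, ← hyb, smul_add, smul_smul, smul_smul, mul_comm t s]

theorem exists_depth_ge_nhd [IsNoetherianRing R] {M : Type u} [AddCommGroup M] [Module R M]
    [Module.Finite R M] (p : Ideal R) [p.IsPrime] (e : ℕ)
    (he : LocCoh.depth (Localization.AtPrime p) (LocalizedModule p.primeCompl M) = e) :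
    ∃ f : R, f ∉ p ∧
      (∀ (q : Ideal R) [q.IsPrime], p ≤ q → f ∉ q →
        (e : ℕ∞) ≤ LocCoh.depth (Localization.AtPrime q) (LocalizedModule q.primeCompl M)) ∧
      {q : PrimeSpectrum R | p ≤ q.asIdeal ∧ f ∉ q.asIdeal ∧
        LocCoh.depth (Localization.AtPrime q.asIdeal) (LocalizedModule q.asIdeal.primeCompl M) =
          e}.Finite := by
  set φ := LocalizedModule.mkLinearMap p.primeCompl M
  have hne : maximalIdeal (Localization.AtPrime p) •
      (⊤ : Submodule (Localization.AtPrime p) (LocalizedModule p.primeCompl M)) ≠ ⊤ := fun h => by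
    rw [LocCoh.depth, idealDepth_eq_top h] at he
    exact ENat.natCast_ne_top e he.symm
  obtain ⟨rs, hlen, hrs, hI⟩ := exists_of_le_idealDepth hne he.ge
  obtain ⟨bs, hbs, hassoc⟩ : ∃ bs : List R, (∀ b ∈ bs, b ∈ p) ∧
      List.Forall₂ Associated rs (bs.map (algebraMap R (Localization.AtPrime p))) := by
    clear hrs hlen
    induction rs with
    | nil => exact ⟨[], by simp, List.Forall₂.nil⟩
    | cons r rs ih =>
      rw [List.forall_mem_cons] at hI
      obtain ⟨bs, h1, h2⟩ := ih hI.2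
      have hr := hI.1
      rw [← Localization.AtPrime.map_eq_maximalIdeal] at hr
      obtain ⟨⟨⟨b, hb⟩, t⟩, hbt⟩ := (IsLocalization.mem_map_algebraMap_iff p.primeCompl _).1 hr
      exact ⟨b :: bs, List.forall_mem_cons.2 ⟨hb, h1⟩,
        List.Forall₂.cons ⟨(IsLocalization.map_units (Localization.AtPrime p) t).unit, hbt⟩ h2⟩
  have hlen' : bs.length = e := by rw [← hlen, hassoc.length_eq, List.length_map]
  obtain ⟨f, hf, hreg⟩ := exists_isWeaklyRegular_nhd p bs M (LocalizedModule p.primeCompl M) φ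
    ((isWeaklyRegular_map_algebraMap_iff _ _ bs).1 (isWeaklyRegular_of_associated hassoc hrs))
  have hwr : ∀ (q : Ideal R) [q.IsPrime], f ∉ q → IsWeaklyRegular
      (LocalizedModule q.primeCompl M) (bs.map (algebraMap R (Localization.AtPrime q))) :=
    fun q _ hfq => (isWeaklyRegular_map_algebraMap_iff _ _ bs).2
      (hreg q.primeCompl ⟨f, hfq, dvd_rfl⟩ _ (LocalizedModule.mkLinearMap q.primeCompl M))
  have hmem : ∀ (q : Ideal R) [q.IsPrime], p ≤ q → ∀ r ∈ bs.map (algebraMap R (Localization.AtPrime q)),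
      r ∈ maximalIdeal (Localization.AtPrime q) := fun q _ hpq r hr => by
    obtain ⟨r, hr', rfl⟩ := List.mem_map.1 hr
    exact (IsLocalization.AtPrime.to_map_mem_maximal_iff _ q r).2 (hpq (hbs r hr'))
  refine ⟨f, hf, fun q _ hpq hfq => le_trans (le_of_eq ?_)
    (length_le_idealDepth (hwr q hfq) (hmem q hpq)), ?_⟩
  · rw [List.length_map, hlen']
  refine Set.Finite.subset ((associatedPrimes.finite R (M ⧸ Ideal.ofList bs • (⊤ : Submodule R M))).preimage
    (fun _ _ _ _ h => PrimeSpectrum.ext h) (f := PrimeSpectrum.asIdeal)) ?_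
  rintro q ⟨hpq, hfq, hq⟩
  show q.asIdeal ∈ associatedPrimes R _
  classical
  set φq := LocalizedModule.mkLinearMap q.asIdeal.primeCompl M
  set J := Ideal.ofList bs
  haveI : Module.Finite (Localization.AtPrime q.asIdeal) (LocalizedModule q.asIdeal.primeCompl M) :=
    Module.Finite.of_isLocalizedModule q.asIdeal.primeCompl φq
  rcases exists_regular_or_killed (maximalIdeal (Localization.AtPrime q.asIdeal))
    (LocalizedModule q.asIdeal.primeCompl M ⧸
      Ideal.ofList (bs.map (algebraMap R (Localization.AtPrime q.asIdeal))) •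
        (⊤ : Submodule (Localization.AtPrime q.asIdeal) (LocalizedModule q.asIdeal.primeCompl M)))
    with ⟨r, hr, hrreg⟩ | ⟨z, hz0, hz⟩
  · have h1 := length_le_idealDepth (I := maximalIdeal (Localization.AtPrime q.asIdeal))
      ((isWeaklyRegular_append_iff _ _ [r]).2 ⟨hwr q.asIdeal hfq, (isWeaklyRegular_singleton_iff _ r).2 hrreg⟩)
      (List.forall_mem_append.2 ⟨hmem q.asIdeal hpq, by simpa using hr⟩)
    rw [← LocCoh.depth, hq, List.length_append, List.length_map, hlen', List.length_singleton] at h1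
    have : e + 1 ≤ e := by exact_mod_cast h1
    omega
  obtain ⟨x, rfl⟩ := Submodule.mkQ_surjective _ z
  obtain ⟨⟨m, t⟩, hm⟩ := IsLocalizedModule.surj q.asIdeal.primeCompl φq x
  have hnot : ∀ c : R, c ∉ q.asIdeal → c • m ∉ J • (⊤ : Submodule R M) := by
    intro c hc hcm
    have h1 := map_mem_smul_top (S := Localization.AtPrime q.asIdeal) φq hcm
    rw [map_smul, ← hm, Submonoid.smul_def, smul_smul,
      ← algebraMap_smul (Localization.AtPrime q.asIdeal) (c * t) x, Ideal.map_ofList] at h1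
    refine hz0 ((Submodule.Quotient.mk_eq_zero _).2 ?_)
    have hu : IsUnit (algebraMap R (Localization.AtPrime q.asIdeal) (c * t)) :=
      IsLocalization.map_units _ (⟨_, Ideal.IsPrime.mul_notMem q.isPrime hc t.2⟩ : q.asIdeal.primeCompl)
    exact (Submodule.smul_mem_iff_of_isUnit _ hu).1 h1
  have hkill : ∀ a ∈ q.asIdeal, ∃ c, c ∉ q.asIdeal ∧ c • a • m ∈ J • (⊤ : Submodule R M) := by
    intro a ha
    have h1 := hz (algebraMap R _ a)
      ((IsLocalization.AtPrime.to_map_mem_maximal_iff _ q.asIdeal a).2 ha)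
    rw [← map_smul, Submodule.mkQ_apply, Submodule.Quotient.mk_eq_zero, algebraMap_smul,
      ← Ideal.map_ofList] at h1
    obtain ⟨s, hs, y, hy, hsy⟩ := exists_smul_eq_of_mem_smul_top (Submodule.smul_of_tower_mem _ (t : R) h1)
    rw [smul_comm (t : R) a x, ← Submonoid.smul_def, hm, ← map_smul, ← map_smul] at hsy
    obtain ⟨u, hu⟩ := (IsLocalizedModule.eq_iff_exists q.asIdeal.primeCompl φq).1 hsy
    refine ⟨u * s, Ideal.IsPrime.mul_notMem q.isPrime u.2 hs, ?_⟩
    rw [mul_smul]
    have hmem' : (u : R) • y ∈ J • (⊤ : Submodule R M) := Submodule.smul_mem _ _ hy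
    rw [Submonoid.smul_def, Submonoid.smul_def] at hu
    rwa [hu]
  choose c hc hcmem using hkill
  obtain ⟨G, hG⟩ := (IsNoetherian.noetherian q.asIdeal)
  let s₀ : R := ∏ a ∈ G.attach, c a (hG ▸ Submodule.subset_span a.2)
  have hs₀ : s₀ ∉ q.asIdeal := by
    intro h
    obtain ⟨a, -, ha⟩ := q.isPrime.prod_mem_iff.1 h
    exact hc _ _ ha
  refine isAssociatedPrime_iff.2 ⟨q.isPrime, Submodule.Quotient.mk (s₀ • m), le_antisymm ?_ ?_⟩
  · conv_lhs => rw [← hG]
    refine Submodule.span_le.2 fun a ha => Submodule.mem_colon_singleton.2 ?_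
    rw [Submodule.mem_bot, ← Submodule.Quotient.mk_smul, Submodule.Quotient.mk_eq_zero]
    obtain ⟨d, hd⟩ : c a (hG ▸ Submodule.subset_span ha) ∣ s₀ :=
      Finset.dvd_prod_of_mem (fun a : {x // x ∈ G} => c a (hG ▸ Submodule.subset_span a.2))
        (Finset.mem_attach G ⟨a, ha⟩)
    rw [hd, mul_comm, mul_smul, smul_comm a d]
    refine Submodule.smul_mem _ d ?_
    rw [smul_comm]
    exact hcmem a _
  · intro b hb
    rw [Submodule.mem_colon_singleton, Submodule.mem_bot, ← Submodule.Quotient.mk_smul,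
      Submodule.Quotient.mk_eq_zero, smul_smul] at hb
    by_contra hbq
    exact hnot _ (Ideal.IsPrime.mul_notMem q.isPrime hbq hs₀) hb

end Groth.L04
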