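import Groth.Agent.L04.TorUniformKill
import Groth.Agent.L01.TorLES
import Groth.Agent.L20.AffineBlowup

/-!
A power of `I` annihilates `Tor_i(A[I/a], M)` for `i` at least the number of generators of `I`.
-/

set_option autoImplicit false
set_option linter.all false
noncomputable section
universe u

open CategoryTheory MonoidalCategory
open scoped TensorProduct

namespace Groth.L04.TorBlowup

open Groth.L01.TorLES

variable {A : Type u} [CommRing A]

theorem killed_iff (K : ChainComplex (ModuleCat.{u} A) ℕ) (k : ℕ) (e : A) :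
    (∀ y : K.homology (k + 1), e • y = 0) ↔
      ∀ x : K.X (k + 1), (K.d (k + 1) k).hom x = 0 → e • x ∈ LinearMap.range (K.d (k + 2) (k + 1)).hom := by
  let S := K.sc' (k + 2) (k + 1) k
  let ε : K.homology (k + 1) ≃ₗ[A] (LinearMap.ker S.g.hom ⧸ LinearMap.range S.moduleCatToCycles) :=
    ((K.homologyIsoSc' (k + 2) (k + 1) k (by simp) (by simp)).trans S.moduleCatHomologyIso).toLinearEquiv
  constructor
  · intro h x hx
    have := h (ε.symm (Submodule.Quotient.mk ⟨x, hx⟩))
    rw [← map_smul, LinearEquiv.map_eq_zero_iff, ← Submodule.Quotient.mk_smul, Submodule.Quotient.mk_eq_zero] at this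
    obtain ⟨w, hw⟩ := this
    exact ⟨w, congrArg Subtype.val hw⟩
  · intro h y
    obtain ⟨⟨x, hx⟩, hxy⟩ := Submodule.Quotient.mk_surjective _ (ε y)
    refine ε.injective ?_
    rw [map_smul, map_zero, ← hxy, ← Submodule.Quotient.mk_smul, Submodule.Quotient.mk_eq_zero]
    obtain ⟨w, hw⟩ := h x hx
    exact ⟨w, Subtype.ext hw⟩

/-- `I^c` kills `H_i(I^n ⊗ Q)` for `i ≥ t` -/
theorem pow_homology_killed [IsNoetherianRing A] {t : ℕ} (a : Fin t → A) : ∃ c : ℕ,
    ∀ (M : ModuleCat.{u} A) (Q : ProjectiveResolution M) (n k : ℕ), t ≤ k + 1 →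
      ∀ e ∈ Ideal.span (Set.range a) ^ c,
        ∀ y : ((cx Q.complex).obj (ModuleCat.of A ↥(Ideal.span (Set.range a) ^ n))).homology (k + 1), e • y = 0 := by
  obtain ⟨c, hc⟩ := Groth.L04.TorUniform.tor_killed a
  refine ⟨c, fun M Q n k hk e he y => ?_⟩
  let I := Ideal.span (Set.range a)
  let S : ShortComplex (ModuleCat.{u} A) := ShortComplex.mk (ModuleCat.ofHom (Submodule.subtype (I ^ n)))
    (ModuleCat.ofHom (Submodule.mkQ (I ^ n))) (by ext x; exact (Submodule.Quotient.mk_eq_zero _).2 x.2)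
  have hS : S.ShortExact :=
    { exact := (ShortComplex.ShortExact.moduleCat_exact_iff_function_exact _).2 (LinearMap.exact_subtype_mkQ _)
      mono_f := (ModuleCat.mono_iff_injective _).2 (Submodule.injective_subtype _)
      epi_g := (ModuleCat.epi_iff_surjective _).2 (Submodule.mkQ_surjective _) }
  have hC := shortExact_cx Q.complex (flat_complex Q) hS
  obtain ⟨ε⟩ := nonempty_tor_iso Q (k + 1)
  obtain ⟨ε'⟩ := nonempty_tor_iso Q (k + 2)
  haveI : CategoryTheory.Projective (ModuleCat.of A A) := (IsProjective.iff_projective A).1 inferInstance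
  have hA : Limits.IsZero (((S.map (cx Q.complex)).X₂).homology (k + 1)) :=
    (isZero_Tor_succ_of_projective (ModuleCat.{u} A) M (ModuleCat.of A A) k).of_iso (ε.app (ModuleCat.of A A)).symm
  haveI : Epi (hC.δ (k + 2) (k + 1) rfl) :=
    (hC.homology_exact₁ (k + 2) (k + 1) rfl).epi_f (hA.eq_of_tgt _ _)
  obtain ⟨z, rfl⟩ := (ModuleCat.epi_iff_surjective (hC.δ (k + 2) (k + 1) rfl)).1 inferInstance y
  obtain ⟨w, hw⟩ : ∃ w, (ε'.app (ModuleCat.of A (A ⧸ I ^ n))).hom w = z :=
    ⟨_, (ε'.app (ModuleCat.of A (A ⧸ I ^ n))).toLinearEquiv.apply_symm_apply z⟩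
  have h0 : e • w = 0 := hc M (k + 2) n (by omega) e he w
  exact ((map_smul (hC.δ (k + 2) (k + 1) rfl).hom e z).symm).trans (by
    rw [← hw]
    exact (congrArg _ ((map_smul (ε'.app (ModuleCat.of A (A ⧸ I ^ n))).hom.hom e w).symm.trans
      ((congrArg _ h0).trans (map_zero _)))).trans (map_zero _))

variable (I : Ideal A) (a : A)

/-- `x ↦ x / aⁿ` -/
def frac (n : ℕ) : ↥(I ^ n) →ₗ[A] BlowUp.affineAlgebra A I a :=
  LinearMap.codRestrict (BlowUp.affineAlgebra A I a).toSubmodule
    ((LinearMap.mulRight A (IsLocalization.mk' (Localization.Away a) (1 : A) (⟨a ^ n, n, rfl⟩ : Submonoid.powers a))).comp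
      ((Algebra.linearMap A (Localization.Away a)).comp (Submodule.subtype (I ^ n))))
    fun x => by
      show algebraMap A (Localization.Away a) (x : A) * _ ∈ BlowUp.affineAlgebra A I a
      rw [← IsLocalization.mk'_eq_mul_mk'_one]
      exact Groth.L20.mk'_mem_affineAlgebra x.2

theorem frac_coe (n : ℕ) (x : ↥(I ^ n)) :
    (frac I a n x : Localization.Away a) =
      IsLocalization.mk' (Localization.Away a) (x : A) (⟨a ^ n, n, rfl⟩ : Submonoid.powers a) :=
  (IsLocalization.mk'_eq_mul_mk'_one (x : A) (⟨a ^ n, n, rfl⟩ : Submonoid.powers a)).symm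

variable {I a}

/-- multiplication by `a^k` -/
def up (ha : a ∈ I) (n k : ℕ) : ↥(I ^ n) →ₗ[A] ↥(I ^ (n + k)) :=
  LinearMap.codRestrict _ ((LinearMap.lsmul A A (a ^ k)).comp (Submodule.subtype (I ^ n))) fun x => by
    show a ^ k * (x : A) ∈ _
    rw [add_comm, pow_add]
    exact Ideal.mul_mem_mul (Ideal.pow_mem_pow ha k) x.2

theorem frac_up (ha : a ∈ I) (n k : ℕ) : frac I a (n + k) ∘ₗ up ha n k = frac I a n := by
  refine LinearMap.ext fun x => Subtype.ext ?_
  show (frac I a (n + k) (up ha n k x) : Localization.Away a) = (frac I a n x : Localization.Away a)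
  rw [frac_coe, frac_coe]
  refine IsLocalization.mk'_eq_iff_eq.2 (congrArg _ ?_)
  show a ^ n * (a ^ k * (x : A)) = a ^ (n + k) * (x : A)
  rw [pow_add, mul_assoc]

variable [IsNoetherianRing A]

theorem exists_up_kills (ha : a ∈ I) (n : ℕ) : ∃ k, LinearMap.ker (frac I a n) ≤ LinearMap.ker (up ha n k) := by
  classical
  obtain ⟨s, hs⟩ := (IsNoetherian.noetherian (LinearMap.ker (frac I a n)) : Submodule.FG _)
  have h : ∀ x ∈ LinearMap.ker (frac I a n), ∃ m, a ^ m * (x : A) = 0 := fun x hx =>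
    (Groth.L20.mk'_eq_zero_iff_pow n (x : A)).1 ((frac_coe I a n x).symm.trans (congrArg Subtype.val hx))
  choose! m hm using h
  refine ⟨s.sup m, hs ▸ Submodule.span_le.2 fun x hx => ?_⟩
  refine Subtype.ext ?_
  show a ^ s.sup m * (x : A) = 0
  obtain ⟨d, hd⟩ := Nat.exists_eq_add_of_le (Finset.le_sup (f := m) hx)
  rw [hd, add_comm, pow_add, mul_assoc, hm x (hs ▸ Submodule.subset_span hx), mul_zero]

theorem exists_descend (ha : a ∈ I) (P : Type u) [AddCommGroup P] [Module A P]
    (z : BlowUp.affineAlgebra A I a ⊗[A] P) : ∃ n w, LinearMap.rTensor P (frac I a n) w = z := by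
  induction z using TensorProduct.induction_on with
  | zero => exact ⟨0, 0, map_zero _⟩
  | tmul b p =>
    obtain ⟨n, x, hx, hb⟩ := Groth.L20.exists_mk'_of_mem_affineAlgebra ha b.2
    refine ⟨n, (⟨x, hx⟩ : ↥(I ^ n)) ⊗ₜ p, ?_⟩
    rw [LinearMap.rTensor_tmul, show frac I a n ⟨x, hx⟩ = b from Subtype.ext ((frac_coe I a n _).trans hb.symm)]
  | add x y hx hy =>
    obtain ⟨n, v, rfl⟩ := hx
    obtain ⟨m, w, rfl⟩ := hy
    have key : ∀ (n k N : ℕ) (_ : n + k = N) (v : ↥(I ^ n) ⊗[A] P),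
        ∃ v', LinearMap.rTensor P (frac I a N) v' = LinearMap.rTensor P (frac I a n) v := by
      rintro n k N rfl v
      exact ⟨LinearMap.rTensor P (up ha n k) v, by rw [← LinearMap.rTensor_comp_apply, frac_up]⟩
    obtain ⟨v', hv'⟩ := key n m (n + m) rfl v
    obtain ⟨w', hw'⟩ := key m n (n + m) (add_comm m n) w
    exact ⟨n + m, v' + w', by rw [map_add, hv', hw']⟩

theorem cycle_descend (ha : a ∈ I) {P P' : Type u} [AddCommGroup P] [Module A P] [AddCommGroup P'] [Module A P']
    [Module.Flat A P'] (d : P →ₗ[A] P') (z : BlowUp.affineAlgebra A I a ⊗[A] P)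
    (hz : LinearMap.lTensor _ d z = 0) :
    ∃ n w, LinearMap.rTensor P (frac I a n) w = z ∧ LinearMap.lTensor _ d w = 0 := by
  obtain ⟨n, w, rfl⟩ := exists_descend ha P z
  have h1 : LinearMap.rTensor P' (frac I a n) (LinearMap.lTensor _ d w) = 0 := by
    rwa [← LinearMap.comp_apply, LinearMap.rTensor_comp_lTensor, ← LinearMap.lTensor_comp_rTensor]
  obtain ⟨u', hu'⟩ := (Module.Flat.rTensor_exact P' (LinearMap.exact_subtype_ker_map (frac I a n)) _).1 h1
  obtain ⟨k, hk⟩ := exists_up_kills ha n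
  refine ⟨n + k, LinearMap.rTensor P (up ha n k) w, by rw [← LinearMap.rTensor_comp_apply, frac_up], ?_⟩
  rw [← LinearMap.comp_apply, LinearMap.lTensor_comp_rTensor, ← LinearMap.rTensor_comp_lTensor, LinearMap.comp_apply,
    ← hu', ← LinearMap.rTensor_comp_apply,
    show up ha n k ∘ₗ (LinearMap.ker (frac I a n)).subtype = 0 from LinearMap.ext fun x => hk x.2,
    LinearMap.rTensor_zero, LinearMap.zero_apply]

theorem blowup_tor_killed {t : ℕ} (a : Fin t → A) (i₀ : Fin t) : ∃ c : ℕ,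
    ∀ (M : Type u) [AddCommGroup M] [Module A M] (i : ℕ), t ≤ i → ∀ e ∈ Ideal.span (Set.range a) ^ c,
      ∀ y : ((Tor (ModuleCat.{u} A) i).obj
        (ModuleCat.of A (BlowUp.affineAlgebra A (Ideal.span (Set.range a)) (a i₀)))).obj (ModuleCat.of A M),
        e • y = 0 := by
  obtain ⟨c, hc⟩ := pow_homology_killed a
  refine ⟨c, fun M _ _ i hi e he y => ?_⟩
  obtain ⟨k, rfl⟩ : ∃ k, i = k + 1 := ⟨i - 1, by have := i₀.isLt; omega⟩
  let I := Ideal.span (Set.range a)
  have ha : a i₀ ∈ I := Ideal.subset_span ⟨i₀, rfl⟩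
  let Q := projectiveResolution (ModuleCat.of A M)
  obtain ⟨ε⟩ := nonempty_flip_iso Q (k + 1)
  let B := ModuleCat.of A (BlowUp.affineAlgebra A I (a i₀))
  have key : ∀ z : ((cx Q.complex).obj B).homology (k + 1), e • z = 0 := by
    rw [killed_iff]
    intro x hx
    haveI := flat_complex Q k
    obtain ⟨n, w, hw, hdw⟩ := cycle_descend ha (Q.complex.d (k + 1) k).hom x hx
    obtain ⟨v, hv⟩ := (killed_iff ((cx Q.complex).obj (ModuleCat.of A ↥(I ^ n))) k e).1
      (hc _ Q n k hi e he) w hdw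
    refine ⟨LinearMap.rTensor _ (frac I (a i₀) n) v, ?_⟩
    show LinearMap.lTensor _ (Q.complex.d (k + 2) (k + 1)).hom (LinearMap.rTensor _ (frac I (a i₀) n) v) = e • x
    rw [← LinearMap.comp_apply, LinearMap.lTensor_comp_rTensor, ← LinearMap.rTensor_comp_lTensor, LinearMap.comp_apply]
    rw [← hw]
    exact (congrArg _ hv).trans (map_smul (LinearMap.rTensor _ (frac I (a i₀) n)) e w)
  refine (ε.app B).toLinearEquiv.injective ?_
  rw [map_smul, map_zero]
  exact key _

end Groth.L04.TorBlowup
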