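import Mathlib.RingTheory.MvPolynomial.Ideal
import Mathlib.RingTheory.Filtration
import Mathlib.Data.Finite.Sum
import Mathlib.Data.Fintype.Sum
import Mathlib.RingTheory.Polynomial.Basic
import Mathlib.CategoryTheory.Monoidal.Tor
import Mathlib.Algebra.Category.ModuleCat.Monoidal.Closed
import Mathlib.Algebra.Category.ModuleCat.Projective
import Mathlib.Algebra.Homology.ShortComplex.ModuleCat
import Mathlib.CategoryTheory.Abelian.Projective.Resolution
import Mathlib.RingTheory.Finiteness.Projective
import Mathlib.LinearAlgebra.FreeModule.Basic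

/-!
Uniform vanishing of `Tor_{t+1}(-, R/Iⁿ) → Tor_{t+1}(-, R/I^{n-c})` for an ideal with `t` generators.

The transition map factors through the length `t` complex of free modules obtained from a Koszul
resolution of `R` over `Q = R[y₁,…,y_t]` by reducing modulo `(y)ⁿ`; Artin–Rees over `Q` makes the
higher homology of these complexes pro-zero with a constant shift.
-/

set_option autoImplicit false
set_option linter.all false
noncomputable section
universe u

open MvPolynomial CategoryTheory

namespace Groth.L04.TorUniform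

variable {R : Type u} [CommRing R]

/-- A finite free resolution of `Q/J` of bounded length, in coordinates. -/
structure Res (Q : Type u) [CommRing Q] (J : Ideal Q) (k : ℕ) where
  ι : ℕ → Type
  fin : ∀ i, Finite (ι i)
  empty : ∀ i, k < i → IsEmpty (ι i)
  d : ∀ i, (ι (i + 1) → Q) →ₗ[Q] (ι i → Q)
  ε : (ι 0 → Q) →ₗ[Q] Q ⧸ J
  ε_surj : Function.Surjective ε
  exact₀ : Function.Exact (d 0) ε
  exact_succ : ∀ i, Function.Exact (d (i + 1)) (d i)

/-- The resolution of `Q/0`. -/
def Res.base (Q : Type u) [CommRing Q] : Res Q ⊥ 0 where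
  ι | 0 => PUnit | _ + 1 => PEmpty
  fin | 0 => inferInstanceAs (Finite PUnit) | _ + 1 => inferInstanceAs (Finite PEmpty)
  empty | 0, h => absurd h (lt_irrefl 0) | _ + 1, _ => inferInstanceAs (IsEmpty PEmpty)
  d _ := 0
  ε := (Ideal.Quotient.mkₐ Q ⊥).toLinearMap.comp (LinearMap.proj PUnit.unit)
  ε_surj y := by
    obtain ⟨q, rfl⟩ := Ideal.Quotient.mk_surjective y
    exact ⟨fun _ => q, rfl⟩
  exact₀ v := by
    refine ⟨fun h => ⟨0, ?_⟩, ?_⟩
    · funext i
      exact (Ideal.mem_bot.1 (Ideal.Quotient.eq_zero_iff_mem.1 h)).symm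
    · rintro ⟨w, rfl⟩
      simp
  exact_succ i v := ⟨fun _ => ⟨0, by funext j; exact j.elim⟩, fun _ => rfl⟩

section Cone

variable {Q : Type u} [CommRing Q] {J : Ideal Q} {k : ℕ} (P : Res Q J k) (x : Q)

def coneι : ℕ → Type
  | 0 => P.ι 0
  | j + 1 => P.ι (j + 1) ⊕ P.ι j

def coneD : ∀ j, (coneι P (j + 1) → Q) →ₗ[Q] (coneι P j → Q)
  | 0 => (P.d 0).comp (LinearMap.funLeft Q Q Sum.inl) + x • LinearMap.funLeft Q Q Sum.inr
  | j + 1 =>
    { toFun := fun v => Sum.elim (P.d (j + 1) (fun i => v (Sum.inl i)) + x • (fun i => v (Sum.inr i)))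
        (-P.d j (fun i => v (Sum.inr i)))
      map_add' := fun v w => by
        funext i
        rcases i with i | i
        · show (P.d (j + 1) ((fun i => v (Sum.inl i)) + (fun i => w (Sum.inl i))) +
              x • ((fun i => v (Sum.inr i)) + (fun i => w (Sum.inr i)))) i = _
          rw [map_add, smul_add]
          show _ = (P.d (j + 1) (fun i => v (Sum.inl i)) + x • fun i => v (Sum.inr i)) i +
            (P.d (j + 1) (fun i => w (Sum.inl i)) + x • fun i => w (Sum.inr i)) i
          simp only [Pi.add_apply]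
          ring
        · show (-P.d j ((fun i => v (Sum.inr i)) + (fun i => w (Sum.inr i)))) i = _
          rw [map_add, neg_add]
          rfl
      map_smul' := fun r v => by
        funext i
        rcases i with i | i
        · show (P.d (j + 1) (r • (fun i => v (Sum.inl i))) + x • (r • (fun i => v (Sum.inr i)))) i = _
          rw [map_smul, smul_comm x r, ← smul_add]
          rfl
        · show (-P.d j (r • (fun i => v (Sum.inr i)))) i = _
          rw [map_smul, ← smul_neg]
          rfl }

theorem finite_sum {α β : Type} (h₁ : Finite α) (h₂ : Finite β) : Finite (α ⊕ β) := by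
  haveI := h₁; haveI := h₂; infer_instance

/-- The cone of multiplication by an element regular modulo `J`. -/
def Res.cone (hx : ∀ q, x * q ∈ J → q ∈ J) : Res Q (J ⊔ Ideal.span {x}) (k + 1) where
  ι := coneι P
  fin | 0 => P.fin 0 | j + 1 => finite_sum (P.fin (j + 1)) (P.fin j)
  empty
    | 0, h => absurd h (Nat.not_lt_zero _)
    | j + 1, h => by
      haveI := P.empty (j + 1) (by omega)
      haveI := P.empty j (by omega)
      exact inferInstanceAs (IsEmpty (_ ⊕ _))
  d := coneD P x
  ε := (Ideal.Quotient.factorₐ Q (le_sup_left : J ≤ J ⊔ Ideal.span {x})).toLinearMap.comp P.ε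
  ε_surj := (Ideal.Quotient.factor_surjective le_sup_left).comp P.ε_surj
  exact₀ v := by
    constructor
    · intro h
      obtain ⟨p, hp⟩ := Ideal.Quotient.mk_surjective (P.ε v)
      have h1 : p ∈ J ⊔ Ideal.span {x} := by
        rw [← Ideal.Quotient.eq_zero_iff_mem, ← h]
        show _ = Ideal.Quotient.factor le_sup_left (P.ε v)
        rw [← hp, Ideal.Quotient.factor_mk]
      obtain ⟨a, ha, b, hb, rfl⟩ := Submodule.mem_sup.1 h1
      obtain ⟨q, rfl⟩ := Ideal.mem_span_singleton'.1 hb
      obtain ⟨l, hl⟩ := P.ε_surj (Ideal.Quotient.mk J q)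
      obtain ⟨e, he⟩ := (P.exact₀ ((show P.ι 0 → Q from v) - x • l)).1 (by
        rw [map_sub, map_smul, hl, ← hp, map_add, Ideal.Quotient.eq_zero_iff_mem.2 ha, zero_add,
          map_mul, mul_comm, sub_eq_zero]
        rfl)
      refine ⟨Sum.elim e l, ?_⟩
      show P.d 0 e + x • l = v
      rw [he, sub_add_cancel]
    · rintro ⟨w, rfl⟩
      show Ideal.Quotient.factor le_sup_left (P.ε (P.d 0 (fun i => w (Sum.inl i)) + x • fun i => w (Sum.inr i))) = 0
      rw [map_add, P.exact₀.apply_apply_eq_zero, zero_add, map_smul]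
      obtain ⟨p, hp⟩ := Ideal.Quotient.mk_surjective (P.ε fun i => w (Sum.inr i))
      rw [← hp]
      show Ideal.Quotient.factor le_sup_left (Ideal.Quotient.mk J (x * p)) = 0
      rw [Ideal.Quotient.factor_mk, Ideal.Quotient.eq_zero_iff_mem]
      exact Submodule.mem_sup_right (Ideal.mul_mem_right _ _ (Ideal.mem_span_singleton_self x))
  exact_succ
    | 0, v => by
      constructor
      · intro h
        have h1 : P.d 0 (fun i => v (Sum.inl i)) + x • (fun i => v (Sum.inr i)) = 0 := h
        have h2 := congrArg P.ε h1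
        rw [map_add, P.exact₀.apply_apply_eq_zero, zero_add, map_smul, map_zero] at h2
        obtain ⟨p, hp⟩ := Ideal.Quotient.mk_surjective (P.ε fun i => v (Sum.inr i))
        rw [← hp] at h2
        have h3 : x * p ∈ J := Ideal.Quotient.eq_zero_iff_mem.1 h2
        rw [Ideal.Quotient.eq_zero_iff_mem.2 (hx p h3)] at hp
        obtain ⟨c, hc⟩ := (P.exact₀ _).1 hp.symm
        obtain ⟨e, he⟩ := (P.exact_succ 0 ((fun i => v (Sum.inl i)) + x • c)).1 (by
          rw [map_add, map_smul, hc]; exact h1)
        refine ⟨Sum.elim e (-c), ?_⟩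
        funext i
        rcases i with i | i
        · show (P.d 1 e + x • -c) i = v (Sum.inl i)
          rw [he, smul_neg, add_neg_cancel_right]
        · show (-P.d 0 (-c)) i = v (Sum.inr i)
          rw [map_neg, neg_neg, hc]
      · rintro ⟨w, rfl⟩
        show P.d 0 (P.d 1 (fun i => w (Sum.inl i)) + x • fun i => w (Sum.inr i)) +
          x • (-P.d 0 fun i => w (Sum.inr i)) = 0
        rw [map_add, (P.exact_succ 0).apply_apply_eq_zero, zero_add, map_smul, smul_neg, add_neg_cancel]
    | j + 1, v => by
      constructor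
      · intro h
        have h1 : P.d (j + 1) (fun i => v (Sum.inl i)) + x • (fun i => v (Sum.inr i)) = 0 :=
          funext fun i => congrFun h (Sum.inl i)
        have h2 : P.d j (fun i => v (Sum.inr i)) = 0 :=
          funext fun i => neg_eq_zero.1 (congrFun h (Sum.inr i))
        obtain ⟨c, hc⟩ := (P.exact_succ j _).1 h2
        obtain ⟨e, he⟩ := (P.exact_succ (j + 1) ((fun i => v (Sum.inl i)) + x • c)).1 (by
          rw [map_add, map_smul, hc]; exact h1)
        refine ⟨Sum.elim e (-c), ?_⟩
        funext i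
        rcases i with i | i
        · show (P.d (j + 2) e + x • -c) i = v (Sum.inl i)
          rw [he, smul_neg, add_neg_cancel_right]
        · show (-P.d (j + 1) (-c)) i = v (Sum.inr i)
          rw [map_neg, neg_neg, hc]
      · rintro ⟨w, rfl⟩
        funext i
        rcases i with i | i
        · show (P.d (j + 1) (P.d (j + 2) (fun i => w (Sum.inl i)) + x • fun i => w (Sum.inr i)) +
            x • (-P.d (j + 1) fun i => w (Sum.inr i))) i = 0
          rw [map_add, (P.exact_succ (j + 1)).apply_apply_eq_zero, zero_add, map_smul, smul_neg, add_neg_cancel]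
          rfl
        · show (-P.d j (-P.d (j + 1) fun i => w (Sum.inr i))) i = 0
          rw [map_neg, neg_neg, (P.exact_succ j).apply_apply_eq_zero]
          rfl

end Cone

section Poly

variable {t : ℕ} (f : Fin t → R)

local notation "Q" => MvPolynomial (Fin t) R

/-- Substitute `f i` for `y i`, `i < m`. -/
def subst (m : ℕ) : MvPolynomial (Fin t) R →ₐ[R] MvPolynomial (Fin t) R :=
  aeval fun i => if (i : ℕ) < m then C (f i) else X i

theorem exists_res (m : ℕ) (hm : m ≤ t) : Nonempty (Res Q (RingHom.ker (subst f m).toRingHom) m) := by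
  induction m with
  | zero =>
    rw [show RingHom.ker (subst f 0).toRingHom = ⊥ from (RingHom.injective_iff_ker_eq_bot _).1 (by
      have : subst f 0 = AlgHom.id R Q := MvPolynomial.algHom_ext fun i => by simp [subst]
      rw [this]; exact fun a b h => h)]
    exact ⟨Res.base Q⟩
  | succ m ih =>
    obtain ⟨P⟩ := ih (by omega)
    let k : Fin t := ⟨m, hm⟩
    have hx : ∀ q, (X k - C (f k)) * q ∈ RingHom.ker (subst f m).toRingHom → q ∈ RingHom.ker (subst f m).toRingHom := by
      intro q hq
      rw [RingHom.mem_ker, map_mul] at hq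
      change (subst f m (X k - C (f k))) * subst f m q = 0 at hq
      rw [map_sub, subst, aeval_X, aeval_C, if_neg (lt_irrefl m)] at hq
      let σ : Q →ₐ[R] Q := aeval fun i => if i = k then X k + C (f k) else X i
      let τ : Q →ₐ[R] Q := aeval fun i => if i = k then X k - C (f k) else X i
      have hτσ : τ.comp σ = AlgHom.id R Q := MvPolynomial.algHom_ext fun i => by
        by_cases hi : i = k
        · simp [σ, τ, hi]
        · simp [σ, τ, hi]
      have h := congrArg σ hq
      rw [map_mul, map_zero, show σ (X k - algebraMap R Q (f k)) = X k by simp [σ, MvPolynomial.algebraMap_eq],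
        ← mul_zero (X k : Q), MvPolynomial.X_mul_cancel_left_iff] at h
      have h' := congrArg τ h
      rw [map_zero, ← AlgHom.comp_apply, hτσ] at h'
      exact h'
    refine ⟨?_⟩
    have hJ : RingHom.ker (subst f m).toRingHom ⊔ Ideal.span {X k - C (f k)} = RingHom.ker (subst f (m + 1)).toRingHom := by
      let ρ : Q →ₐ[R] Q := aeval fun i => if i = k then C (f k) else X i
      have hρ : ρ.comp (subst f m) = subst f (m + 1) := MvPolynomial.algHom_ext fun i => by
        rcases lt_trichotomy (i : ℕ) m with h | h | h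
        · simp [ρ, subst, h, h.le, Nat.lt_succ_of_lt h]
        · obtain rfl : i = k := Fin.ext h
          simp [ρ, subst, k]
        · simp [ρ, subst, show ¬ (i : ℕ) < m by omega, show ¬ (i : ℕ) < m + 1 by omega, show ¬ (i : ℕ) ≤ m by omega,
            show i ≠ k from fun e => by rw [e] at h; exact lt_irrefl m h]
      refine le_antisymm (sup_le (fun p hp => ?_) ((Ideal.span_singleton_le_iff_mem _).2 ?_)) fun p hp => ?_
      · rw [RingHom.mem_ker] at hp ⊢
        show subst f (m + 1) p = 0
        rw [← hρ, AlgHom.comp_apply, show subst f m p = 0 from hp, map_zero]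
      · rw [RingHom.mem_ker]
        show subst f (m + 1) (X k - C (f k)) = 0
        simp [subst, k]
      · let K := RingHom.ker (subst f m).toRingHom ⊔ Ideal.span {X k - C (f k)}
        have hid : (Ideal.Quotient.mkₐ R K).comp (ρ.comp (subst f m)) = Ideal.Quotient.mkₐ R K := by
          have hsub : (subst f m).comp (subst f m) = subst f m := MvPolynomial.algHom_ext fun i => by
            by_cases h : (i : ℕ) < m <;> simp [subst, h]
          have h1 : (Ideal.Quotient.mkₐ R K).comp ρ = Ideal.Quotient.mkₐ R K := MvPolynomial.algHom_ext fun i => by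
            by_cases hi : i = k
            · subst hi
              simp only [AlgHom.comp_apply, ρ, aeval_X, if_pos rfl, Ideal.Quotient.mkₐ_eq_mk]
              rw [Ideal.Quotient.mk_eq_mk_iff_sub_mem]
              rw [← neg_sub]
              exact neg_mem (Submodule.mem_sup_right (Ideal.mem_span_singleton_self _))
            · simp [ρ, hi]
          rw [← AlgHom.comp_assoc, h1]
          refine AlgHom.ext fun p => ?_
          rw [AlgHom.comp_apply]
          refine Ideal.Quotient.mk_eq_mk_iff_sub_mem _ _ |>.2 (Submodule.mem_sup_left ?_)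
          rw [RingHom.mem_ker, map_sub]
          show subst f m (subst f m p) - subst f m p = 0
          rw [← AlgHom.comp_apply, hsub, sub_self]
        rw [← Ideal.Quotient.eq_zero_iff_mem]
        have := DFunLike.congr_fun hid p
        rw [AlgHom.comp_apply, hρ, show subst f (m + 1) p = 0 from hp, map_zero] at this
        exact this.symm
    rw [← hJ]
    exact P.cone _ hx

theorem ker_subst_all : RingHom.ker (subst f t).toRingHom = RingHom.ker (MvPolynomial.eval f) := by
  have h : ∀ p, subst f t p = C (MvPolynomial.eval f p) := fun p => by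
    induction p using MvPolynomial.induction_on with
    | C a => simp [subst]
    | add p q hp hq => simp [hp, hq]
    | mul_X p i hp => rw [map_mul, hp, map_mul, C_mul, eval_X, show subst f t (X i) = C (f i) by simp [subst, i.isLt]]
  ext p
  rw [RingHom.mem_ker, RingHom.mem_ker]
  show subst f t p = 0 ↔ _
  rw [h, C_eq_zero]

end Poly

section Levels

variable (R) (t : ℕ)

/-- The ideal of the variables. -/
abbrev Y : Ideal (MvPolynomial (Fin t) R) := idealOfVars (Fin t) R

/-- Truncation below degree `n`. -/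
def trunc (n : ℕ) : MvPolynomial (Fin t) R →ₗ[R] MvPolynomial (Fin t) R :=
  (basisMonomials (Fin t) R).constr R fun d => if Finsupp.degree d < n then monomial d 1 else 0

theorem trunc_eq_zero {n : ℕ} {p : MvPolynomial (Fin t) R} (hp : p ∈ Y R t ^ n) : trunc R t n p = 0 := by
  rw [p.as_sum, map_sum]
  refine Finset.sum_eq_zero fun d hd => ?_
  have hdn := (mem_pow_idealOfVars_iff n p).1 hp d hd
  rw [show monomial d (p.coeff d) = p.coeff d • (monomial d 1 : MvPolynomial (Fin t) R) by rw [smul_monomial, smul_eq_mul, mul_one],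
    map_smul, trunc, ← congrFun (coe_basisMonomials (Fin t) R) d, Module.Basis.constr_basis, if_neg (by omega), smul_zero]

theorem sub_trunc_mem (n : ℕ) (p : MvPolynomial (Fin t) R) : p - trunc R t n p ∈ Y R t ^ n := by
  induction p using MvPolynomial.induction_on' with
  | monomial d a =>
    rw [show monomial d a = a • (monomial d 1 : MvPolynomial (Fin t) R) by rw [smul_monomial, smul_eq_mul, mul_one], map_smul, trunc,
      ← congrFun (coe_basisMonomials (Fin t) R) d, Module.Basis.constr_basis, congrFun (coe_basisMonomials (Fin t) R) d]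
    split_ifs with h
    · rw [sub_self]; exact zero_mem _
    · rw [smul_zero, sub_zero]
      refine (mem_pow_idealOfVars_iff n _).2 fun e he => ?_
      rw [smul_monomial] at he
      rw [Finset.mem_singleton.1 (support_monomial_subset he)]
      omega
  | add p q hp hq =>
    rw [map_add, add_sub_add_comm]
    exact add_mem hp hq

theorem mem_smul_pi {ι : Type} [Finite ι] (n : ℕ) (v : ι → MvPolynomial (Fin t) R) :
    v ∈ (Y R t ^ n • ⊤ : Submodule (MvPolynomial (Fin t) R) (ι → MvPolynomial (Fin t) R)) ↔ ∀ i, v i ∈ Y R t ^ n := by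
  classical
  haveI := Fintype.ofFinite ι
  constructor
  · intro h i
    have := Submodule.mem_map_of_mem (f := LinearMap.proj (R := MvPolynomial (Fin t) R) i) h
    rw [Submodule.map_smul''] at this
    exact Submodule.smul_le.2 (fun r hr y _ => (Y R t ^ n).mul_mem_right y hr) this
  · intro h
    rw [← Finset.univ_sum_single v]
    refine Submodule.sum_mem _ fun i _ => ?_
    rw [show Pi.single i (v i) = v i • (Pi.single i 1 : ι → MvPolynomial (Fin t) R) by rw [← Pi.single_smul', smul_eq_mul, mul_one]]
    exact Submodule.smul_mem_smul (h i) trivial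

variable {R t}

theorem projective_quot {ι : Type} [Finite ι] (n : ℕ) :
    Module.Projective R ((ι → MvPolynomial (Fin t) R) ⧸
      (Y R t ^ n • ⊤ : Submodule (MvPolynomial (Fin t) R) (ι → MvPolynomial (Fin t) R))) := by
  let N : Submodule R (ι → MvPolynomial (Fin t) R) :=
    (Y R t ^ n • ⊤ : Submodule (MvPolynomial (Fin t) R) (ι → MvPolynomial (Fin t) R)).restrictScalars R
  let T : (ι → MvPolynomial (Fin t) R) →ₗ[R] (ι → MvPolynomial (Fin t) R) :=
    LinearMap.pi fun i => (trunc R t n).comp (LinearMap.proj i)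
  have hT : N ≤ LinearMap.ker T := fun v hv => by
    funext i
    exact trunc_eq_zero R t ((mem_smul_pi R t n v).1 hv i)
  haveI : Module.Free R (ι → MvPolynomial (Fin t) R) := Module.Free.function ι R (MvPolynomial (Fin t) R)
  haveI : Module.Projective R (ι → MvPolynomial (Fin t) R) := Module.Projective.of_free
  suffices h : Module.Projective R ((ι → MvPolynomial (Fin t) R) ⧸ N) from
    haveI := h
    Module.Projective.of_equiv (Submodule.Quotient.restrictScalarsEquiv R
      (Y R t ^ n • ⊤ : Submodule (MvPolynomial (Fin t) R) (ι → MvPolynomial (Fin t) R)))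
  refine Module.Projective.of_split (N.liftQ T hT) N.mkQ (LinearMap.ext fun z => ?_)
  obtain ⟨v, rfl⟩ := Submodule.Quotient.mk_surjective _ z
  refine (Submodule.Quotient.eq _).2 ?_
  show T v - v ∈ (Y R t ^ n • ⊤ : Submodule (MvPolynomial (Fin t) R) (ι → MvPolynomial (Fin t) R))
  refine (mem_smul_pi R t n _).2 fun i => ?_
  rw [← neg_sub]
  exact neg_mem (sub_trunc_mem R t n (v i))

variable [IsNoetherianRing R] (f : Fin t → R) {J : Ideal (MvPolynomial (Fin t) R)}
  (P : Res (MvPolynomial (Fin t) R) J t)

abbrev E (n i : ℕ) : Type u :=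
  (P.ι i → MvPolynomial (Fin t) R) ⧸
    (Y R t ^ n • ⊤ : Submodule (MvPolynomial (Fin t) R) (P.ι i → MvPolynomial (Fin t) R))

def dE (n i : ℕ) : E P n (i + 1) →ₗ[R] E P n i :=
  (Submodule.mapQ _ _ (P.d i) (by
    rw [← Submodule.map_le_iff_le_comap, Submodule.map_smul'']
    exact Submodule.smul_mono le_rfl le_top)).restrictScalars R

def push {m n : ℕ} (h : m ≤ n) (i : ℕ) : E P n i →ₗ[R] E P m i :=
  (Submodule.factor (Submodule.smul_mono (Ideal.pow_le_pow_right h) le_rfl :
    (Y R t ^ n • ⊤ : Submodule (MvPolynomial (Fin t) R) (P.ι i → MvPolynomial (Fin t) R)) ≤ Y R t ^ m • ⊤)).restrictScalars R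

theorem push_dE {m n : ℕ} (h : m ≤ n) (i : ℕ) : dE P m i ∘ₗ push P h (i + 1) = push P h i ∘ₗ dE P n i :=
  LinearMap.ext fun z => by obtain ⟨v, rfl⟩ := Submodule.Quotient.mk_surjective _ z; rfl

/-- the cycles of level `n + c` are boundaries at level `n`. -/
theorem exists_shift : ∃ c : ℕ, ∀ i m, ∀ z : E P (m + c) (i + 1), dE P (m + c) i z = 0 →
    push P (Nat.le_add_right m c) (i + 1) z ∈ LinearMap.range (dE P m (i + 1)) := by
  haveI := P.fin
  choose k hk using fun i => Ideal.exists_pow_inf_eq_pow_smul (Y R t) (LinearMap.range (P.d i))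
  refine ⟨(Finset.range (t + 1)).sup k, fun i m z hz => ?_⟩
  obtain ⟨v, rfl⟩ := Submodule.Quotient.mk_surjective _ z
  by_cases hi : t < i + 1
  · haveI := P.empty (i + 1) hi
    refine ⟨0, ?_⟩
    rw [map_zero, show v = 0 from funext fun j => isEmptyElim j]
    rfl
  have hc : k i ≤ (Finset.range (t + 1)).sup k := Finset.le_sup (f := k) (Finset.mem_range.2 (by omega))
  set c := (Finset.range (t + 1)).sup k
  have h1 : P.d i v ∈ Y R t ^ (m + c) • ⊤ ⊓ LinearMap.range (P.d i) :=
    ⟨(Submodule.Quotient.mk_eq_zero _).1 hz, ⟨v, rfl⟩⟩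
  rw [hk i (m + c) (by omega)] at h1
  have h2 : P.d i v ∈ (Y R t ^ m • ⊤ : Submodule (MvPolynomial (Fin t) R) (P.ι (i + 1) → MvPolynomial (Fin t) R)).map (P.d i) := by
    rw [Submodule.map_smul'', Submodule.map_top]
    exact Submodule.smul_mono (Ideal.pow_le_pow_right (by omega)) inf_le_right h1
  obtain ⟨w, hw, hwv⟩ := h2
  obtain ⟨e, he⟩ := (P.exact_succ i (v - w)).1 (by rw [map_sub, hwv, sub_self])
  refine ⟨Submodule.Quotient.mk e, ?_⟩
  refine (Submodule.Quotient.eq _).2 ?_
  rw [he, LinearMap.id_apply]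
  rw [← neg_mem_iff]
  simpa using hw

end Levels

section Aug

variable {t : ℕ} [IsNoetherianRing R] {f : Fin t → R}
  (P : Res (MvPolynomial (Fin t) R) (RingHom.ker (MvPolynomial.eval f)) t)

/-- evaluation on `Q / ker` -/
def qev (f : Fin t → R) : MvPolynomial (Fin t) R ⧸ RingHom.ker (MvPolynomial.eval f) →+* R :=
  Ideal.Quotient.lift _ (MvPolynomial.eval f) fun _ h => h

omit [IsNoetherianRing R] in
theorem qev_mk (p : MvPolynomial (Fin t) R) : qev f (Ideal.Quotient.mk _ p) = MvPolynomial.eval f p := rfl

/-- the augmentation `L 0 → R` -/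
def aug : (P.ι 0 → MvPolynomial (Fin t) R) →ₗ[R] R where
  toFun v := qev f (P.ε v)
  map_add' a b := by rw [map_add, map_add]
  map_smul' r v := by
    obtain ⟨p, hp⟩ := Ideal.Quotient.mk_surjective (P.ε v)
    rw [show r • v = (C r : MvPolynomial (Fin t) R) • v by rw [← MvPolynomial.algebraMap_eq, algebraMap_smul], map_smul, ← hp]
    show qev f (Ideal.Quotient.mk _ (C r * p)) = r * qev f (Ideal.Quotient.mk _ p)
    rw [qev_mk, qev_mk, map_mul, eval_C]

theorem aug_smul (q : MvPolynomial (Fin t) R) (v : P.ι 0 → MvPolynomial (Fin t) R) :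
    aug P (q • v) = MvPolynomial.eval f q * aug P v := by
  obtain ⟨p, hp⟩ := Ideal.Quotient.mk_surjective (P.ε v)
  show qev f (P.ε (q • v)) = _ * qev f (P.ε v)
  rw [map_smul, ← hp]
  show qev f (Ideal.Quotient.mk _ (q * p)) = _
  rw [qev_mk, qev_mk, map_mul]

theorem aug_surjective : Function.Surjective (aug P) := fun r => by
  obtain ⟨v, hv⟩ := P.ε_surj (Ideal.Quotient.mk _ (C r))
  refine ⟨v, ?_⟩
  show qev f (P.ε v) = r
  rw [hv, qev_mk, eval_C]

theorem map_Y : (Y R t).map (MvPolynomial.eval f) = Ideal.span (Set.range f) := by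
  rw [Y, idealOfVars, Ideal.map_span, ← Set.range_comp]
  congr 1
  congr 1
  funext i
  simp

/-- the augmentation at level `n` -/
def augE (n : ℕ) : E P n 0 →ₗ[R] R ⧸ Ideal.span (Set.range f) ^ n :=
  (Submodule.liftQ _ ((Submodule.mkQ (Ideal.span (Set.range f) ^ n)).comp (aug P)) (fun v hv => by
    haveI := P.fin
    rw [LinearMap.mem_ker, LinearMap.comp_apply, Submodule.mkQ_apply, Submodule.Quotient.mk_eq_zero]
    refine Submodule.smul_induction_on ((Submodule.restrictScalars_mem R _ _).1 hv) (fun q hq w _ => ?_) fun a b ha hb => ?_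
    · rw [aug_smul]
      refine Ideal.mul_mem_right _ _ ?_
      rw [← map_Y, ← Ideal.map_pow]
      exact Ideal.mem_map_of_mem _ hq
    · rw [map_add]; exact add_mem ha hb)).comp
    (Submodule.Quotient.restrictScalarsEquiv R
      (Y R t ^ n • ⊤ : Submodule (MvPolynomial (Fin t) R) (P.ι 0 → MvPolynomial (Fin t) R))).symm.toLinearMap

theorem augE_mk (n : ℕ) (v : P.ι 0 → MvPolynomial (Fin t) R) :
    augE P n (Submodule.Quotient.mk v) = Submodule.Quotient.mk (aug P v) := rfl

theorem augE_surjective (n : ℕ) : Function.Surjective (augE P n) := fun z => by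
  obtain ⟨r, rfl⟩ := Submodule.Quotient.mk_surjective _ z
  obtain ⟨v, rfl⟩ := aug_surjective P r
  exact ⟨Submodule.Quotient.mk v, rfl⟩

theorem exact_augE (n : ℕ) : Function.Exact (dE P n 0) (augE P n) := by
  intro z
  obtain ⟨v, rfl⟩ := Submodule.Quotient.mk_surjective _ z
  constructor
  · intro h
    rw [augE_mk, Submodule.Quotient.mk_eq_zero, ← map_Y, ← Ideal.map_pow,
      Ideal.mem_map_iff_of_surjective _ (fun r => ⟨C r, eval_C r⟩)] at h
    obtain ⟨y, hy, hyv⟩ := h
    obtain ⟨v1, hv1⟩ := aug_surjective P 1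
    have h0 : aug P (v - y • v1) = 0 := by rw [map_sub, aug_smul, hv1, mul_one, hyv, sub_self]
    obtain ⟨p, hp⟩ := Ideal.Quotient.mk_surjective (P.ε (v - y • v1))
    obtain ⟨e, he⟩ := (P.exact₀ (v - y • v1)).1 (by
      rw [← hp, Ideal.Quotient.eq_zero_iff_mem, RingHom.mem_ker]
      change qev f (P.ε (v - y • v1)) = 0 at h0
      rwa [← hp, qev_mk] at h0)
    refine ⟨Submodule.Quotient.mk e, (Submodule.Quotient.eq _).2 ?_⟩
    rw [he, sub_sub_cancel_left]
    exact neg_mem (Submodule.smul_mem_smul hy trivial)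
  · rintro ⟨w, hw⟩
    rw [← hw]
    obtain ⟨e, rfl⟩ := Submodule.Quotient.mk_surjective _ w
    show augE P n (Submodule.Quotient.mk (P.d 0 e)) = 0
    rw [augE_mk, show aug P (P.d 0 e) = 0 from by
      show qev f (P.ε (P.d 0 e)) = 0
      rw [P.exact₀.apply_apply_eq_zero, map_zero]]
    exact Submodule.Quotient.mk_zero _

end Aug

theorem exists_lift {A B C : Type u} [AddCommGroup A] [Module R A] [AddCommGroup B] [Module R B] [AddCommGroup C]
    [Module R C] [Module.Projective R C] (g : A →ₗ[R] B) (h : C →ₗ[R] B) (hr : ∀ x, h x ∈ LinearMap.range g) :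
    ∃ k : C →ₗ[R] A, g ∘ₗ k = h := by
  obtain ⟨k, hk⟩ := Module.projective_lifting_property g.rangeRestrict (h.codRestrict _ hr) g.surjective_rangeRestrict
  exact ⟨k, LinearMap.ext fun x => congrArg Subtype.val (LinearMap.congr_fun hk x)⟩

end Groth.L04.TorUniform
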