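import Groth.Agent.L04.TorUniformMain
import Mathlib.Algebra.Homology.ShortComplex.Linear
import Mathlib.Algebra.Homology.Linear

/-!
A fixed power of `I` annihilates `Tor_i(-, R/I^q)` above the number of generators, uniformly in `q`.
-/

set_option autoImplicit false
set_option linter.all false
noncomputable section
universe u

open MvPolynomial CategoryTheory

namespace Groth.L04.TorUniform

variable {R : Type u} [CommRing R] [IsNoetherianRing R] {t : ℕ} {f : Fin t → R}
  (L : Res (MvPolynomial (Fin t) R) (RingHom.ker (MvPolynomial.eval f)) t)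

local notation "𝕀" => Ideal.span (Set.range f)

/-- multiplication by a polynomial on a level -/
def mulE (y : MvPolynomial (Fin t) R) (n i : ℕ) : E L n i →ₗ[R] E L n i :=
  (LinearMap.lsmul (MvPolynomial (Fin t) R) (E L n i) y).restrictScalars R

theorem mulE_dE (y : MvPolynomial (Fin t) R) (n i : ℕ) : dE L n i ∘ₗ mulE L y n (i + 1) = mulE L y n i ∘ₗ dE L n i :=
  LinearMap.ext fun z => by
    obtain ⟨v, rfl⟩ := Submodule.Quotient.mk_surjective _ z
    show Submodule.Quotient.mk (L.d i (y • v)) = Submodule.Quotient.mk (y • L.d i v)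
    rw [map_smul]

theorem augE_mulE (y : MvPolynomial (Fin t) R) (n : ℕ) :
    augE L n ∘ₗ mulE L y n 0 = ((MvPolynomial.eval f y : R) • augE L n : E L n 0 →ₗ[R] R ⧸ 𝕀 ^ n) :=
  LinearMap.ext fun z => by
    obtain ⟨v, rfl⟩ := Submodule.Quotient.mk_surjective _ z
    show (Submodule.Quotient.mk (aug L (y • v)) : R ⧸ 𝕀 ^ n) = (MvPolynomial.eval f y : R) • (Submodule.Quotient.mk (aug L v) : R ⧸ 𝕀 ^ n)
    rw [aug_smul, ← Submodule.Quotient.mk_smul, smul_eq_mul]

/-- a power of the variables kills the higher homology of every level -/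
theorem exists_kill : ∃ c : ℕ, ∀ y ∈ Y R t ^ c, ∀ i q, ∀ z : E L q (i + 1), dE L q i z = 0 →
    mulE L y q (i + 1) z ∈ LinearMap.range (dE L q (i + 1)) := by
  obtain ⟨c, hc⟩ := exists_shift L
  refine ⟨c, fun y hy i q z hz => ?_⟩
  obtain ⟨v, rfl⟩ := Submodule.Quotient.mk_surjective _ z
  have h1 : dE L (q + c) i (Submodule.Quotient.mk (y • v)) = 0 := by
    show Submodule.Quotient.mk (L.d i (y • v)) = 0
    rw [Submodule.Quotient.mk_eq_zero, map_smul, add_comm, pow_add, Submodule.mul_smul]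
    exact Submodule.smul_mem_smul hy ((Submodule.Quotient.mk_eq_zero _).1 hz)
  exact hc i q _ h1

theorem exists_into_kill {c : ℕ}
    (hc : ∀ y ∈ Y R t ^ c, ∀ i q, ∀ z : E L q (i + 1), dE L q i z = 0 →
      mulE L y q (i + 1) z ∈ LinearMap.range (dE L q (i + 1)))
    (q : ℕ) (P : ProjectiveResolution (ModuleCat.of R (R ⧸ 𝕀 ^ q))) :
    ∀ j : ℕ, ∀ a ∈ 𝕀 ^ (j * c), ∃ φ : ∀ i, P.complex.X i →ₗ[R] E L q i,
      augE L q ∘ₗ φ 0 = a • pi0 P ∧ ∀ i < j, dE L q i ∘ₗ φ (i + 1) = φ i ∘ₗ dP P i := by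
  intro j
  induction j with
  | zero =>
    intro a _
    haveI := projective_X P 0
    obtain ⟨φ0, hφ0⟩ := exists_lift (augE L q) (a • pi0 P) fun x => LinearMap.mem_range.2 (augE_surjective L q _)
    exact ⟨Function.update (fun _ => 0) 0 φ0, by rw [Function.update_self]; exact hφ0, fun i hi => absurd hi (Nat.not_lt_zero i)⟩
  | succ j ih =>
    intro a ha
    rw [Nat.succ_mul, add_comm, pow_add] at ha
    refine Submodule.mul_induction_on ha (fun e he b hb => ?_) ?_
    · rw [← map_Y, ← Ideal.map_pow, Ideal.mem_map_iff_of_surjective _ (fun r => ⟨C r, eval_C r⟩)] at he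
      obtain ⟨y, hy, rfl⟩ := he
      obtain ⟨φ, hφ0, hφ⟩ := ih b hb
      let φ' : ∀ i, P.complex.X i →ₗ[R] E L q i := fun i => mulE L y q i ∘ₗ φ i
      have hφ'0 : augE L q ∘ₗ φ' 0 = (MvPolynomial.eval f y * b) • pi0 P := by
        rw [← LinearMap.comp_assoc, augE_mulE, LinearMap.smul_comp, hφ0, smul_smul]
      haveI := projective_X P (j + 1)
      have hr : ∀ x, φ' j (dP P j x) ∈ LinearMap.range (dE L q j) := by
        intro x
        cases j with
        | zero =>
          refine LinearMap.mem_range.2 ((exact_augE L q _).1 ?_)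
          rw [show augE L q (φ' 0 (dP P 0 x)) = _ from LinearMap.congr_fun hφ'0 (dP P 0 x), LinearMap.smul_apply,
            show pi0 P (dP P 0 x) = 0 from LinearMap.congr_fun (pi0_dP P) x, smul_zero]
        | succ k =>
          refine hc y hy k q _ ?_
          rw [show dE L q k (φ (k + 1) (dP P (k + 1) x)) = _ from
              LinearMap.congr_fun (hφ k (Nat.lt_succ_self k)) _, LinearMap.comp_apply,
            show dP P k (dP P (k + 1) x) = 0 from LinearMap.congr_fun (dP_comp P k) x, map_zero]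
      obtain ⟨ψ, hψ⟩ := exists_lift (dE L q j) (φ' j ∘ₗ dP P j) hr
      refine ⟨Function.update φ' (j + 1) ψ, ?_, fun i hi => ?_⟩
      · rw [Function.update_of_ne (Nat.succ_ne_zero j).symm]
        exact hφ'0
      · rw [Function.update_of_ne (show i ≠ j + 1 by omega)]
        rcases (Nat.lt_succ_iff_lt_or_eq.1 hi) with hi | rfl
        · rw [Function.update_of_ne (show i + 1 ≠ j + 1 by omega)]
          show dE L q i ∘ₗ mulE L y q (i + 1) ∘ₗ φ (i + 1) = (mulE L y q i ∘ₗ φ i) ∘ₗ dP P i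
          rw [← LinearMap.comp_assoc, mulE_dE, LinearMap.comp_assoc, hφ i hi]
          rfl
        · rw [Function.update_self]
          exact hψ
    · rintro a b ⟨φ, hφ0, hφ⟩ ⟨ψ, hψ0, hψ⟩
      refine ⟨φ + ψ, ?_, fun i hi => ?_⟩
      · rw [Pi.add_apply, LinearMap.comp_add, hφ0, hψ0, add_smul]
      · rw [Pi.add_apply, Pi.add_apply, LinearMap.comp_add, hφ i hi, hψ i hi, LinearMap.add_comp]

/-- multiplication by an element of a fixed power lifts to a map vanishing above degree `t` -/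
theorem exists_chainMap_kill {c : ℕ}
    (hc : ∀ y ∈ Y R t ^ c, ∀ i q, ∀ z : E L q (i + 1), dE L q i z = 0 →
      mulE L y q (i + 1) z ∈ LinearMap.range (dE L q (i + 1)))
    (q : ℕ) (P : ProjectiveResolution (ModuleCat.of R (R ⧸ 𝕀 ^ q))) {a : R} (ha : a ∈ 𝕀 ^ ((t + 1) * c)) :
    ∃ g : P.complex ⟶ P.complex,
      g ≫ P.π = P.π ≫ (ChainComplex.single₀ _).map (a • 𝟙 (ModuleCat.of R (R ⧸ 𝕀 ^ q))) ∧
        ∀ i, t < i → g.f i = 0 := by
  obtain ⟨φ, hφ0, hφ⟩ := exists_into_kill L hc q P (t + 1) a ha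
  obtain ⟨α, hα0, hα⟩ := exists_out L q P (t + 1)
  have hE : ∀ x : E L q (t + 1), x = 0 := fun x => by
    obtain ⟨v, rfl⟩ := Submodule.Quotient.mk_surjective _ x
    haveI := L.empty (t + 1) (Nat.lt_succ_self t)
    rw [show v = 0 from funext fun j => isEmptyElim j]
    rfl
  let g : ∀ i, P.complex.X i ⟶ P.complex.X i := fun i => if i ≤ t then ModuleCat.ofHom (α i ∘ₗ φ i) else 0
  have hg : ∀ i, g (i + 1) ≫ P.complex.d (i + 1) i = P.complex.d (i + 1) i ≫ g i := by
    intro i
    refine ModuleCat.hom_ext ?_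
    rcases lt_trichotomy i t with hi | rfl | hi
    · simp only [g, if_pos (show i + 1 ≤ t by omega), if_pos hi.le, ModuleCat.hom_comp, ModuleCat.hom_ofHom]
      show dP P i ∘ₗ α (i + 1) ∘ₗ φ (i + 1) = (α i ∘ₗ φ i) ∘ₗ dP P i
      rw [← LinearMap.comp_assoc, hα i (by omega), LinearMap.comp_assoc, hφ i (by omega)]
      rfl
    · simp only [g, if_neg (Nat.not_succ_le_self i), if_pos le_rfl, ModuleCat.hom_comp, ModuleCat.hom_ofHom,
        ModuleCat.hom_zero, LinearMap.comp_zero]
      show 0 = (α i ∘ₗ φ i) ∘ₗ dP P i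
      rw [LinearMap.comp_assoc, ← hφ i (Nat.lt_succ_self i)]
      refine (LinearMap.ext fun x => ?_)
      simp [hE (φ (i + 1) x)]
    · simp only [g, if_neg (show ¬ i + 1 ≤ t by omega), if_neg (show ¬ i ≤ t by omega)]
      simp
  let gC : P.complex ⟶ P.complex :=
    { f := g
      comm' := fun i j hij => by
        obtain rfl : j + 1 = i := hij
        exact hg j }
  refine ⟨gC, ?_, fun i hi => if_neg (Nat.not_le.2 hi)⟩
  refine (ChainComplex.toSingle₀Equiv _ _).injective (Subtype.ext ?_)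
  refine ModuleCat.hom_ext ?_
  have hg0 : g 0 = ModuleCat.ofHom (α 0 ∘ₗ φ 0) := if_pos (Nat.zero_le t)
  show ((gC ≫ P.π).f 0).hom = ((P.π ≫ (ChainComplex.single₀ _).map _).f 0).hom
  rw [HomologicalComplex.comp_f, HomologicalComplex.comp_f, ChainComplex.single₀_map_f_zero, show gC.f 0 = _ from hg0]
  show pi0 P ∘ₗ α 0 ∘ₗ φ 0 = a • pi0 P
  rw [← LinearMap.comp_assoc, hα0, hφ0]

omit [IsNoetherianRing R] in
theorem homologyMap_smul_id (a : R) (K : ChainComplex (ModuleCat.{u} R) ℕ) (i : ℕ) :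
    HomologicalComplex.homologyMap (a • 𝟙 K) i = a • 𝟙 (K.homology i) := by
  have h : (HomologicalComplex.shortComplexFunctor (ModuleCat.{u} R) (ComplexShape.down ℕ) i).map (a • 𝟙 K) =
      a • 𝟙 (K.sc i) := by ext <;> rfl
  show ShortComplex.homologyMap ((HomologicalComplex.shortComplexFunctor (ModuleCat.{u} R) (ComplexShape.down ℕ) i).map (a • 𝟙 K)) = _
  rw [h, ShortComplex.homologyMap_smul, ShortComplex.homologyMap_id]
  rfl

variable (f)

theorem tor_killed : ∃ c : ℕ, ∀ (M : Type u) [AddCommGroup M] [Module R M] (i q : ℕ), t < i →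
    ∀ a ∈ 𝕀 ^ c, ∀ x : ((Tor (ModuleCat.{u} R) i).obj (ModuleCat.of R M)).obj (ModuleCat.of R (R ⧸ 𝕀 ^ q)),
      a • x = 0 := by
  obtain ⟨L⟩ := (ker_subst_all f) ▸ exists_res f t le_rfl
  obtain ⟨c, hc⟩ := exists_kill L
  refine ⟨(t + 1) * c, fun M _ _ i q hi a ha x => ?_⟩
  let P := projectiveResolution (ModuleCat.of R (R ⧸ 𝕀 ^ q))
  let F := (MonoidalCategory.tensoringLeft (ModuleCat.{u} R)).obj (ModuleCat.of R M)
  obtain ⟨g, hg, hg0⟩ := exists_chainMap_kill L hc q P ha
  have hs : (a • 𝟙 P.complex) ≫ P.π = P.π ≫ (ChainComplex.single₀ _).map (a • 𝟙 (ModuleCat.of R (R ⧸ 𝕀 ^ q))) := by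
    refine (ChainComplex.toSingle₀Equiv _ _).injective (Subtype.ext ?_)
    refine ModuleCat.hom_ext (LinearMap.ext fun z => ?_)
    show pi0 P (a • z) = a • pi0 P z
    exact map_smul _ _ _
  have e1 := Functor.leftDerived_map_eq F i _ g hg
  rw [Functor.leftDerived_map_eq F i _ _ hs, cancel_epi, cancel_mono] at e1
  have h0 : HomologicalComplex.homologyMap ((F.mapHomologicalComplex (ComplexShape.down ℕ)).map g) i = 0 := by
    rw [← cancel_epi (HomologicalComplex.homologyπ _ i), HomologicalComplex.homologyπ_naturality, Limits.comp_zero]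
    refine Eq.trans (congrArg (· ≫ _) ?_) Limits.zero_comp
    rw [← cancel_mono (HomologicalComplex.iCycles _ i), HomologicalComplex.cyclesMap_i, Limits.zero_comp]
    refine Eq.trans (congrArg (_ ≫ ·) ?_) Limits.comp_zero
    exact (congrArg F.map (hg0 i hi)).trans (Functor.map_zero F _ _)
  have h1 : (F.mapHomologicalComplex (ComplexShape.down ℕ)).map (a • 𝟙 P.complex) = a • 𝟙 _ := by
    refine HomologicalComplex.hom_ext _ _ fun n => ?_
    refine ModuleCat.hom_ext (TensorProduct.ext' fun m c => ?_)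
    show m ⊗ₜ[R] (a • c) = a • (m ⊗ₜ[R] c)
    exact TensorProduct.tmul_smul a m c
  change HomologicalComplex.homologyMap ((F.mapHomologicalComplex (ComplexShape.down ℕ)).map (a • 𝟙 P.complex)) i = HomologicalComplex.homologyMap _ i at e1
  rw [h0, h1, homologyMap_smul_id] at e1
  have h2 := ConcreteCategory.congr_hom e1 ((P.isoLeftDerivedObj F i).hom x)
  have h3 : (P.isoLeftDerivedObj F i).hom (a • x) = 0 := (map_smul (P.isoLeftDerivedObj F i).hom.hom a x).trans h2
  exact (P.isoLeftDerivedObj F i).toLinearEquiv.injective (h3.trans (map_zero _).symm)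

end Groth.L04.TorUniform
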