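import Groth.Agent.L04.TorUniform

/-!
The transition map `R/Iⁿ → R/I^{n-c}` kills `Tor_{t+1}`.
-/

set_option autoImplicit false
set_option linter.all false
noncomputable section
universe u

open MvPolynomial CategoryTheory

namespace Groth.L04.TorUniform

variable {R : Type u} [CommRing R]

section Resolution

variable {Z : ModuleCat.{u} R} (P : ProjectiveResolution Z)

/-- differentials of a resolution -/
def dP (i : ℕ) : P.complex.X (i + 1) →ₗ[R] P.complex.X i := (P.complex.d (i + 1) i).hom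

/-- augmentation of a resolution -/
def pi0 : P.complex.X 0 →ₗ[R] Z := (P.π.f 0).hom

theorem dP_comp (i : ℕ) : dP P i ∘ₗ dP P (i + 1) = 0 :=
  congrArg ModuleCat.Hom.hom (P.complex.d_comp_d (i + 2) (i + 1) i)

theorem pi0_dP : pi0 P ∘ₗ dP P 0 = 0 :=
  congrArg ModuleCat.Hom.hom P.complex_d_comp_π_f_zero

theorem pi0_surjective : Function.Surjective (pi0 P) :=
  (ModuleCat.epi_iff_surjective (P.π.f 0)).1 inferInstance

theorem exact_pi0 : Function.Exact (dP P 0) (pi0 P) :=
  (CategoryTheory.ShortComplex.ShortExact.moduleCat_exact_iff_function_exact _).1 P.exact₀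

theorem exact_dP (i : ℕ) : Function.Exact (dP P (i + 1)) (dP P i) :=
  (CategoryTheory.ShortComplex.ShortExact.moduleCat_exact_iff_function_exact _).1 (P.exact_succ i)

theorem projective_X (i : ℕ) : Module.Projective R (P.complex.X i) :=
  (IsProjective.iff_projective _).2 (P.projective i)

end Resolution

variable [IsNoetherianRing R] {t : ℕ} {f : Fin t → R}
  (L : Res (MvPolynomial (Fin t) R) (RingHom.ker (MvPolynomial.eval f)) t)

local notation "𝕀" => Ideal.span (Set.range f)

/-- the reduction `R/Iⁿ → R/Iᵐ` -/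
abbrev red {m n : ℕ} (h : m ≤ n) : R ⧸ 𝕀 ^ n →ₗ[R] R ⧸ 𝕀 ^ m :=
  Submodule.mapQ (𝕀 ^ n) (𝕀 ^ m) LinearMap.id (Ideal.pow_le_pow_right h)

theorem augE_push {m n : ℕ} (h : m ≤ n) : augE L m ∘ₗ push L h 0 = red h ∘ₗ augE L n :=
  LinearMap.ext fun z => by obtain ⟨v, rfl⟩ := Submodule.Quotient.mk_surjective _ z; rfl

/-- from a resolution of `R/I^N` to the lower levels -/
theorem exists_into {c : ℕ}
    (hc : ∀ i m, ∀ z : E L (m + c) (i + 1), dE L (m + c) i z = 0 →
      push L (Nat.le_add_right m c) (i + 1) z ∈ LinearMap.range (dE L m (i + 1)))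
    {N : ℕ} (P : ProjectiveResolution (ModuleCat.of R (R ⧸ 𝕀 ^ N))) :
    ∀ j m : ℕ, ∀ h : m + j * c ≤ N, ∃ φ : ∀ i, P.complex.X i →ₗ[R] E L m i,
      augE L m ∘ₗ φ 0 = red ((Nat.le_add_right m _).trans h) ∘ₗ pi0 P ∧
      ∀ i < j, dE L m i ∘ₗ φ (i + 1) = φ i ∘ₗ dP P i := by
  intro j
  induction j with
  | zero =>
    intro m h
    haveI := projective_X P 0
    obtain ⟨φ0, hφ0⟩ := exists_lift (augE L m) (red ((Nat.le_add_right m _).trans h) ∘ₗ pi0 P)
      fun x => LinearMap.mem_range.2 (augE_surjective L m _)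
    exact ⟨Function.update (fun _ => 0) 0 φ0, by rw [Function.update_self]; exact hφ0, fun i hi => absurd hi (Nat.not_lt_zero i)⟩
  | succ j ih =>
    intro m h
    have h' : m + c + j * c ≤ N := by rw [add_assoc, add_comm c, ← Nat.succ_mul]; exact h
    obtain ⟨φ, hφ0, hφ⟩ := ih (m + c) h'
    let φ' : ∀ i, P.complex.X i →ₗ[R] E L m i := fun i => push L (Nat.le_add_right m c) i ∘ₗ φ i
    have hφ'0 : augE L m ∘ₗ φ' 0 = red ((Nat.le_add_right m _).trans h) ∘ₗ pi0 P := by
      rw [← LinearMap.comp_assoc, augE_push, LinearMap.comp_assoc, hφ0, ← LinearMap.comp_assoc,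
        ← Submodule.mapQ_comp]
      rfl
    haveI := projective_X P (j + 1)
    have hr : ∀ x, φ' j (dP P j x) ∈ LinearMap.range (dE L m j) := by
      intro x
      cases j with
      | zero =>
        refine LinearMap.mem_range.2 ((exact_augE L m _).1 ?_)
        rw [show augE L m (φ' 0 (dP P 0 x)) = _ from LinearMap.congr_fun hφ'0 (dP P 0 x), LinearMap.comp_apply,
          show pi0 P (dP P 0 x) = 0 from LinearMap.congr_fun (pi0_dP P) x, map_zero]
      | succ k =>
        refine hc k m _ ?_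
        rw [show dE L (m + c) k (φ (k + 1) (dP P (k + 1) x)) = _ from
            LinearMap.congr_fun (hφ k (Nat.lt_succ_self k)) _, LinearMap.comp_apply,
          show dP P k (dP P (k + 1) x) = 0 from LinearMap.congr_fun (dP_comp P k) x, map_zero]
    obtain ⟨ψ, hψ⟩ := exists_lift (dE L m j) (φ' j ∘ₗ dP P j) hr
    refine ⟨Function.update φ' (j + 1) ψ, ?_, fun i hi => ?_⟩
    · rw [Function.update_of_ne (Nat.succ_ne_zero j).symm]
      exact hφ'0
    · rw [Function.update_of_ne (show i ≠ j + 1 by omega)]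
      rcases (Nat.lt_succ_iff_lt_or_eq.1 hi) with hi | rfl
      · rw [Function.update_of_ne (show i + 1 ≠ j + 1 by omega)]
        show dE L m i ∘ₗ push L _ (i + 1) ∘ₗ φ (i + 1) = (push L _ i ∘ₗ φ i) ∘ₗ dP P i
        rw [← LinearMap.comp_assoc, push_dE, LinearMap.comp_assoc, hφ i hi]
        rfl
      · rw [Function.update_self]
        exact hψ

/-- from the level `m` into a resolution of `R/Iᵐ` -/
theorem exists_out (m : ℕ) (P : ProjectiveResolution (ModuleCat.of R (R ⧸ 𝕀 ^ m))) :
    ∀ j : ℕ, ∃ α : ∀ i, E L m i →ₗ[R] P.complex.X i,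
      pi0 P ∘ₗ α 0 = augE L m ∧ ∀ i < j, dP P i ∘ₗ α (i + 1) = α i ∘ₗ dE L m i := by
  haveI := L.fin
  intro j
  induction j with
  | zero =>
    haveI := projective_quot (R := R) (t := t) (ι := L.ι 0) m
    obtain ⟨α0, hα0⟩ := exists_lift (pi0 P) (augE L m) fun x => LinearMap.mem_range.2 (pi0_surjective P _)
    exact ⟨Function.update (fun _ => 0) 0 α0, by rw [Function.update_self]; exact hα0, fun i hi => absurd hi (Nat.not_lt_zero i)⟩
  | succ j ih =>
    obtain ⟨α, hα0, hα⟩ := ih
    haveI := projective_quot (R := R) (t := t) (ι := L.ι (j + 1)) m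
    have hr : ∀ x, α j (dE L m j x) ∈ LinearMap.range (dP P j) := by
      intro x
      cases j with
      | zero =>
        refine LinearMap.mem_range.2 ((exact_pi0 P _).1 ?_)
        rw [show pi0 P (α 0 (dE L m 0 x)) = _ from LinearMap.congr_fun hα0 _, (exact_augE L m).apply_apply_eq_zero]
      | succ k =>
        refine LinearMap.mem_range.2 ((exact_dP P k _).1 ?_)
        rw [show dP P k (α (k + 1) (dE L m (k + 1) x)) = _ from
            LinearMap.congr_fun (hα k (Nat.lt_succ_self k)) _, LinearMap.comp_apply]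
        obtain ⟨v, rfl⟩ := Submodule.Quotient.mk_surjective _ x
        rw [show dE L m k (dE L m (k + 1) (Submodule.Quotient.mk v)) = Submodule.Quotient.mk (L.d k (L.d (k + 1) v)) from rfl,
          (L.exact_succ k).apply_apply_eq_zero, Submodule.Quotient.mk_zero, map_zero]
    obtain ⟨β, hβ⟩ := exists_lift (dP P j) (α j ∘ₗ dE L m j) hr
    refine ⟨Function.update α (j + 1) β, ?_, fun i hi => ?_⟩
    · rw [Function.update_of_ne (Nat.succ_ne_zero j).symm]
      exact hα0
    · rw [Function.update_of_ne (show i ≠ j + 1 by omega)]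
      rcases (Nat.lt_succ_iff_lt_or_eq.1 hi) with hi | rfl
      · rw [Function.update_of_ne (show i + 1 ≠ j + 1 by omega)]
        exact hα i hi
      · rw [Function.update_self]
        exact hβ

/-- the reduction lifts to a map of resolutions vanishing above degree `t` -/
theorem exists_chainMap {c : ℕ}
    (hc : ∀ i m, ∀ z : E L (m + c) (i + 1), dE L (m + c) i z = 0 →
      push L (Nat.le_add_right m c) (i + 1) z ∈ LinearMap.range (dE L m (i + 1)))
    {m N : ℕ} (h : m + (t + 1) * c ≤ N)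
    (P : ProjectiveResolution (ModuleCat.of R (R ⧸ 𝕀 ^ N)))
    (P' : ProjectiveResolution (ModuleCat.of R (R ⧸ 𝕀 ^ m))) :
    ∃ g : P.complex ⟶ P'.complex,
      g ≫ P'.π = P.π ≫ (ChainComplex.single₀ _).map (ModuleCat.ofHom (red ((Nat.le_add_right m _).trans h))) ∧
        g.f (t + 1) = 0 := by
  obtain ⟨φ, hφ0, hφ⟩ := exists_into L hc P (t + 1) m h
  obtain ⟨α, hα0, hα⟩ := exists_out L m P' (t + 1)
  have hE : ∀ x : E L m (t + 1), x = 0 := fun x => by
    obtain ⟨v, rfl⟩ := Submodule.Quotient.mk_surjective _ x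
    haveI := L.empty (t + 1) (Nat.lt_succ_self t)
    rw [show v = 0 from funext fun j => isEmptyElim j]
    rfl
  let g : ∀ i, P.complex.X i ⟶ P'.complex.X i := fun i => if i ≤ t then ModuleCat.ofHom (α i ∘ₗ φ i) else 0
  have hg : ∀ i, g (i + 1) ≫ P'.complex.d (i + 1) i = P.complex.d (i + 1) i ≫ g i := by
    intro i
    refine ModuleCat.hom_ext ?_
    rcases lt_trichotomy i t with hi | rfl | hi
    · simp only [g, if_pos (show i + 1 ≤ t by omega), if_pos hi.le, ModuleCat.hom_comp, ModuleCat.hom_ofHom]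
      show dP P' i ∘ₗ α (i + 1) ∘ₗ φ (i + 1) = (α i ∘ₗ φ i) ∘ₗ dP P i
      rw [← LinearMap.comp_assoc, hα i (by omega), LinearMap.comp_assoc, hφ i (by omega)]
      rfl
    · simp only [g, if_neg (Nat.not_succ_le_self i), if_pos le_rfl, ModuleCat.hom_comp, ModuleCat.hom_ofHom,
        ModuleCat.hom_zero, LinearMap.comp_zero]
      show 0 = (α i ∘ₗ φ i) ∘ₗ dP P i
      rw [LinearMap.comp_assoc, ← hφ i (Nat.lt_succ_self i)]
      refine (LinearMap.ext fun x => ?_)
      simp [hE (φ (i + 1) x)]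
    · simp only [g, if_neg (show ¬ i + 1 ≤ t by omega), if_neg (show ¬ i ≤ t by omega)]
      simp
  let gC : P.complex ⟶ P'.complex :=
    { f := g
      comm' := fun i j hij => by
        obtain rfl : j + 1 = i := hij
        exact hg j }
  refine ⟨gC, ?_, if_neg (Nat.not_succ_le_self t)⟩
  refine (ChainComplex.toSingle₀Equiv _ _).injective (Subtype.ext ?_)
  refine ModuleCat.hom_ext ?_
  have hg0 : g 0 = ModuleCat.ofHom (α 0 ∘ₗ φ 0) := if_pos (Nat.zero_le t)
  show ((gC ≫ P'.π).f 0).hom = ((P.π ≫ (ChainComplex.single₀ _).map _).f 0).hom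
  rw [HomologicalComplex.comp_f, HomologicalComplex.comp_f, ChainComplex.single₀_map_f_zero, show gC.f 0 = _ from hg0]
  show pi0 P' ∘ₗ α 0 ∘ₗ φ 0 = red ((Nat.le_add_right m _).trans h) ∘ₗ pi0 P
  rw [← LinearMap.comp_assoc, hα0, hφ0]

variable (f)

theorem tor_red_eq_zero : ∃ c : ℕ, ∀ (M : Type u) [AddCommGroup M] [Module R M] (n : ℕ), c ≤ n →
    (((Tor (ModuleCat.{u} R) (t + 1)).obj (ModuleCat.of R M)).map
      (ModuleCat.ofHom (red (f := f) (Nat.sub_le n c)))) = 0 := by
  obtain ⟨L⟩ := (ker_subst_all f) ▸ exists_res f t le_rfl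
  obtain ⟨c, hc⟩ := exists_shift L
  refine ⟨(t + 1) * c, fun M _ _ n hn => ?_⟩
  let P := projectiveResolution (ModuleCat.of R (R ⧸ 𝕀 ^ n))
  let P' := projectiveResolution (ModuleCat.of R (R ⧸ 𝕀 ^ (n - (t + 1) * c)))
  obtain ⟨g, hg, hg0⟩ := exists_chainMap L hc (Nat.sub_add_cancel hn).le P P'
  refine (Functor.leftDerived_map_eq ((MonoidalCategory.tensoringLeft _).obj (ModuleCat.of R M)) (t + 1) _ g hg).trans ?_
  have h0 : HomologicalComplex.homologyMap
      ((((MonoidalCategory.tensoringLeft _).obj (ModuleCat.of R M)).mapHomologicalComplex (ComplexShape.down ℕ)).map g) (t + 1) = 0 := by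
    rw [← cancel_epi (HomologicalComplex.homologyπ _ (t + 1)), HomologicalComplex.homologyπ_naturality, Limits.comp_zero]
    refine Eq.trans (congrArg (· ≫ _) ?_) Limits.zero_comp
    rw [← cancel_mono (HomologicalComplex.iCycles _ (t + 1)), HomologicalComplex.cyclesMap_i, Limits.zero_comp]
    refine Eq.trans (congrArg (_ ≫ ·) ?_) Limits.comp_zero
    exact (congrArg ((MonoidalCategory.tensoringLeft _).obj (ModuleCat.of R M)).map hg0).trans
      (Functor.map_zero ((MonoidalCategory.tensoringLeft _).obj (ModuleCat.of R M)) _ _)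
  simp only [Functor.comp_map, HomologicalComplex.homologyFunctor_map]
  rw [h0]
  exact ((congrArg _ Limits.zero_comp).trans Limits.comp_zero)

end Groth.L04.TorUniform
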